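import Cfsg.Agent.GStructB.CoprimeBase.CertA

/-!
# Part 2 of the search for certificate A
-/

set_option autoImplicit false
set_option maxRecDepth 100000
set_option maxHeartbeats 0

namespace Cfsg.Agent.GStructB.CoprimeBase

theorem certA_part3 : certA.searchPart 3 = true := by decide +kernel
theorem certA_part4 : certA.searchPart 4 = true := by decide +kernel

end Cfsg.Agent.GStructB.CoprimeBase
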