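import Cfsg.Agent.GStructB.CoprimeBase.CertA1
import Cfsg.Agent.GStructB.CoprimeBase.CertA2
import Cfsg.Agent.GStructB.CoprimeBase.CertA3

/-!
# The search for certificate A
-/

set_option autoImplicit false

namespace Cfsg.Agent.GStructB.CoprimeBase

theorem certA_search : certA.search = true := by
  refine Cert3.search_of_parts certA 7 (by decide +kernel) fun l hl => ?_
  interval_cases l
  · exact certA_part0
  · exact certA_part1
  · exact certA_part2
  · exact certA_part3
  · exact certA_part4
  · exact certA_part5
  · exact certA_part6

end Cfsg.Agent.GStructB.CoprimeBase
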