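import Cfsg.Agent.GStructB.CoprimeBase.CertB

/-!
# Part 3 of the search for certificate B
-/

set_option autoImplicit false
set_option maxRecDepth 100000
set_option maxHeartbeats 0

namespace Cfsg.Agent.GStructB.CoprimeBase

theorem certB_part6 : certB.searchPart 6 = true := by decide +kernel
theorem certB_part7 : certB.searchPart 7 = true := by decide +kernel
theorem certB_part8 : certB.searchPart 8 = true := by decide +kernel

end Cfsg.Agent.GStructB.CoprimeBase
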