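import Cfsg.Agent.GStructB.CoprimeBase.Cert

/-!
# The certificates in dimension four

Data found by a search, verified by evaluation in the kernel.
-/

set_option autoImplicit false
set_option maxRecDepth 100000
set_option maxHeartbeats 0

namespace Cfsg.Agent.GStructB.CoprimeBase

/-- The certificate `certC`. -/
def certC : Cert2 where
  q := 5
  n := 4
  gs := [[[(1, 0)], [(1, 1)], [(4, 2)], [(4, 3)]],
      [[(1, 2)], [(1, 3)], [(1, 0)], [(1, 1)]],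
      [[(1, 0)], [(4, 1)], [(1, 2)], [(4, 3)]],
      [[(1, 1)], [(1, 0)], [(1, 3)], [(1, 2)]]]
  vec := [0, 1, 1, 1]
  t₀ := 2
  t₁ := 8
  co := [0, 1, 2, 0]
  u := [3, 1, 2, 3]
  B := [[0, 1, 1, 1],
    [1, 1, 0, 1],
    [1, 0, 1, 1],
    [1, 1, 1, 0]]
  D := [[1, 2, 2, 2],
    [2, 2, 1, 2],
    [2, 1, 2, 2],
    [2, 2, 2, 1]]
  C₀ := [(0, [0, 1, 1, 1]),
    (1, [0, 1, 4, 4]),
    (2, [1, 1, 0, 1]),
    (4, [0, 4, 1, 4]),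
    (5, [0, 4, 4, 1]),
    (6, [1, 4, 0, 4]),
    (8, [1, 0, 1, 1]),
    (9, [1, 0, 4, 4]),
    (10, [1, 1, 1, 0]),
    (15, [1, 4, 4, 0]),
    (19, [2, 2, 0, 3]),
    (23, [2, 3, 0, 2]),
    (27, [2, 2, 3, 0]),
    (28, [2, 0, 2, 3]),
    (29, [2, 0, 3, 2]),
    (30, [2, 3, 2, 0]),
    (35, [3, 3, 0, 2]),
    (39, [3, 2, 0, 3]),
    (43, [3, 3, 2, 0]),
    (44, [3, 0, 3, 2]),
    (45, [3, 0, 2, 3]),
    (46, [3, 2, 3, 0]),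
    (48, [0, 4, 4, 4]),
    (49, [0, 4, 1, 1]),
    (50, [4, 4, 0, 4]),
    (52, [0, 1, 4, 1]),
    (53, [0, 1, 1, 4]),
    (54, [4, 1, 0, 1]),
    (56, [4, 0, 4, 4]),
    (57, [4, 0, 1, 1]),
    (58, [4, 4, 4, 0]),
    (63, [4, 1, 1, 0])]
  C₁ := [(0, [0, 1, 1, 1]),
    (1, [0, 1, 4, 4]),
    (2, [1, 1, 0, 1]),
    (4, [0, 4, 1, 4]),
    (5, [0, 4, 4, 1]),
    (6, [1, 4, 0, 4]),
    (8, [1, 0, 1, 1]),
    (9, [1, 0, 4, 4]),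
    (10, [1, 1, 1, 0]),
    (15, [1, 4, 4, 0]),
    (19, [2, 2, 0, 3]),
    (23, [2, 3, 0, 2]),
    (27, [2, 2, 3, 0]),
    (28, [2, 0, 2, 3]),
    (29, [2, 0, 3, 2]),
    (30, [2, 3, 2, 0]),
    (35, [3, 3, 0, 2]),
    (39, [3, 2, 0, 3]),
    (43, [3, 3, 2, 0]),
    (44, [3, 0, 3, 2]),
    (45, [3, 0, 2, 3]),
    (46, [3, 2, 3, 0]),
    (48, [0, 4, 4, 4]),
    (49, [0, 4, 1, 1]),
    (50, [4, 4, 0, 4]),
    (52, [0, 1, 4, 1]),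
    (53, [0, 1, 1, 4]),
    (54, [4, 1, 0, 1]),
    (56, [4, 0, 4, 4]),
    (57, [4, 0, 1, 1]),
    (58, [4, 4, 4, 0]),
    (63, [4, 1, 1, 0])]


/-- The certificate `certD`. -/
def certD : Cert2 where
  q := 3
  n := 4
  gs := [[[(1, 0)], [(1, 1)], [(2, 2)], [(2, 3)]],
      [[(1, 2)], [(1, 3)], [(1, 0)], [(1, 1)]],
      [[(2, 1)], [(1, 0)], [(2, 3)], [(1, 2)]],
      [[(1, 0), (1, 1)], [(1, 0), (2, 1)], [(1, 2), (1, 3)], [(1, 2), (2, 3)]]]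
  vec := [1, 0, 0, 0]
  t₀ := 2
  t₁ := 4
  co := [0, 1, 1, 0]
  u := [0, 1, 1, 0]
  B := [[1, 0, 0, 0],
    [0, 0, 1, 0],
    [0, 1, 0, 0],
    [0, 0, 0, 1]]
  D := [[1, 0, 0, 0],
    [0, 0, 1, 0],
    [0, 1, 0, 0],
    [0, 0, 0, 1]]
  C₀ := [(0, [1, 0, 0, 0]),
    (1, [1, 0, 0, 0]),
    (2, [0, 0, 1, 0]),
    (7, [0, 0, 0, 2]),
    (11, [0, 0, 2, 2]),
    (15, [0, 0, 1, 2]),
    (16, [2, 0, 0, 0]),
    (17, [2, 0, 0, 0]),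
    (18, [0, 0, 2, 0]),
    (23, [0, 0, 0, 1]),
    (27, [0, 0, 1, 1]),
    (31, [0, 0, 2, 1])]
  C₁ := [(3, [0, 0, 2, 0]),
    (4, [0, 1, 0, 0]),
    (5, [0, 1, 0, 0]),
    (6, [0, 0, 0, 1]),
    (8, [1, 1, 0, 0]),
    (9, [1, 1, 0, 0]),
    (10, [0, 0, 1, 1]),
    (12, [2, 1, 0, 0]),
    (13, [2, 1, 0, 0]),
    (14, [0, 0, 2, 1]),
    (19, [0, 0, 1, 0]),
    (20, [0, 2, 0, 0]),
    (21, [0, 2, 0, 0]),
    (22, [0, 0, 0, 2]),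
    (24, [2, 2, 0, 0]),
    (25, [2, 2, 0, 0]),
    (26, [0, 0, 2, 2]),
    (28, [1, 2, 0, 0]),
    (29, [1, 2, 0, 0]),
    (30, [0, 0, 1, 2])]

theorem certC_check : certC.check = true := by decide +kernel
theorem certD_check : certD.check = true := by decide +kernel

end Cfsg.Agent.GStructB.CoprimeBase
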