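import Cfsg.Agent.GStructB.CoprimeBase.Semireg

/-!
# Four classes in dimension two over a field with at least seven elements
-/

set_option autoImplicit false
set_option linter.style.haveILetI false
set_option linter.unusedSectionVars false

open MulAction

namespace Cfsg.Agent.GStructB.CoprimeBase

universe u v w

variable {K : Type u} [Field K] [Finite K] {G : Type v} [Group G] {V : Type w} [AddCommGroup V]
  [Finite V] [Module K V] [DistribMulAction G V] {M A : Subgroup G}

/-- Pairs above a free vector in dimension two. -/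
theorem qq_dim_two [Finite G] [Nontrivial V] {p : ℕ} [Fact p.Prime] [CharP K p] (hp : p ≠ 2)
    {c : ℕ} (hc : c ≤ 5) (hc3 : p = 3 → c ≤ 3) (hF : Frame K V M A) {m y : G} (hQ : Four K V M m y)
    (hdim : Module.finrank K V = 2) (hq : 7 ≤ Nat.card K) (hcop : (Nat.card A).Coprime p) :
    QQ V c M A := by
  classical
  have h2 := two_ne_zero_of_char (K := K) hp
  have hNq : Nat.card V = Nat.card K ^ 2 := by
    rw [Module.natCard_eq_pow_finrank (K := K) (V := V), hdim]
  -- eigenvectors of one class
  let E : Fin 3 → Set V := fun i => {x | ∃ k : K, word m y i • x = k • x}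
  have hE : ∀ i, (E i).ncard ≤ 2 * Nat.card K := by
    intro i
    obtain ⟨a, ha⟩ := hQ.word_sq hF i
    let L : V →ₗ[K] V :=
      { toFun := fun x => word m y i • x
        map_add' := fun x z => smul_add _ x z
        map_smul' := fun k x => hF.lin _ (hQ.word_mem i) k x }
    have hker : ∀ r : K, (LinearMap.ker (L - r • LinearMap.id) : Set V).ncard ≤ Nat.card K := by
      intro r
      have hne : LinearMap.ker (L - r • LinearMap.id) ≠ ⊤ := fun e =>
        hQ.word_not_scal hF h2 i ⟨r, fun x => by
          have h : x ∈ LinearMap.ker (L - r • LinearMap.id) := e ▸ Submodule.mem_top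
          rw [LinearMap.mem_ker, LinearMap.sub_apply, sub_eq_zero] at h
          exact h⟩
      have hlt := Submodule.finrank_lt hne
      rw [hdim] at hlt
      rw [← Nat.card_coe_set_eq]
      show Nat.card ↥(LinearMap.ker (L - r • LinearMap.id)) ≤ _
      rw [Module.natCard_eq_pow_finrank (K := K)]
      calc _ ≤ Nat.card K ^ 1 := Nat.pow_le_pow_right Nat.card_pos (by omega)
        _ = _ := pow_one _
    by_cases hex : ∃ x₀ : V, x₀ ≠ 0 ∧ ∃ k : K, word m y i • x₀ = k • x₀
    · obtain ⟨x₀, hx₀, k, hk⟩ := hex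
      have hsub : E i ⊆ (LinearMap.ker (L - k • LinearMap.id) : Set V) ∪
          (LinearMap.ker (L - (-k) • LinearMap.id) : Set V) := by
        rintro x ⟨l, hl⟩
        rcases eq_or_ne x 0 with rfl | hx
        · exact Or.inl (Submodule.zero_mem _)
        have key : ∀ (z : V) (r : K), z ≠ 0 → word m y i • z = r • z → r * r = a := by
          intro z r hz hr
          have h := ha z
          rw [mul_smul, hr, hF.lin _ (hQ.word_mem i), hr, smul_smul, ← sub_eq_zero, ← sub_smul] at h
          exact sub_eq_zero.mp ((smul_eq_zero.mp h).resolve_right hz)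
        rcases mul_self_eq_mul_self_iff.mp ((key x l hx hl).trans (key x₀ k hx₀ hk).symm) with rfl | rfl
        · refine Or.inl ?_
          show L x - l • x = 0
          exact sub_eq_zero.mpr hl
        · refine Or.inr ?_
          show L x - (-k) • x = 0
          exact sub_eq_zero.mpr hl
      refine (Set.ncard_le_ncard hsub (Set.toFinite _)).trans ((Set.ncard_union_le _ _).trans ?_)
      have h1 := hker k
      have h1' := hker (-k)
      omega
    · have hsub : E i ⊆ {0} := fun x hx => by
        by_contra h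
        exact hex ⟨x, h, hx⟩
      refine (Set.ncard_le_ncard hsub (Set.toFinite _)).trans ?_
      rw [Set.ncard_singleton]
      omega
  -- a vector that is no eigenvector
  obtain ⟨v, hvE⟩ : ∃ v : V, ∀ i, v ∉ E i := by
    by_contra h
    push Not at h
    have hall : (Set.univ : Set V) ⊆ E 0 ∪ E 1 ∪ E 2 := fun x _ => by
      obtain ⟨i, hi⟩ := h x
      fin_cases i
      · exact Or.inl (Or.inl hi)
      · exact Or.inl (Or.inr hi)
      · exact Or.inr hi
    have h' := Set.ncard_le_ncard hall (Set.toFinite _)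
    rw [Set.ncard_univ, hNq] at h'
    have h1 := Set.ncard_union_le (E 0 ∪ E 1) (E 2)
    have h3 := Set.ncard_union_le (E 0) (E 1)
    have := hE 0
    have := hE 1
    have := hE 2
    nlinarith
  have hv0 : v ≠ 0 := fun e => hvE 0 ⟨0, by rw [e, smul_zero, smul_zero]⟩
  have hvfree : Free V M v := by
    intro z hz e x
    rcases hQ.cover z hz with ⟨k, hk⟩ | ⟨k, i, hk⟩
    · have hk1 : k = 1 := by
        have h := hk v
        rw [e] at h
        have h' : (k - 1) • v = 0 := by rw [sub_smul, one_smul, ← h, sub_self]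
        exact sub_eq_zero.mp ((smul_eq_zero.mp h').resolve_right hv0)
      rw [hk, hk1, one_smul]
    · exfalso
      have hk0 : k ≠ 0 := fun e0 => hv0 (by rw [← e, hk, e0, zero_smul])
      refine hvE i ⟨k⁻¹, ?_⟩
      have h := hk v
      rw [e] at h
      conv_rhs => rw [h]
      rw [smul_smul, inv_mul_cancel₀ hk0, one_smul]
  -- coordinates in the basis given by one class
  have hbasis : ∀ i, ∀ x : V, ∃ α β : K, x = α • v + β • word m y i • v := by
    intro i
    have hinj : Function.Injective fun p : K × K => p.1 • v + p.2 • word m y i • v := by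
      intro p q e
      simp only at e
      have e' : (p.2 - q.2) • word m y i • v = (q.1 - p.1) • v := by
        rw [sub_smul, sub_smul, sub_eq_sub_iff_add_eq_add, add_comm, e]
      by_cases h : p.2 = q.2
      · rw [h] at e
        exact Prod.ext (smul_left_injective K hv0 (add_right_cancel e)) h
      · refine absurd ⟨(p.2 - q.2)⁻¹ * (q.1 - p.1), ?_⟩ (hvE i)
        rw [mul_smul, ← e', smul_smul, inv_mul_cancel₀ (sub_ne_zero.mpr h), one_smul]
    have hsurj := ((Nat.bijective_iff_injective_and_card _).mpr ⟨hinj, by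
      rw [Nat.card_prod, hNq, sq]⟩).2
    intro x
    obtain ⟨p, hp⟩ := hsurj x
    exact ⟨p.1, p.2, hp.symm⟩
  have htriv : ∀ (g : G) i, (∀ (k : K) (x : V), g • k • x = k • g • x) → g • v = v →
      g • word m y i • v = word m y i • v → ∀ x : V, g • x = x := by
    intro g i hlin hgv hgw x
    obtain ⟨α, β, rfl⟩ := hbasis i x
    rw [smul_add, hlin, hlin, hgv, hgw]
  have hcls : ∀ a ∈ A, a • v = v → (∀ (k : K) (x : V), a • k • x = k • a • x) →
      (∀ i, hQ.cls hF h2 a i = i) → ∀ x : V, a • x = x := by
    intro a ha hav hlin hfix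
    obtain ⟨w, hw, hcw⟩ := hQ.exists_twist hF h2 ha hlin hfix
    rcases hQ.cover w hw with ⟨k, hk⟩ | ⟨k, i, hk⟩
    · refine htriv a 0 hlin hav ?_
      have hk0 := scal_ne_zero hk
      have h := hcw m hQ.mM v
      rw [mul_smul, mul_smul, hk, hk, hlin, hlin, hF.lin m hQ.mM, hav] at h
      exact smul_right_injective V hk0 h
    · refine htriv a i hlin hav ?_
      have hk0 : k ≠ 0 := fun e0 => hv0 (by
        have h := hk v
        rwa [e0, zero_smul, smul_eq_zero_iff_eq] at h)
      obtain ⟨z, hz⟩ := MulAction.surjective (word m y i) v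
      have h := hcw _ (hQ.word_mem i) z
      change (a * w) • word m y i • z = word m y i • (a * w) • z at h
      rw [mul_smul, mul_smul, hk, hk, hlin, hlin, hF.lin _ (hQ.word_mem i)] at h
      have h' := smul_right_injective V hk0 h
      change word m y i • z = v at hz
      rw [hz, hav] at h'
      exact h'
  have hcomm : ∀ a ∈ A, ∀ b ∈ A, a • v = v → b • v = v → (∀ (k : K) (x : V), a • k • x = k • a • x) →
      (∀ (k : K) (x : V), b • k • x = k • b • x) → ∀ x : V, a • b • x = b • a • x := by
    intro a ha b hb hav hbv hla hlb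
    obtain ⟨a1, b1, he1⟩ := hbasis 0 (a • word m y 0 • v)
    obtain ⟨a2, b2, he2⟩ := hbasis 0 (b • word m y 0 • v)
    set e := word m y 0 • v
    obtain ⟨δ, hδ⟩ : ∃ δ, δ = (a1 + b1 * a2) - (a2 + b2 * a1) := ⟨_, rfl⟩
    have hab : a • b • e = b • a • e + (-δ) • v := by
      have L1 : a • b • e = a2 • v + b2 • (a1 • v + b1 • e) := by
        rw [he2, smul_add, hla, hla, hav, he1]
      have L2 : b • a • e = a1 • v + b1 • (a2 • v + b2 • e) := by
        rw [he1, smul_add, hlb, hlb, hbv, he2]
      rw [L1, L2, hδ]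
      generalize e = E
      module
    obtain ⟨z, hzdef⟩ : ∃ z, z = (b * a)⁻¹ * (a * b) := ⟨_, rfl⟩
    have hzA : z ∈ A := hzdef ▸ A.mul_mem (A.inv_mem (A.mul_mem hb ha)) (A.mul_mem ha hb)
    have hzv : z • v = v := by
      rw [hzdef, mul_smul, mul_smul, hbv, hav, inv_smul_eq_iff, mul_smul, hav, hbv]
    have hze : z • e = e + (-δ) • v := by
      rw [hzdef, mul_smul, mul_smul, inv_smul_eq_iff, mul_smul, hab, smul_add, hla, hav, smul_add, hlb,
        hbv]
    have hzlin : ∀ (k : K) (x : V), z • k • x = k • z • x := fun k x => by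
      rw [hzdef, mul_smul, mul_smul, mul_smul, mul_smul, hlb, hla, inv_smul_eq_iff, mul_smul, hla, hlb]
      congr 1
      rw [← mul_smul (α := G) b a, smul_inv_smul]
    have hpow : ∀ n : ℕ, z ^ n • e = e + ((n : K) * (-δ)) • v := by
      intro n
      induction n with
      | zero => simp
      | succ n ih =>
        rw [pow_succ', mul_smul, ih, smul_add, hze, hzlin, hzv, Nat.cast_succ, add_assoc, ← add_smul]
        congr 2
        ring
    have hδ0 : -δ = 0 := by
      have h := hpow (orderOf z)
      rw [pow_orderOf_eq_one, one_smul] at h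
      have h' := smul_eq_zero.mp (left_eq_add.mp h)
      refine (mul_eq_zero.mp (h'.resolve_right hv0)).resolve_left fun hn => ?_
      have hdvd := (CharP.cast_eq_zero_iff K p _).mp hn
      have hA : orderOf z ∣ Nat.card A := by
        rw [show orderOf z = orderOf (⟨z, hzA⟩ : A) from Subgroup.orderOf_coe (⟨z, hzA⟩ : A)]
        exact orderOf_dvd_natCard _
      exact (Fact.out : p.Prime).not_dvd_one ((Nat.Coprime.eq_one_of_dvd (hcop.symm) (hdvd.trans hA)).symm ▸ dvd_rfl)
    intro x
    obtain ⟨α, β, rfl⟩ := hbasis 0 x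
    have L1 : a • b • (α • v + β • e) = α • v + β • a • b • e := by
      rw [smul_add b, hlb, hlb, hbv, smul_add, hla, hla, hav]
    have L2 : b • a • (α • v + β • e) = α • v + β • b • a • e := by
      rw [smul_add a, hla, hla, hav, smul_add, hlb, hlb, hbv]
    rw [L1, L2, hab, hδ0, zero_smul, add_zero]
  obtain ⟨hL, hsemi⟩ := hQ.stab_le_comm hF h2 hcls hcomm
  let Z : Set V := insert 0 (Set.range fun p : Option (Fin 3) × Kˣ =>
    (p.2 : K) • (p.1.elim v fun i => word m y i • v))
  have hKZ : ∀ k : K, k • v ∈ Z := fun k => by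
    rcases eq_or_ne k 0 with rfl | hk
    · exact Or.inl (zero_smul K v)
    · exact Or.inr ⟨(none, Units.mk0 k hk), rfl⟩
  refine qq_of_fibre hvfree Z (Set.mem_insert _ _) (fun z hz => ?_) hL
    (e := 3 * (Nat.card (K →+* K) - 1)) ?_ (r := Nat.card K) (fun a ha hav hne => ?_) ?_
  · rcases hQ.cover z hz with ⟨k, hk⟩ | ⟨k, i, hk⟩
    · exact hk v ▸ hKZ k
    · refine Or.inr ⟨(some i, Units.mk0 k fun e0 => ?_), (hk v).symm⟩
      have h := hk v
      rw [e0, zero_smul, smul_eq_zero_iff_eq] at h
      exact hv0 h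
  · refine le_trans (Set.ncard_le_ncard (fun f hf => ?_) (Set.toFinite _)) hsemi
    obtain ⟨⟨a, ha, hav, rfl⟩, ⟨x, hx⟩, u, hu, huZ⟩ := hf
    refine ⟨a, ha, hav, fun hσ => hx ?_, rfl⟩
    have hlin : ∀ (k : K) (x : V), a • k • x = k • a • x := fun k x => by
      rw [hF.sig_spec, hσ]; rfl
    obtain ⟨α, β, huab⟩ := hbasis 0 u
    refine htriv a 0 hlin hav ?_ x
    have hβ : β ≠ 0 := fun e => huZ (by rw [huab, e, zero_smul, add_zero]; exact hKZ α)
    have h : a • u = u := hu
    rw [huab, smul_add, hlin, hlin, hav] at h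
    exact smul_right_injective V hβ (add_left_cancel h)
  · refine le_trans (Set.ncard_le_ncard (fun u hu => hu.1) (Set.toFinite _)) ?_
    by_cases hσ : ∃ k : K, hF.sig a k ≠ k
    · have h := fix_sq_semilinear (V := V) (hF.sig_spec a) hσ
      rw [hNq] at h
      exact le_of_pow_le_pow_left₀ two_ne_zero (Nat.zero_le _) h
    · push Not at hσ
      have hlin : ∀ (k : K) (x : V), a • k • x = k • a • x := fun k x => by rw [hF.sig_spec, hσ]
      refine le_trans (Set.ncard_le_ncard (fun u hu => ?_) (Set.toFinite _)) (range_smul_ncard (K := K) v)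
      obtain ⟨α, β, huab⟩ := hbasis 0 u
      rcases eq_or_ne β 0 with hβ | hβ
      · exact ⟨α, by rw [huab, hβ, zero_smul, add_zero]⟩
      · exfalso
        obtain ⟨x, hx⟩ := hne
        have h : a • u = u := hu
        rw [huab, smul_add, hlin, hlin, hav] at h
        exact hx (htriv a 0 hlin hav (smul_right_injective V hβ (add_left_cancel h)) x)
  · haveI : Finite (K →+* K) := Finite.of_injective _ DFunLike.coe_injective
    have hZ : Z.ncard ≤ 4 * (Nat.card K - 1) + 1 := by
      refine (Set.ncard_insert_le _ _).trans (Nat.add_le_add_right ?_ 1)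
      rw [← Nat.card_coe_set_eq]
      refine (Nat.card_le_card_of_surjective _ Set.rangeFactorization_surjective).trans (le_of_eq ?_)
      rw [Nat.card_prod, Nat.card_units, Nat.card_eq_fintype_card (α := Option (Fin 3))]
      simp
    have hpow := pow_ringHom_le (K := K) p
    have hf0 := ringHom_card_pos (K := K)
    have hp3 : 3 ≤ p := by have := (Fact.out : p.Prime).two_le; omega
    obtain ⟨f, hfe⟩ : ∃ f, Nat.card (K →+* K) = f + 1 := ⟨_, (Nat.succ_pred_eq_of_pos hf0).symm⟩
    obtain ⟨c', hc'⟩ : ∃ c', c' = (c - 1) := ⟨_, rfl⟩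
    rw [hfe] at hpow ⊢
    rw [Nat.add_sub_cancel, hNq, ← hc']
    obtain ⟨q, hqe⟩ : ∃ q, Nat.card K = q + 1 := ⟨_, (Nat.succ_pred_eq_of_pos (by omega)).symm⟩
    rw [hqe] at hZ hq hpow ⊢
    rw [Nat.add_sub_cancel] at hZ
    have hC : c' * (3 * (f + 1)) ≤ 4 * (3 * (f + 1)) := Nat.mul_le_mul_right _ (by omega)
    rcases (show f = 0 ∨ f = 1 ∨ 2 ≤ f by omega) with rfl | rfl | hf2
    · nlinarith [Nat.mul_le_mul_right (q + 1) hq]
    · rcases eq_or_ne p 3 with h3 | h3
      · have hC2 : c' * (3 * (1 + 1)) ≤ 2 * (3 * (1 + 1)) :=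
          Nat.mul_le_mul_right _ (by have := hc3 h3; omega)
        subst h3
        have h9 : 9 ≤ q + 1 := by norm_num at hpow; omega
        nlinarith [Nat.mul_le_mul_right (q + 1) h9]
      · have hp5 : 5 ≤ p := by
          rcases (show p = 4 ∨ 5 ≤ p by omega) with h | h
          · have := (Fact.out : p.Prime); rw [h] at this; norm_num at this
          · exact h
        have h25 : 25 ≤ q + 1 := le_trans (le_trans (by norm_num) (Nat.pow_le_pow_left hp5 (1 + 1))) hpow
        nlinarith [Nat.mul_le_mul_right (q + 1) h25]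
    · have h8 : ∀ f, 2 ≤ f → 8 * (f + 1) ≤ 3 ^ (f + 1) := by
        intro f hf
        induction f, hf using Nat.le_induction with
        | base => norm_num
        | succ f hf ih => rw [pow_succ]; omega
      have h9 := (h8 f hf2).trans ((Nat.pow_le_pow_left hp3 _).trans hpow)
      have h24 : 24 ≤ q + 1 := le_trans (by omega) h9
      nlinarith [Nat.mul_le_mul_right (q + 1) h9, Nat.mul_le_mul_right (q + 1) h24]

end Cfsg.Agent.GStructB.CoprimeBase
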