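import Cfsg.Agent.GStructB.CoprimeBase.Steps
import Cfsg.Agent.GStructB.CoprimeBase.DimTwo

/-!
# The recursion on eigenspaces
-/

set_option autoImplicit false
set_option linter.style.haveILetI false
set_option linter.unusedSectionVars false

open MulAction

namespace Cfsg.Agent.GStructB.CoprimeBase

universe u v w

section defs

variable (K : Type u) [Field K] {G : Type v} [Group G] (V : Type w) [AddCommGroup V] [Module K V]
  [DistribMulAction G V]

/-- Dimension two and not scalar. -/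
def Exc2 (M : Subgroup G) : Prop := Module.finrank K V = 2 ∧ ∃ z ∈ M, ¬ IsScal K V z

/-- Dimension four, with an exceptional fixed space. -/
def Exc4 (M : Subgroup G) : Prop :=
  Module.finrank K V = 4 ∧ ∃ (s : ℕ) (d X : G) (ζ ξ : K), IsSplit V M s d X ζ ξ ∧
    ∃ hlin : ∀ (k : K) (x : V), d • k • x = k • d • x,
      Exc2 K (fixSpace K V d hlin) (M.subgroupOf (fixStab V d))

/-- The cases without the tuples needed by the recursion. -/
def Exc (M : Subgroup G) : Prop :=
  (Nat.card K = 3 ∧ (Exc2 K V M ∨ Exc4 K V M)) ∨ (Nat.card K = 5 ∧ Exc2 K V M)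

/-- Over five elements scalar squares in `M` are squares of scalars. -/
def SqCond (M : Subgroup G) : Prop :=
  Nat.card K = 5 → ∀ m ∈ M, IsScal K V (m ^ 2) → ∃ k : K, ∀ x : V, m ^ 2 • x = k ^ 2 • x

end defs

/-- The tuples over three elements in dimension eight. -/
def BaseThree : Prop :=
  ∀ (K : Type u) [Field K] [Finite K] (G : Type u) [Group G] [Finite G] (V : Type u) [AddCommGroup V]
    [Finite V] [Module K V] [DistribMulAction G V] (M A : Subgroup G),
    Frame K V M A → Nat.card K = 3 → (Nat.card A).Coprime 3 → Module.finrank K V = 8 →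
    ∀ (s : ℕ) (d X : G) (ζ ξ : K), IsSplit V M s d X ζ ξ →
    ∀ hlin : ∀ (k : K) (x : V), d • k • x = k • d • x,
      Exc4 K (fixSpace K V d hlin) (M.subgroupOf (fixStab V d)) → TT V 3 M A

/-- The pairs over five elements in dimension four. -/
def BaseFive : Prop :=
  ∀ (K : Type u) [Field K] [Finite K] (G : Type u) [Group G] [Finite G] (V : Type u) [AddCommGroup V]
    [Finite V] [Module K V] [DistribMulAction G V] (M A : Subgroup G),
    Frame K V M A → Nat.card K = 5 → (Nat.card A).Coprime 5 → SqCond K V M → Module.finrank K V = 4 →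
    ∀ (s : ℕ) (d X : G) (ζ ξ : K), IsSplit V M s d X ζ ξ →
    ∀ hlin : ∀ (k : K) (x : V), d • k • x = k • d • x,
      Exc2 K (fixSpace K V d hlin) (M.subgroupOf (fixStab V d)) → QQ V 5 M A

section facts

variable {K : Type u} [Field K] {G : Type v} [Group G] {V : Type w} [AddCommGroup V] [Module K V]
  [DistribMulAction G V] {M A : Subgroup G}

theorem scal_of_finrank_one [Finite V] (hF : Frame K V M A) (h1 : Module.finrank K V = 1) {z : G}
    (hz : z ∈ M) : IsScal K V z := by
  haveI : Module.Finite K V := Module.Finite.of_finite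
  obtain ⟨x₀, hx₀, hspan⟩ := finrank_eq_one_iff'.mp h1
  obtain ⟨k, hk⟩ := hspan (z • x₀)
  refine ⟨k, fun x => ?_⟩
  obtain ⟨l, rfl⟩ := hspan x
  rw [hF.lin z hz, ← hk, smul_smul, smul_smul, mul_comm]

theorem semireg_of_scal (h : ∀ z ∈ M, IsScal K V z) : Semireg V M := by
  intro v hv z hz e x
  obtain ⟨k, hk⟩ := h z hz
  have hk1 : k = 1 := by
    have h' := hk v
    rw [e] at h'
    have h'' : (k - 1) • v = 0 := by rw [sub_smul, one_smul, ← h', sub_self]
    exact sub_eq_zero.mp ((smul_eq_zero.mp h'').resolve_right hv)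
  rw [hk, hk1, one_smul]

namespace IsSplit

variable {s : ℕ} {d X : G} {ζ ξ : K} (hS : IsSplit V M s d X ζ ξ) (hF : Frame K V M A) [Finite K]
include hS hF

theorem not_scal : ¬ IsScal K V d := by
  rintro ⟨k, hk⟩
  obtain ⟨x, hx0, hx⟩ := hS.fix
  have hk1 : k = 1 := by
    have h := hk x
    rw [hx] at h
    have h' : (k - 1) • x = 0 := by rw [sub_smul, one_smul, ← h, sub_self]
    exact sub_eq_zero.mp ((smul_eq_zero.mp h').resolve_right hx0)
  apply hS.zeta_ne
  have h := hS.comm x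
  rw [hx, hk, hk1, one_smul] at h
  have hne' : X • x ≠ 0 := by rwa [ne_eq, smul_eq_zero_iff_eq]
  have h' : (ζ - 1) • (X • x) = 0 := by rw [sub_smul, one_smul, ← h, sub_self]
  exact sub_eq_zero.mp ((smul_eq_zero.mp h').resolve_right hne')

omit hF in
theorem dvd_card_sub_one : s ∣ Nat.card K - 1 := by
  haveI := Fact.mk hS.prime
  rw [← Nat.card_units, ← orderOf_eq_prime hS.zeta_pow hS.zeta_ne]
  rw [show orderOf ζ = orderOf (Units.mk0 ζ hS.zeta_ne_zero) from orderOf_units (y := Units.mk0 ζ hS.zeta_ne_zero)]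
  exact orderOf_dvd_natCard _

theorem card_two (hs : s = 2) : Nat.card V = Nat.card (hS.W hF) ^ 2 := by
  subst hs
  rw [sq, ← Nat.card_prod]
  refine (Nat.card_eq_of_bijective (fun p : hS.W hF × hS.W hF => (p.1 : V) + X • (p.2 : V)) ⟨?_, ?_⟩).symm
  · intro p q e
    simp only at e
    have hp : ∀ r : hS.W hF, d • X ^ 1 • (r : V) = ζ ^ 1 • X ^ 1 • (r : V) := fun r =>
      hS.eigen_translate hF r.2 1
    have h0 : ∀ r : hS.W hF, d • (r : V) = ζ ^ 0 • (r : V) := fun r => by
      rw [pow_zero, one_smul]; exact r.2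
    have e0 := congrArg (hS.proj 0) e
    have e1 := congrArg (hS.proj 1) e
    have hX1 : ∀ y : V, X • y = X ^ 1 • y := fun y => by rw [pow_one]
    rw [hX1, hX1] at e0 e1
    simp only [hS.proj_add, hS.proj_eigen hF (h0 _), hS.proj_eigen hF (hp _)] at e0 e1
    simp at e0 e1
    exact Prod.ext e0 e1
  · intro x
    obtain ⟨f, hf, rfl⟩ := hS.exists_decomp hF x
    refine ⟨(⟨f 0, hf 0⟩, ⟨f 1, hf 1⟩), ?_⟩
    simp [Finset.sum_range_succ]

theorem finrank_two [Finite V] (hs : s = 2) : Module.finrank K V = 2 * Module.finrank K (hS.W hF) := by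
  have h := hS.card_two hF hs
  rw [Module.natCard_eq_pow_finrank (K := K) (V := V),
    Module.natCard_eq_pow_finrank (K := K) (V := hS.W hF), ← pow_mul, mul_comm] at h
  exact Nat.pow_right_injective Finite.one_lt_card h

theorem card_W_lt [Finite V] : Nat.card (hS.W hF) < Nat.card V := by
  refine lt_of_le_of_ne (Nat.card_le_card_of_injective _ Subtype.val_injective) fun e => ?_
  have hsurj := ((Nat.bijective_iff_injective_and_card _).mpr
    ⟨(Subtype.val_injective : Function.Injective (fun x : hS.W hF => (x : V))), e⟩).2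
  refine hS.not_scal hF ⟨1, fun x => ?_⟩
  obtain ⟨w, rfl⟩ := hsurj x
  rw [one_smul]
  exact w.2

theorem sqCond_fix (h : SqCond K V M) :
    SqCond K (hS.W hF) (M.subgroupOf (fixStab V d)) := by
  intro h5 m hm hsq
  have hs2 : s = 2 := by
    have hd : s ∣ 2 ^ 2 := by have := hS.dvd_card_sub_one; rwa [h5] at this
    exact (Nat.prime_dvd_prime_iff_eq hS.prime Nat.prime_two).mp (hS.prime.dvd_of_dvd_pow hd)
  obtain ⟨l, hl⟩ := hsq
  have hscal : IsScal K V ((m : G) ^ 2) := by
    obtain ⟨x₀, hx0, hx⟩ := hS.fix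
    have hlW : ∀ y : V, d • y = y → (m : G) ^ 2 • y = l • y := fun y hy =>
      congrArg Subtype.val (hl ⟨y, hy⟩)
    have hl0 : l ≠ 0 := by
      rintro rfl
      have h := hlW x₀ hx
      rw [zero_smul, smul_eq_zero_iff_eq] at h
      exact hx0 h
    obtain ⟨n, hn, hnk⟩ := hF.scal l⁻¹ (inv_ne_zero hl0)
    obtain ⟨j, -, hj⟩ := hS.eq_dpow hF (M.mul_mem hn (M.pow_mem (show (m : G) ∈ M from hm) 2)) fun y hy => by
      rw [mul_smul, hlW y hy, hnk, smul_smul, inv_mul_cancel₀ hl0, one_smul]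
    refine hF.expo _ (show (m : G) ∈ M from hm) 2 Nat.prime_two ⟨l * l, fun y => ?_⟩
    have h1 : ∀ y : V, (m : G) ^ 2 • y = l • d ^ j • y := fun y => by
      rw [← hj, mul_smul, hnk, smul_smul, mul_inv_cancel₀ hl0, one_smul]
    rw [show (2 * 2 : ℕ) = 2 + 2 from rfl, pow_add, mul_smul, h1 y,
      hF.lin _ (M.pow_mem (show (m : G) ∈ M from hm) 2), h1, smul_smul, ← mul_smul (α := G), ← pow_add, ← two_mul,
      mul_comm 2 j, pow_mul', ← hs2]
    congr 1
    exact (stabilizer G y).pow_mem (show d ^ s ∈ stabilizer G y from hS.d_pow y) _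
  obtain ⟨k, hk⟩ := h h5 _ hm hscal
  exact ⟨k, fun x => Subtype.ext (by
    show (((m : fixStab V d) ^ 2 : fixStab V d) : G) • (x : V) = k ^ 2 • (x : V)
    rw [SubgroupClass.coe_pow]; exact hk x.1)⟩

/-- Four classes when the fixed space is a line. -/
theorem four_of_line [Finite V] (hs : s = 2) (h1 : Module.finrank K (hS.W hF) = 1) : Four K V M d X := by
  subst hs
  haveI := hS.W_nontrivial hF
  have hζ : ζ = -1 := neg_of_sq_one (by rw [← sq]; exact hS.zeta_pow) hS.zeta_ne
  refine ⟨hS.d_mem, hS.X_mem, ⟨1, fun x => by rw [← sq, hS.d_pow, one_smul]⟩,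
    ⟨ξ, fun x => by rw [← sq]; exact hS.X_pow x⟩, fun x => by rw [hS.comm, hζ, neg_one_smul], fun z hz => ?_⟩
  obtain ⟨i, hi, hiS⟩ := hS.cover hF hz
  have hyM : (X ^ i)⁻¹ * z ∈ M := M.mul_mem (M.inv_mem (M.pow_mem hS.X_mem i)) hz
  obtain ⟨k, hk⟩ := scal_of_finrank_one (hS.frame_fix hF) h1 (z := ⟨_, hiS⟩) hyM
  obtain ⟨x₀, hx0, hx⟩ := hS.fix
  have hk0 := scal_ne_zero hk
  obtain ⟨n, hn, hnk⟩ := hF.scal k⁻¹ (inv_ne_zero hk0)
  obtain ⟨j, hj, hjd⟩ := hS.eq_dpow hF (M.mul_mem hn hyM) fun y hy => by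
    have h := congrArg Subtype.val (hk ⟨y, hy⟩)
    change ((X ^ i)⁻¹ * z) • y = k • y at h
    rw [mul_smul, h, hnk, smul_smul, inv_mul_cancel₀ hk0, one_smul]
  have hzx : ∀ x : V, z • x = k • X ^ i • d ^ j • x := fun x => by
    rw [← hF.lin _ (M.pow_mem hS.X_mem i), ← hjd, mul_smul n, hnk, smul_smul, mul_inv_cancel₀ hk0,
      one_smul, mul_smul, smul_inv_smul]
  interval_cases i <;> interval_cases j
  · exact Or.inl ⟨k, fun x => by rw [hzx]; simp⟩
  · exact Or.inr ⟨k, 0, fun x => by rw [hzx]; simp [word]⟩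
  · exact Or.inr ⟨k, 1, fun x => by rw [hzx]; simp [word]⟩
  · refine Or.inr ⟨-k, 2, fun x => ?_⟩
    show z • x = -k • (d * X) • x
    rw [hzx, pow_one, pow_one, mul_smul, hS.comm, hζ, neg_one_smul, smul_neg, neg_smul, neg_neg]

end IsSplit

end facts

section node

variable {K : Type u} [Field K] [Finite K]

theorem seven_le {p : ℕ} [Fact p.Prime] [CharP K p] (hp : p ≠ 2) (h3 : Nat.card K ≠ 3) (h5 : Nat.card K ≠ 5) :
    7 ≤ Nat.card K := by
  haveI := Fintype.ofFinite K
  have hodd : Nat.card K % 2 = 1 := by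
    rw [Nat.card_eq_fintype_card]
    refine FiniteField.odd_card_of_char_ne_two fun h => hp ?_
    exact (ringChar.eq K p).symm.trans h
  have := three_le_card (K := K) hp
  omega

/-- One splitting: pairs, or the exceptional cases over three or five elements. -/
theorem node_split {p : ℕ} [Fact p.Prime] (hp : p ≠ 2) [CharP K p] {G : Type u} [Group G] [Finite G]
    {V : Type u} [AddCommGroup V] [Finite V] [Module K V] [DistribMulAction G V] {M A : Subgroup G}
    (hF : Frame K V M A) (hs : Group.IsSolvable A) (hcop : (Nat.card A).Coprime p)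
    (hexp : ∀ x : V, p • x = 0) (hsq : SqCond K V M)
    (h7 : ∀ z ∈ M, ¬ IsScal K V z → Module.finrank K V = 2 → 7 ≤ Nat.card K)
    {s : ℕ} {d X : G} {ζ ξ : K} (hS : IsSplit V M s d X ζ ξ)
    (hWmain : ∀ m < Nat.card V, MainOK.{u} p m)
    (hrec : ∀ (G' : Type u) [Group G'] [Finite G'] (V' : Type u) [AddCommGroup V'] [Finite V'] [Module K V']
      [DistribMulAction G' V'] (M' A' : Subgroup G'), Nat.card V' < Nat.card V → Frame K V' M' A' →
      Group.IsSolvable A' → (Nat.card A').Coprime p → (∀ x : V', p • x = 0) →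
      (∀ m ≤ Nat.card V', MainOK.{u} p m) → 2 ≤ Module.finrank K V' → ¬ Exc K V' M' → SqCond K V' M' →
      TT V' (cnum p) M' A' ∧ (7 ≤ Nat.card K → QQ V' (cnum p) M' A')) :
    QQ V (cnum p) M A ∨ (s = 2 ∧ 2 ≤ Module.finrank K (hS.W hF) ∧
      Exc K (hS.W hF) (M.subgroupOf (fixStab V d))) := by
  have hc : cnum p ≤ 5 := by rcases cnum_cases p with h | h <;> omega
  have hc3 : p = 3 → cnum p ≤ 3 := fun h => by simp [cnum, h]
  haveI := hS.W_nontrivial hF
  haveI : Nontrivial V := by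
    obtain ⟨x, hx0, -⟩ := hS.fix
    exact ⟨⟨x, 0, hx0⟩⟩
  have hWlt := hS.card_W_lt hF
  have hexpW : ∀ x : hS.W hF, p • x = 0 := fun x => Subtype.ext (by
    rw [Submodule.coe_smul_of_tower]; exact hexp x.1)
  have hsA : Group.IsSolvable (A.subgroupOf (fixStab V d)) :=
    haveI := hs
    Group.isSolvable_of_isSolvable_injective
      (f := ((fixStab V d).subtype.comp (A.subgroupOf (fixStab V d)).subtype).codRestrict A fun x => x.2)
      fun a b e => Subtype.ext (Subtype.ext (congrArg Subtype.val e :))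
  have hcopA : (Nat.card (A.subgroupOf (fixStab V d))).Coprime p := by
    refine hcop.coprime_dvd_left ?_
    exact Subgroup.card_dvd_of_injective
      (((fixStab V d).subtype.comp (A.subgroupOf (fixStab V d)).subtype).codRestrict A fun x => x.2)
      fun a b e => Subtype.ext (Subtype.ext (congrArg Subtype.val e :))
  have hr := fun (h1 : 2 ≤ Module.finrank K (hS.W hF))
      (h2 : ¬ Exc K (hS.W hF) (M.subgroupOf (fixStab V d))) =>
    hrec (fixStab V d) (hS.W hF) _ _ hWlt (hS.frame_fix hF) hsA hcopA hexpW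
      (fun m hm => hWmain m (lt_of_le_of_lt hm hWlt)) h1 h2 (hS.sqCond_fix hF hsq)
  rcases (show s = 2 ∨ 3 ≤ s by have := hS.two_le; omega) with hs2 | hs3
  · have hn := hS.finrank_two hF hs2
    rcases (show Module.finrank K (hS.W hF) = 1 ∨ 2 ≤ Module.finrank K (hS.W hF) by
      have h0 : 0 < Module.finrank K (hS.W hF) := Module.finrank_pos
      omega) with h1 | h1
    · exact Or.inl (qq_dim_two hp hc hc3 hF (hS.four_of_line hF hs2 h1) (by omega)
        (h7 d hS.d_mem (hS.not_scal hF) (by omega)) hcop)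
    by_cases hexW : Exc K (hS.W hF) (M.subgroupOf (fixStab V d))
    · exact Or.inr ⟨hs2, h1, hexW⟩
    · exact Or.inl (hS.qq_of_tt hF hs2 (hr h1 hexW).1)
  · have hq7 : 7 ≤ Nat.card K := by
      refine seven_le hp (fun h => ?_) (fun h => ?_)
      · have hd := Nat.le_of_dvd (by omega) hS.dvd_card_sub_one
        omega
      · have hd := hS.dvd_card_sub_one
        rw [h] at hd
        have := (Nat.prime_dvd_prime_iff_eq hS.prime Nat.prime_two).mp
          (hS.prime.dvd_of_dvd_pow (show s ∣ 2 ^ 2 from hd))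
        omega
    have hW : WW (hS.W hF) (cnum p) (M.subgroupOf (fixStab V d)) (A.subgroupOf (fixStab V d)) := by
      by_cases hsrW : Semireg (hS.W hF) (M.subgroupOf (fixStab V d))
      · obtain ⟨f, hf1, hfs, hfi⟩ := hWmain _ hWlt (A.subgroupOf (fixStab V d)) (hS.W hF) hsA hcopA hexpW
          rfl Finite.one_lt_card
        exact ⟨fun i => (f i).1, fun i => (f i).2, fun i => hsrW _ (hf1 i),
          fun i a ha e1 e2 => hfs i ⟨a, ha⟩ (Prod.ext e1 e2),
          fun i j a ha e1 e2 => hfi i j ⟨a, ha⟩ (Prod.ext e1 e2)⟩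
      · refine ((hr ?_ fun h => ?_).2 hq7).ww
        · have h0 : 0 < Module.finrank K (hS.W hF) := Module.finrank_pos
          by_contra h
          exact hsrW (semireg_of_scal fun z hz => scal_of_finrank_one (hS.frame_fix hF) (by omega) hz)
        · rcases h with ⟨h, -⟩ | ⟨h, -⟩ <;> omega
    exact Or.inl (hS.qq_of_ww hF hs3 hp hW)

/-- The recursion. -/
theorem node {p : ℕ} [Fact p.Prime] (hp : p ≠ 2) [CharP K p] (hb3 : BaseThree.{u}) (hb5 : BaseFive.{u}) :
    ∀ (N : ℕ) (G : Type u) [Group G] [Finite G] (V : Type u) [AddCommGroup V] [Finite V] [Module K V]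
      [DistribMulAction G V] (M A : Subgroup G), Nat.card V = N → Frame K V M A → Group.IsSolvable A →
      (Nat.card A).Coprime p → (∀ x : V, p • x = 0) → (∀ m ≤ N, MainOK.{u} p m) →
      2 ≤ Module.finrank K V → ¬ Exc K V M → SqCond K V M →
      TT V (cnum p) M A ∧ (7 ≤ Nat.card K → QQ V (cnum p) M A) := by
  intro N
  induction N using Nat.strong_induction_on with
  | _ N ih =>
  intro G _ _ V _ _ _ _ M A hV hF hs hcop hexp hmain hdim hexc hsq
  subst hV
  haveI : Nontrivial V := by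
    haveI : Module.Finite K V := Module.Finite.of_finite
    exact Module.nontrivial_of_finrank_pos (R := K) (by omega)
  have hc : cnum p ≤ 5 := by rcases cnum_cases p with h | h <;> omega
  have hc3 : p = 3 → cnum p ≤ 3 := fun h => by simp [cnum, h]
  have hdimtwo : ∀ z ∈ M, ¬ IsScal K V z → Module.finrank K V = 2 → 7 ≤ Nat.card K := fun z hz hns h2 =>
    seven_le hp (fun h => hexc (Or.inl ⟨h, Or.inl ⟨h2, z, hz, hns⟩⟩))
      (fun h => hexc (Or.inr ⟨h, h2, z, hz, hns⟩))
  by_cases hsr : Semireg V M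
  · suffices h : QQ V (cnum p) M A from ⟨h.tt, fun _ => h⟩
    by_cases hcase : (∀ z ∈ M, IsScal K V z) ∨ Module.finrank K V ≠ 2
    · refine qq_semireg_good hp hc (cnum_pos p) hF hsr hdim hcase ?_
      exact hmain _ le_rfl A V hs hcop hexp rfl (Finite.one_lt_card)
    · push Not at hcase
      obtain ⟨⟨z, hz, hns⟩, h2⟩ := hcase
      obtain ⟨⟨y, hQ⟩, -⟩ := hsr.four hF (two_ne_zero_of_char hp) hz hns
      exact qq_dim_two hp hc hc3 hF hQ h2 (hdimtwo z hz hns h2) hcop
  obtain ⟨x₀, hx₀, z, hz, hzx, hzne⟩ : ∃ x₀ : V, x₀ ≠ 0 ∧ ∃ z ∈ M, z • x₀ = x₀ ∧ ∃ x : V, z • x ≠ x := by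
    unfold Semireg Free at hsr
    push Not at hsr
    exact hsr
  obtain ⟨s, d, X, ζ, ξ, hS⟩ := exists_split hF hz hx₀ hzx hzne
  rcases node_split hp hF hs hcop hexp hsq hdimtwo hS (fun m hm => hmain m hm.le)
      (fun G' _ _ V' _ _ _ _ M' A' hlt hF' hs' hcop' hexp' hmain' h1 h2 h3 =>
        ih _ hlt G' V' M' A' rfl hF' hs' hcop' hexp' hmain' h1 h2 h3) with h | ⟨hs2, h1, hexW⟩
  · exact ⟨h.tt, fun _ => h⟩
  have hn := hS.finrank_two hF hs2
  have h7 : ¬ 7 ≤ Nat.card K := by
    rcases hexW with ⟨h, -⟩ | ⟨h, -⟩ <;> omega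
  refine ⟨?_, fun h => absurd h h7⟩
  rcases hexW with ⟨h3, h | h⟩ | ⟨h5, h⟩
  · exfalso
    refine hexc (Or.inl ⟨h3, Or.inr ⟨?_, s, d, X, ζ, ξ, hS, hS.dlin hF, h⟩⟩)
    have := h.1
    omega
  · have hp3 : p = 3 := by
      have hd : p ∣ 3 := by
        haveI := Fintype.ofFinite K
        rw [← h3, Nat.card_eq_fintype_card (α := K)]
        exact (CharP.cast_eq_zero_iff K p _).mp (FiniteField.cast_card_eq_zero K)
      exact (Nat.prime_dvd_prime_iff_eq Fact.out Nat.prime_three).mp hd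
    rw [show cnum p = 3 by simp [cnum, hp3]]
    exact hb3 K G V M A hF h3 (hp3 ▸ hcop) (by have := h.1; omega) s d X ζ ξ hS (hS.dlin hF) h
  · have hp5 : p = 5 := by
      have hd : p ∣ 5 := by
        haveI := Fintype.ofFinite K
        rw [← h5, Nat.card_eq_fintype_card (α := K)]
        exact (CharP.cast_eq_zero_iff K p _).mp (FiniteField.cast_card_eq_zero K)
      exact (Nat.prime_dvd_prime_iff_eq Fact.out (by norm_num)).mp hd
    rw [show cnum p = 5 by simp [cnum, hp5]]
    exact (hb5 K G V M A hF h5 (hp5 ▸ hcop) hsq (by have := h.1; omega) s d X ζ ξ hS (hS.dlin hF) h).tt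

end node

end Cfsg.Agent.GStructB.CoprimeBase
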