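import Cfsg.Agent.GStructB.CoprimeBase.Tau
import Cfsg.Agent.GStructB.CoprimeBase.Node
import Cfsg.Agent.GStructB.CoprimeBase.CertASearch
import Cfsg.Agent.GStructB.CoprimeBase.CertBSearch
import Cfsg.Agent.GStructB.CoprimeBase.CertFour

/-!
# The base cases of the recursion

Dimension eight over three elements and dimension four over five elements.
-/

set_option autoImplicit false
set_option linter.style.haveILetI false
set_option linter.unusedSectionVars false

open MulAction

namespace Cfsg.Agent.GStructB.CoprimeBase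

universe u v w

/-- Rows of the plus type in dimension two. -/
abbrev plusTwo (q : ℕ) : List Rows := liftRows q 1 []

/-- The map of order five. -/
def tauFive : TauData :=
  ⟨[[(1, 1), (1, 3)], [(2, 0), (2, 2)], [(2, 0), (3, 2)], [(4, 1), (1, 3)]], [63, 1, 53, 44]⟩

/-- The map of order three. -/
def tauThree : TauData :=
  ⟨[[(1, 0), (2, 1)], [(1, 1)], [(2, 2), (2, 3)], [(1, 2)]], [1, 31, 12, 5]⟩

theorem tauFive_check : tauFive.check 5 4 certC.gs = true := by decide +kernel

theorem tauThree_check : tauThree.check 3 4 certD.gs = true := by decide +kernel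

theorem certA_gs : certA.gs = liftRows 3 4 (liftRows 3 2 (plusTwo 3)) := by decide +kernel

theorem certB_gs : certB.gs = liftRows 3 4 (liftRows 3 2 q8Rows) := by decide +kernel

theorem certC_gs : certC.gs = liftRows 5 2 (plusTwo 5) := by decide +kernel

theorem certD_gs : certD.gs = liftRows 3 2 q8Rows := by decide +kernel

theorem certC_free : freeB 5 4 certC.gs certC.vec = true := by decide +kernel

theorem certC_orbit : certC.u ∉ (List.range (nWords 5 certC.gs)).map fun z => wApp 5 certC.gs z certC.vec := by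
  decide +kernel

section

variable {K : Type u} [Field K] [Finite K] {G : Type v} [Group G] {V : Type w} [AddCommGroup V]
  [Finite V] [Module K V] [DistribMulAction G V] {M A : Subgroup G}

theorem card_eq_char {q : ℕ} (hq : q.Prime) (hK : Nat.card K = q) : CharP K q := by
  haveI := Fintype.ofFinite K
  haveI := Fact.mk hq
  exact charP_of_card_eq_prime (by rw [← Nat.card_eq_fintype_card, hK])

/-- Squares of elements of `M` that are scalars, over three or five elements. -/
theorem sq_of_sqCond [Nontrivial V] (hq : Nat.card K = 3 ∨ Nat.card K = 5) (hsq : SqCond K V M) :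
    ∀ a : K, a ≠ 0 → (∃ m ∈ M, ∀ x : V, m ^ 2 • x = a • x) → (∃ r : K, a = r ^ 2) ∨ a = -1 := by
  intro a ha ⟨m, hm, hma⟩
  rcases hq with h3 | h5
  · haveI := card_eq_char Nat.prime_three h3
    obtain ⟨k, hk, rfl⟩ := exists_natCast Nat.prime_three h3 a
    interval_cases k
    · simp at ha
    · exact Or.inl ⟨1, by simp⟩
    · right
      have h0 : ((3 : ℕ) : K) = 0 := CharP.cast_eq_zero K 3
      push_cast at h0 ⊢
      linear_combination h0
  · obtain ⟨k, hk⟩ := hsq h5 m hm ⟨a, hma⟩
    obtain ⟨x, hx⟩ := exists_ne (0 : V)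
    exact Or.inl ⟨k, smul_left_injective K hx ((hma x).symm.trans (hk x))⟩

theorem split_two {s : ℕ} {d X : G} {ζ ξ : K} (hS : IsSplit V M s d X ζ ξ)
    (hq : Nat.card K = 3 ∨ Nat.card K = 5) : s = 2 := by
  have hd := hS.dvd_card_sub_one
  rcases hq with h | h <;> rw [h] at hd
  · exact (Nat.prime_dvd_prime_iff_eq hS.prime Nat.prime_two).mp hd
  · exact (Nat.prime_dvd_prime_iff_eq hS.prime Nat.prime_two).mp
      (hS.prime.dvd_of_dvd_pow (show s ∣ 2 ^ 2 from hd))

/-- The models in dimension two. -/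
theorem model_two [Finite G] {q : ℕ} (hq : q = 3 ∨ q = 5) (hF : Frame K V M A) (hK : Nat.card K = q)
    (hsq : SqCond K V M) (h : Exc2 K V M) :
    (q = 3 ∧ ∃ (γ : ℕ → G) (e : ℕ → V), Model K V M 3 2 q8Rows γ e) ∨
      ∃ (γ : ℕ → G) (e : ℕ → V), Model K V M q 2 (plusTwo q) γ e := by
  obtain ⟨h2, z, hz, hns⟩ := h
  haveI : Nontrivial V := by
    haveI : Module.Finite K V := Module.Finite.of_finite
    exact Module.nontrivial_of_finrank_pos (R := K) (by omega)
  have hq35 : Nat.card K = 3 ∨ Nat.card K = 5 := hK.symm ▸ hq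
  have hqp : q.Prime := by rcases hq with rfl | rfl <;> norm_num
  haveI := card_eq_char hqp hK
  by_cases hsr : Semireg V M
  · rcases hq with rfl | rfl
    · exact Or.inl ⟨rfl, model_q8 hF hK h2 hsr ⟨z, hz, hns⟩⟩
    · exfalso
      haveI := Fact.mk hqp
      obtain ⟨-, hnsq⟩ := hsr.four hF (two_ne_zero_of_char (p := 5) (by norm_num)) hz hns
      refine hnsq ⟨2, ?_⟩
      have h0 : ((5 : ℕ) : K) = 0 := CharP.cast_eq_zero K 5
      push_cast at h0
      linear_combination (-1 : K) * h0
  · obtain ⟨x₀, hx₀, z', hz', hzx, hzne⟩ : ∃ x₀ : V, x₀ ≠ 0 ∧ ∃ z ∈ M, z • x₀ = x₀ ∧ ∃ x : V, z • x ≠ x := by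
      unfold Semireg Free at hsr
      push Not at hsr
      exact hsr
    obtain ⟨s, d, X, ζ, ξ, hS⟩ := exists_split hF hz' hx₀ hzx hzne
    have hs := split_two hS hq35
    haveI := hS.W_nontrivial hF
    have hn := hS.finrank_two hF hs
    obtain ⟨γ, e, hM⟩ := model_line (hS.frame_fix hF) hqp hK (by omega)
    exact Or.inr (model_lift hS hF hs (k := 0) hqp (by omega) hK rfl (sq_of_sqCond hq35 hsq) hM)

/-- The models in dimension four over three elements. -/
theorem model_four [Finite G] (hF : Frame K V M A) (hK : Nat.card K = 3) (h : Exc4 K V M) :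
    (∃ (γ : ℕ → G) (e : ℕ → V), Model K V M 3 4 certD.gs γ e) ∨
      ∃ (γ : ℕ → G) (e : ℕ → V), Model K V M 3 4 (liftRows 3 2 (plusTwo 3)) γ e := by
  obtain ⟨h4, s, d, X, ζ, ξ, hS, hlin, h2⟩ := h
  have hsq : SqCond K V M := fun h5 => by omega
  haveI : Nontrivial V := by
    haveI : Module.Finite K V := Module.Finite.of_finite
    exact Module.nontrivial_of_finrank_pos (R := K) (by omega)
  have hs := split_two hS (Or.inl hK)
  rw [certD_gs]
  rcases model_two (Or.inl rfl) (hS.frame_fix hF) hK (hS.sqCond_fix hF hsq) h2 with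
    ⟨-, γ, e, hM⟩ | ⟨γ, e, hM⟩
  · exact Or.inl (model_lift hS hF hs (k := 1) Nat.prime_three (by norm_num) hK rfl
      (sq_of_sqCond (Or.inl hK) hsq) hM)
  · exact Or.inr (model_lift hS hF hs (k := 1) Nat.prime_three (by norm_num) hK rfl
      (sq_of_sqCond (Or.inl hK) hsq) hM)

/-- Three pairs in dimension four over three elements, minus type. -/
theorem pairs_four_minus [Finite G] (hF : Frame K V M A) (hK : Nat.card K = 3)
    (hcop : (Nat.card A).Coprime 3) {γ : ℕ → G} {e : ℕ → V} (hM : Model K V M 3 4 certD.gs γ e) :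
    ∃ f : Fin 3 → V × V, (∀ i, (f i).1 ≠ 0) ∧
      ∀ i j, ∀ a ∈ A, a • (f i).1 = (f j).1 → a • (f i).2 = (f j).2 → i = j ∧ ∀ x : V, a • x = x := by
  haveI := card_eq_char Nat.prime_three hK
  haveI : CharP K certD.q := card_eq_char Nat.prime_three hK
  obtain ⟨hv, hu, hfix⟩ := certD.sound hF hM certD_check
  obtain ⟨τ, -, hτn, hτp, hord⟩ := tauThree.exists_map Nat.prime_three hK hF hM tauThree_check
  refine ⟨fun i => ((τ ^ (i : ℕ)) (ev K 4 e certD.vec), (τ ^ (i : ℕ)) (ev K 4 e certD.u)), fun i => ?_,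
    fun i j a ha h1 h2 => ?_⟩
  · intro h0
    refine hM.ev_ne_zero hv (by decide) ?_
    have h : (τ ^ (3 - (i : ℕ))) ((τ ^ (i : ℕ)) (ev K 4 e certD.vec)) = (τ ^ (3 - (i : ℕ))) 0 :=
      congrArg (⇑(τ ^ (3 - (i : ℕ)))) h0
    rw [map_zero, ← Function.comp_apply (f := ⇑(τ ^ (3 - (i : ℕ)))), ← AddMonoid.End.coe_mul, ← pow_add,
      Nat.sub_add_cancel (le_of_lt i.2), hτp] at h
    exact h
  · obtain ⟨h, h'⟩ := pairs_of_map Nat.prime_three hcop hF hfix hτn hτp hord i.2 j.2 ha h1 h2
    exact ⟨Fin.ext h, h'⟩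

/-- Five pairs in dimension four over five elements. -/
theorem pairs_five [Finite G] (hF : Frame K V M A) (hK : Nat.card K = 5) (hcop : (Nat.card A).Coprime 5)
    {γ : ℕ → G} {e : ℕ → V} (hM : Model K V M 5 4 certC.gs γ e) : QQ V 5 M A := by
  have h5 : Nat.Prime 5 := by norm_num
  haveI : CharP K certC.q := card_eq_char h5 hK
  haveI := card_eq_char h5 hK
  obtain ⟨hv, hu, hfix⟩ := certC.sound hF hM certC_check
  obtain ⟨τ, -, hτn, hτp, hord⟩ := tauFive.exists_map h5 hK hF hM tauFive_check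
  have hfree := hM.free_of_freeB hv certC_free
  have hout : ∀ m ∈ M, m • ev K 4 e certC.vec ≠ ev K 4 e certC.u := fun m hm =>
    hM.smul_ne hv hu certC_orbit hm
  refine ⟨fun i => (τ ^ (i : ℕ)) (ev K 4 e certC.vec), fun i => (τ ^ (i : ℕ)) (ev K 4 e certC.u),
    fun i => ⟨(free_map hτn hτp hfree (le_of_lt i.2)).1, fun h0 => ?_,
      (free_map hτn hτp hfree (le_of_lt i.2)).2 _ hout⟩,
    fun i a ha e1 e2 => (pairs_of_map h5 hcop hF hfix hτn hτp hord i.2 i.2 ha e1 e2).2,
    fun i j a ha e1 e2 => Fin.ext (pairs_of_map h5 hcop hF hfix hτn hτp hord i.2 j.2 ha e1 e2).1⟩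
  refine hM.ev_ne_zero hu (by decide) ?_
  have h := congrArg (⇑(τ ^ (5 - (i : ℕ)))) h0
  rw [map_zero, ← Function.comp_apply (f := ⇑(τ ^ (5 - (i : ℕ)))), ← AddMonoid.End.coe_mul, ← pow_add,
    Nat.sub_add_cancel (le_of_lt i.2), hτp] at h
  exact h

end

/-- The models in dimension eight over three elements. -/
theorem model_eight {K : Type u} [Field K] [Finite K] {G : Type v} [Group G] [Finite G] {V : Type w}
    [AddCommGroup V] [Finite V] [Module K V] [DistribMulAction G V] {M A : Subgroup G}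
    (hF : Frame K V M A) (hK : Nat.card K = 3) (h8 : Module.finrank K V = 8) {s : ℕ} {d X : G} {ζ ξ : K}
    (hS : IsSplit V M s d X ζ ξ) (h4 : Exc4 K (hS.W hF) (M.subgroupOf (fixStab V d))) :
    (∃ (γ : ℕ → G) (e : ℕ → V), Model K V M 3 8 certB.gs γ e) ∨
      ∃ (γ : ℕ → G) (e : ℕ → V), Model K V M 3 8 certA.gs γ e := by
  have hsq : SqCond K V M := fun h5 => by omega
  haveI : Nontrivial V := by
    haveI : Module.Finite K V := Module.Finite.of_finite
    exact Module.nontrivial_of_finrank_pos (R := K) (by omega)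
  have hs := split_two hS (Or.inl hK)
  rw [certA_gs, certB_gs]
  rcases model_four (hS.frame_fix hF) hK h4 with ⟨γ, e, hM⟩ | ⟨γ, e, hM⟩
  · rw [certD_gs] at hM
    exact Or.inl (model_lift hS hF hs (k := 2) Nat.prime_three (by norm_num) hK rfl
      (sq_of_sqCond (Or.inl hK) hsq) hM)
  · exact Or.inr (model_lift hS hF hs (k := 2) Nat.prime_three (by norm_num) hK rfl
      (sq_of_sqCond (Or.inl hK) hsq) hM)

/-- Dimension eight over three elements. -/
theorem baseThree : BaseThree.{u} := by
  intro K _ _ G _ _ V _ _ _ _ M A hF hK _ h8 s d X ζ ξ hS hlin h4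
  rcases model_eight hF hK h8 hS h4 with ⟨γ, e, hM⟩ | ⟨γ, e, hM⟩
  · haveI : CharP K certB.q := card_eq_char Nat.prime_three hK
    exact certB.sound hF hM certB_base certB_cands certB_rows certB_search certB_hits
  · haveI : CharP K certA.q := card_eq_char Nat.prime_three hK
    exact certA.sound hF hM certA_base certA_cands certA_rows certA_search certA_hits

/-- Dimension four over five elements. -/
theorem baseFive : BaseFive.{u} := by
  intro K _ _ G _ _ V _ _ _ _ M A hF hK hcop hsq h4 s d X ζ ξ hS hlin h2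
  haveI : Nontrivial V := by
    haveI : Module.Finite K V := Module.Finite.of_finite
    exact Module.nontrivial_of_finrank_pos (R := K) (by omega)
  have hs := split_two hS (Or.inr hK)
  rcases model_two (Or.inr rfl) (hS.frame_fix hF) hK (hS.sqCond_fix hF hsq) h2 with
    ⟨h, -⟩ | ⟨γ, e, hM⟩
  · omega
  obtain ⟨γ', e', hM'⟩ := model_lift hS hF hs (k := 1) (by norm_num) (by norm_num) hK rfl
    (sq_of_sqCond (Or.inr hK) hsq) hM
  rw [show liftRows 5 2 (plusTwo 5) = certC.gs from certC_gs.symm] at hM'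
  exact pairs_five hF hK hcop hM'

end Cfsg.Agent.GStructB.CoprimeBase
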