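import Cfsg.Agent.GStructB.OddBase.CR

/-!
# Inequivalent pairs of vectors with trivial stabilizers

The induction statement for coprime actions of solvable groups in odd characteristic, the passage to
the faithful image, Maschke averaging, and the reducible step.
-/

set_option autoImplicit false
set_option linter.style.haveILetI false
set_option linter.unusedSectionVars false

open MulAction

namespace Cfsg.Agent.GStructB.CoprimeBase

universe u v w

open OddBase (ComplRed Irred subAction)

/-- The number of pairs asked for in characteristic `p`. -/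
def cnum (p : ℕ) : ℕ := if p = 3 then 3 else 5

theorem cnum_cases (p : ℕ) : cnum p = 5 ∨ cnum p = 3 := by
  unfold cnum; split_ifs <;> simp

theorem cnum_three {p : ℕ} (h : cnum p = 3) : p = 3 := by
  unfold cnum at h; split_ifs at h with h' <;> simp_all

theorem cnum_pos (p : ℕ) : 0 < cnum p := by
  unfold cnum; split_ifs <;> norm_num

/-- `c` pairwise inequivalent pairs with first entry non-zero and stabilizers acting trivially. -/
def Good (c : ℕ) (A : Type v) (V : Type w) [Group A] [AddCommGroup V] [DistribMulAction A V] : Prop :=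
  ∃ f : Fin c → V × V, (∀ i, (f i).1 ≠ 0) ∧
    (∀ (i : Fin c) (a : A), a • f i = f i → ∀ x : V, a • x = x) ∧
    ∀ (i j : Fin c) (a : A), a • f i = f j → i = j

/-- The induction statement. -/
def MainOK (p n : ℕ) : Prop :=
  ∀ (A : Type u) [Group A] [Finite A] (V : Type u) [AddCommGroup V] [Finite V]
    [DistribMulAction A V], Group.IsSolvable A → (Nat.card A).Coprime p → (∀ x : V, p • x = 0) →
    Nat.card V = n → 1 < n → Good (cnum p) A V

/-- The statement for faithful actions. -/
def FaithOK (p n : ℕ) : Prop :=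
  ∀ (A : Type u) [Group A] [Finite A] (V : Type u) [AddCommGroup V] [Finite V]
    [DistribMulAction A V] [FaithfulSMul A V], Group.IsSolvable A → (Nat.card A).Coprime p →
    (∀ x : V, p • x = 0) → Nat.card V = n → 1 < n → Good (cnum p) A V

/-- An action that need not be faithful, of a group in any universe. -/
theorem good_of_faithOK {p n : ℕ} (h : FaithOK.{u} p n) {A : Type v} [Group A] [Finite A]
    {V : Type u} [AddCommGroup V] [Finite V] [DistribMulAction A V] (hs : Group.IsSolvable A)
    (hcop : (Nat.card A).Coprime p) (hexp : ∀ x : V, p • x = 0) (hV : Nat.card V = n) (hn : 1 < n) :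
    Good (cnum p) A V := by
  let f : A →* (AddMonoid.End V)ˣ := (DistribMulAction.toAddMonoidEnd A V).toHomUnits
  have hf : ∀ (a : A) (x : V), (f.rangeRestrict a) • x = a • x := fun a x => rfl
  haveI : Finite f.range := Finite.of_surjective f.rangeRestrict f.rangeRestrict_surjective
  haveI : FaithfulSMul f.range V := ⟨fun {g h} e => Subtype.ext (Units.ext
    (AddMonoidHom.ext fun x => e x))⟩
  haveI : Group.IsSolvable f.range := Group.isSolvable_of_surjective f.rangeRestrict_surjective
  obtain ⟨F, h1, h2, h3⟩ := h f.range V inferInstance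
    (hcop.coprime_dvd_left (Subgroup.card_range_dvd f)) hexp hV hn
  exact ⟨F, h1, fun i a ha x => h2 i (f.rangeRestrict a) (Prod.ext (congrArg Prod.fst ha :)
      (congrArg Prod.snd ha :)) x,
    fun i j a ha => h3 i j (f.rangeRestrict a) (Prod.ext (congrArg Prod.fst ha :)
      (congrArg Prod.snd ha :))⟩

theorem mainOK_of_faithOK {p n : ℕ} (h : FaithOK.{u} p n) : MainOK.{u} p n :=
  fun _ _ _ _ _ _ _ hs hcop hexp hV hn => good_of_faithOK h hs hcop hexp hV hn

section

variable {A : Type v} [Group A] [Finite A] {V : Type w} [AddCommGroup V] [Finite V]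
  [DistribMulAction A V]

/-- Maschke averaging. -/
theorem complRed_of_coprime {p : ℕ} [Fact p.Prime] (hexp : ∀ x : V, p • x = 0)
    (hcop : (Nat.card A).Coprime p) : ComplRed A V := by
  classical
  intro U hU
  letI : Module (ZMod p) V := AddCommGroup.zmodModule hexp
  haveI : Fintype A := Fintype.ofFinite A
  obtain ⟨W₀, hW₀⟩ := Submodule.exists_isCompl (AddSubgroup.toZModSubmodule p U)
  let π : V →+ V := ((AddSubgroup.toZModSubmodule p U).projection W₀ hW₀).toAddMonoidHom
  have hπU : ∀ x, π x ∈ U := fun x => Submodule.projection_apply_mem hW₀ x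
  have hπid : ∀ x ∈ U, π x = x := fun x hx => Submodule.projection_apply_left hW₀ ⟨x, hx⟩
  obtain ⟨e, he⟩ : ∃ e : ℕ, Fintype.card A * e ≡ 1 [MOD p] := by
    rw [← Nat.card_eq_fintype_card]
    obtain ⟨e, -, he⟩ := Nat.exists_mul_mod_eq_one_of_coprime hcop (Fact.out : p.Prime).one_lt
    exact ⟨e, by rw [Nat.ModEq, he, Nat.one_mod_eq_one.mpr (Fact.out : p.Prime).ne_one]⟩
  have hone : ∀ x : V, (Fintype.card A * e) • x = x := by
    intro x
    conv_lhs => rw [← Nat.mod_add_div (Fintype.card A * e) p]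
    rw [show Fintype.card A * e % p = 1 from Eq.trans he (Nat.one_mod_eq_one.mpr (Fact.out : p.Prime).ne_one),
      add_smul, one_smul, mul_smul, hexp, add_zero]
  let P : V →+ V :=
    { toFun := fun x => e • ∑ a : A, a • π (a⁻¹ • x)
      map_zero' := by simp
      map_add' := fun x y => by
        simp only [smul_add, map_add, Finset.sum_add_distrib] }
  have hPU : ∀ x, P x ∈ U := fun x =>
    U.nsmul_mem (U.sum_mem fun a _ => hU a _ (hπU _)) e
  have hPid : ∀ x ∈ U, P x = x := by
    intro x hx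
    show e • ∑ a : A, a • π (a⁻¹ • x) = x
    rw [Finset.sum_congr rfl fun a _ => by rw [hπid _ (hU a⁻¹ x hx), smul_inv_smul], Finset.sum_const,
      Finset.card_univ, ← mul_smul, mul_comm]
    exact hone x
  refine ⟨P.ker, fun g x hx => ?_, ?_, ?_⟩
  · rw [AddMonoidHom.mem_ker] at hx ⊢
    change e • ∑ a : A, a • π (a⁻¹ • x) = 0 at hx
    show e • ∑ a : A, a • π (a⁻¹ • g • x) = 0
    rw [show (∑ a : A, a • π (a⁻¹ • g • x)) = g • ∑ a : A, a • π (a⁻¹ • x) by
      rw [Finset.smul_sum]
      refine (Fintype.sum_equiv (Equiv.mulLeft g) _ _ fun a => ?_).symm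
      rw [Equiv.coe_mulLeft, mul_inv_rev, mul_smul, mul_smul, inv_smul_smul],
      smul_comm, hx, smul_zero]
  · rw [eq_bot_iff]
    rintro x ⟨hx, hxk⟩
    rw [AddSubgroup.mem_bot, ← hPid x hx]
    exact hxk
  · rw [eq_top_iff]
    intro x _
    refine AddSubgroup.mem_sup.mpr ⟨P x, hPU x, x - P x, ?_, add_sub_cancel _ _⟩
    rw [AddMonoidHom.mem_ker, map_sub, hPid _ (hPU x), sub_self]

/-- The reducible step. -/
theorem good_of_split {c : ℕ} (hc : 0 < c) {U W : AddSubgroup V}
    (hU : ∀ a : A, ∀ x ∈ U, a • x ∈ U) (hW : ∀ a : A, ∀ x ∈ W, a • x ∈ W)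
    (hUW : U ⊓ W = ⊥) (hsup : U ⊔ W = ⊤)
    (hgU : letI := subAction U hU; Good c A U) (hgW : letI := subAction W hW; Good c A W) :
    Good c A V := by
  letI := subAction U hU
  letI := subAction W hW
  obtain ⟨f, hf1, hf2, hf3⟩ := hgU
  obtain ⟨f', -, hf2', -⟩ := hgW
  set q := f' ⟨0, hc⟩
  have huniq : ∀ (u u' : U) (w w' : W), (u : V) + w = u' + w' → u = u' ∧ w = w' := by
    intro u u' w w' e
    have h : (u : V) - u' = w' - w := by rw [sub_eq_sub_iff_add_eq_add, e, add_comm]
    have : (u : V) - u' ∈ U ⊓ W := ⟨U.sub_mem u.2 u'.2, h ▸ W.sub_mem w'.2 w.2⟩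
    rw [hUW, AddSubgroup.mem_bot, sub_eq_zero] at this
    exact ⟨Subtype.ext this, Subtype.ext (add_left_cancel (this ▸ e))⟩
  refine ⟨fun i => (((f i).1 : V) + q.1, ((f i).2 : V) + q.2), fun i h => ?_, fun i a ha x => ?_,
    fun i j a ha => ?_⟩
  · exact hf1 i (huniq (f i).1 0 q.1 0 (h.trans (add_zero (0 : V)).symm)).1
  · have e1 := huniq (a • (f i).1) (f i).1 (a • q.1) q.1 ((smul_add a _ _).symm.trans (congrArg Prod.fst ha))
    have e2 := huniq (a • (f i).2) (f i).2 (a • q.2) q.2 ((smul_add a _ _).symm.trans (congrArg Prod.snd ha))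
    obtain ⟨u, hu, w, hw, rfl⟩ := AddSubgroup.mem_sup.mp (hsup ▸ AddSubgroup.mem_top x)
    rw [smul_add]
    exact congrArg₂ (· + ·) (congrArg Subtype.val (hf2 i a (Prod.ext e1.1 e2.1) ⟨u, hu⟩))
      (congrArg Subtype.val (hf2' ⟨0, hc⟩ a (Prod.ext e1.2 e2.2) ⟨w, hw⟩))
  · exact hf3 i j a (Prod.ext
      (huniq (a • (f i).1) (f j).1 (a • q.1) q.1 ((smul_add a _ _).symm.trans (congrArg Prod.fst ha))).1
      (huniq (a • (f i).2) (f j).2 (a • q.2) q.2 ((smul_add a _ _).symm.trans (congrArg Prod.snd ha))).1)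

end

/-- Either the action is irreducible or the pairs come from smaller modules. -/
theorem good_or_irred {p : ℕ} [Fact p.Prime] {A : Type u} [Group A] [Finite A] {V : Type u}
    [AddCommGroup V] [Finite V] [DistribMulAction A V] (hs : Group.IsSolvable A)
    (hcop : (Nat.card A).Coprime p) (hexp : ∀ x : V, p • x = 0)
    (ih : ∀ m < Nat.card V, MainOK.{u} p m) : Good (cnum p) A V ∨ Irred A V := by
  by_cases hirr : Irred A V
  · exact Or.inr hirr
  unfold OddBase.Irred at hirr
  push Not at hirr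
  obtain ⟨U, hU, hU0, hU1⟩ := hirr
  obtain ⟨W, hW, hUW, hsup⟩ := complRed_of_coprime hexp hcop U hU
  have hW1 : W ≠ ⊤ := fun e => hU0 (by rwa [e, inf_top_eq] at hUW)
  have hW0 : W ≠ ⊥ := fun e => hU1 (by rwa [e, sup_bot_eq] at hsup)
  have key : ∀ X : AddSubgroup V, X ≠ ⊥ → X ≠ ⊤ → ∀ hX : (∀ a : A, ∀ x ∈ X, a • x ∈ X),
      letI := subAction X hX; Good (cnum p) A X := by
    intro X hX0 hX1 hX
    letI := subAction X hX
    have h1 : 1 < Nat.card X := by
      haveI := (AddSubgroup.nontrivial_iff_ne_bot X).mpr hX0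
      exact Finite.one_lt_card
    have h2 : Nat.card X < Nat.card V :=
      lt_of_le_of_ne (Nat.card_le_card_of_injective _ X.subtype_injective) fun e =>
        hX1 (AddSubgroup.eq_top_of_card_eq _ e)
    exact ih _ h2 A X hs hcop (fun x => Subtype.ext (hexp x.1)) rfl h1
  exact Or.inl (good_of_split (cnum_pos p) hU hW hUW hsup (key U hU0 hU1 hU) (key W hW0 hW1 hW))

/-- Pairs give a base of two vectors. -/
theorem pair_of_good {c : ℕ} (hc : 0 < c) {A : Type v} [Group A] {V : Type w} [AddCommGroup V]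
    [DistribMulAction A V] (h : Good c A V) :
    ∃ v w : V, ∀ a : A, a • v = v → a • w = w → ∀ x : V, a • x = x := by
  obtain ⟨f, -, h2, -⟩ := h
  exact ⟨_, _, fun a e1 e2 => h2 ⟨0, hc⟩ a (Prod.ext e1 e2)⟩

end Cfsg.Agent.GStructB.CoprimeBase
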