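import Cfsg.Agent.GStructB.CoprimeBase.Engine

/-!
# Soundness of the searches among candidate images

A Boolean check over all candidate images of two or three generating translates shows that only the
identity fixes the chosen vectors.
-/

set_option autoImplicit false
set_option linter.style.haveILetI false
set_option linter.unusedSectionVars false

open MulAction

namespace Cfsg.Agent.GStructB.CoprimeBase

universe u v w

/-- Whether a vector is fixed by no word acting non-trivially. -/
def freeB (q n : ℕ) (gs : List Rows) (l : List ℕ) : Bool :=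
  (List.range (nWords q gs)).all fun z =>
    wApp q gs z l != l || (List.range n).all fun i => wApp q gs z (unitL n i) == unitL n i

/-- One tuple of the certificate with three words. -/
structure Row where
  /-- the coefficients of the first four translates -/
  cs : List ℕ
  /-- the coefficient of the fifth translate -/
  c₄ : ℕ
  /-- the codes of the partial sums that some fifth translate completes, for each tuple -/
  hits : List ℕ
  /-- the second vector -/
  u : List ℕ
  /-- the third vector -/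
  b : List ℕ
  /-- its coefficients -/
  cb : List ℕ
  /-- its orbit -/
  orb : List (List ℕ)

/-- A certificate with three words. -/
structure Cert3 where
  /-- the number of elements of the field -/
  q : ℕ
  /-- the dimension -/
  n : ℕ
  /-- the generators -/
  gs : List Rows
  /-- the first vector -/
  vec : List ℕ
  /-- the three words -/
  t₀ : ℕ
  /-- second -/
  t₁ : ℕ
  /-- third -/
  t₂ : ℕ
  /-- the commutator of the first two -/
  e : ℕ
  /-- the translates -/
  B : List (List ℕ)
  /-- the inverse of the translates -/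
  D : List (List ℕ)
  /-- candidates -/
  C₀ : List (ℕ × List ℕ)
  /-- candidates -/
  C₁ : List (ℕ × List ℕ)
  /-- candidates -/
  C₂ : List (ℕ × List ℕ)
  /-- the tuples -/
  rows : List Row

/-- The checks on the base vector. -/
def Cert3.base (C : Cert3) : Bool :=
  decide (IsVec C.q C.n C.vec) && freeB C.q C.n C.gs C.vec &&
    [C.t₀, C.t₁, C.t₂].all (fun t => decide (t < nWords C.q C.gs) &&
      (List.range C.q).any fun c => wApp C.q C.gs t (wApp C.q C.gs t C.vec) == scaleL C.q c C.vec) &&
    (wApp C.q C.gs C.t₀ (wApp C.q C.gs C.t₁ C.vec) ==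
      scaleL C.q C.e (wApp C.q C.gs C.t₁ (wApp C.q C.gs C.t₀ C.vec))) &&
    (C.B == imgs C.q C.gs [C.t₀, C.t₁, C.t₂] C.vec) &&
    (List.range C.n).all fun i => combL C.q C.n (C.D.getD i []) C.B == unitL C.n i

/-- The checks on the candidates. -/
def Cert3.cands (C : Cert3) : Bool :=
  (C.C₀ == sqCands C.q C.gs C.vec (wApp C.q C.gs C.t₀ (wApp C.q C.gs C.t₀ C.vec))) &&
    (C.C₁ == sqCands C.q C.gs C.vec (wApp C.q C.gs C.t₁ (wApp C.q C.gs C.t₁ C.vec))) &&
    (C.C₂ == sqCands C.q C.gs C.vec (wApp C.q C.gs C.t₂ (wApp C.q C.gs C.t₂ C.vec)))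

/-- The checks on one tuple. -/
def Cert3.rowOK (C : Cert3) (r : Row) : Bool :=
  decide (r.cs.length = 4) && decide (r.c₄ ≤ C.q) &&
    (combL C.q C.n (r.cs ++ [r.c₄]) C.B == r.u) && (combL C.q C.n r.cb C.B == r.b) &&
    freeB C.q C.n C.gs r.b && (r.u != List.replicate C.n 0) && !(r.orb.contains r.u) &&
    (r.orb == (List.range (nWords C.q C.gs)).map fun z => wApp C.q C.gs z r.b)

/-- The code of a vector. -/
def codeL (q : ℕ) (l : List ℕ) : ℕ := l.foldr (fun x r => x + q * r) 0

/-- A default tuple. -/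
def Row.nil : Row := ⟨[], 0, [], [], [], [], []⟩

/-- The partial sum that the fifth translate `c` completes to `u`. -/
def Cert3.needed (C : Cert3) (r r' : Row) (c : List ℕ) : List ℕ :=
  combL C.q C.n [1, C.q - r.c₄] [r'.u, c]

/-- The check on the tables of partial sums. -/
def Cert3.hitsOK (C : Cert3) : Bool :=
  (List.range C.rows.length).all fun i => (List.range C.rows.length).all fun j => C.C₂.all fun c =>
    ((C.rows.getD i Row.nil).hits.getD j 0).testBit
      (codeL C.q (C.needed (C.rows.getD i Row.nil) (C.rows.getD j Row.nil) c.2))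

/-- The check on one partial sum that is in a table. -/
def Cert3.slow (C : Cert3) (a b : ℕ × List ℕ) (i j : ℕ) : Bool :=
  wApp C.q C.gs a.1 b.2 != scaleL C.q C.e (wApp C.q C.gs b.1 a.2) ||
    C.C₂.all fun c =>
      C.needed (C.rows.getD i Row.nil) (C.rows.getD j Row.nil) c.2 !=
          combL C.q C.n (C.rows.getD i Row.nil).cs [C.vec, a.2, b.2, wApp C.q C.gs a.1 b.2] ||
        !((C.rows.getD j Row.nil).orb.contains
          (combL C.q C.n (C.rows.getD i Row.nil).cb (imgs C.q C.gs [a.1, b.1, c.1] C.vec))) ||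
        (i == j && imgs C.q C.gs [a.1, b.1, c.1] C.vec == C.B)

/-- A combination of four vectors, digit by digit. -/
def comb4L (q n : ℕ) (cs : List ℕ) (x y z w : List ℕ) : List ℕ :=
  (List.range n).map fun i =>
    (cs.getD 0 0 * x.getD i 0 + cs.getD 1 0 * y.getD i 0 + cs.getD 2 0 * z.getD i 0 +
      cs.getD 3 0 * w.getD i 0) % q

/-- The search for one image of the first translate. -/
def Cert3.searchAt (C : Cert3) (a : ℕ × List ℕ) : Bool :=
  C.C₁.all fun b => (List.range C.rows.length).all fun i =>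
    (List.range C.rows.length).all fun j =>
      !((C.rows.getD i Row.nil).hits.getD j 0).testBit
          (codeL C.q (comb4L C.q C.n (C.rows.getD i Row.nil).cs C.vec a.2 b.2 (wApp C.q C.gs a.1 b.2))) ||
        C.slow a b i j

/-- A part of the search. -/
def Cert3.searchPart (C : Cert3) (l : ℕ) : Bool := ((C.C₀.drop (8 * l)).take 8).all C.searchAt

/-- The search. -/
def Cert3.search (C : Cert3) : Bool := C.C₀.all C.searchAt

/-- The search from its parts. -/
theorem Cert3.search_of_parts (C : Cert3) (k : ℕ) (hlen : C.C₀.length ≤ 8 * k)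
    (h : ∀ l < k, C.searchPart l = true) : C.search = true := by
  refine List.all_eq_true.mpr fun a ha => ?_
  obtain ⟨i, hi, rfl⟩ := List.getElem_of_mem ha
  refine List.all_eq_true.mp (h (i / 8) (by omega)) _ ?_
  refine List.mem_iff_getElem.mpr ⟨i % 8, by simp; omega, ?_⟩
  rw [List.getElem_take, List.getElem_drop]
  congr 1
  omega

variable {K : Type u} [Field K] {G : Type v} [Group G] {V : Type w} [AddCommGroup V] [Module K V]
  [DistribMulAction G V] {M A : Subgroup G} {q n : ℕ} {gs : List Rows} {γ : ℕ → G} {e : ℕ → V}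

theorem ev_replicate_zero : ev K n e (List.replicate n 0) = 0 := by
  refine Finset.sum_eq_zero fun i hi => ?_
  simp [List.getD_eq_getElem?_getD, Finset.mem_range.mp hi]

theorem isVec_replicate (hq : 0 < q) : IsVec q n (List.replicate n 0) :=
  ⟨List.length_replicate, fun x hx => by rw [List.eq_of_mem_replicate hx]; exact hq⟩

/-- Freeness from the check. -/
theorem Model.free_of_freeB [CharP K q] (hM : Model K V M q n gs γ e) {l : List ℕ} (hl : IsVec q n l)
    (h : freeB q n gs l = true) : Free V M (ev K n e l) := by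
  intro m hm he x
  obtain ⟨z, hz, hzl⟩ := hM.cover m hm
  rw [hzl l hl] at he
  have hzl' := hM.inj _ _ (isVec_wApp hM.q_pos hM.rows z hl) hl he
  have h' := List.all_eq_true.mp h z (List.mem_range.mpr hz)
  rw [Bool.or_eq_true] at h'
  rcases h' with h' | h'
  · rw [hzl'] at h'; simp at h'
  · refine hM.eq_id (g := DistribMulAction.toAddMonoidHom V m) (B := (List.range n).map (unitL n)) ?_
      (fun i hi => ⟨unitL n i, ?_⟩) x
    · rw [List.forall₂_map_left_iff, List.forall₂_map_right_iff, List.forall₂_same]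
      intro i hi
      have h'' := List.all_eq_true.mp h' i hi
      rw [beq_iff_eq] at h''
      show m • ev K n e (unitL n i) = ev K n e (unitL n i)
      rw [hzl _ (isVec_unitL hM.q_two n i), h'']
    · refine hM.inj _ _ (isVec_combL hM.q_pos _ _) (isVec_unitL hM.q_two n i) ?_
      rw [ev_combL hM.q_zero, ev_unitL n e hi]
      have : (unitL n i).zip ((List.range n).map (unitL n)) =
          (List.range n).map fun j => ((if j = i then 1 else 0), unitL n j) := by
        rw [unitL, List.zip_map']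
      rw [this, List.map_map, List.sum_map_eq_nsmul_single i]
      · simp [List.count_eq_one_of_mem List.nodup_range (List.mem_range.mpr hi), ev_unitL n e hi]
      · intro j hj _
        simp [hj]

/-- Vectors from lists are non-zero when the lists are. -/
theorem Model.ev_ne_zero [CharP K q] (hM : Model K V M q n gs γ e) {l : List ℕ} (hl : IsVec q n l)
    (h : l ≠ List.replicate n 0) : ev K n e l ≠ 0 := fun e0 =>
  h (hM.inj _ _ hl (isVec_replicate hM.q_pos) (by rw [e0, ev_replicate_zero]))

/-- Orbits of words are the orbits of `M`. -/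
theorem Model.smul_ne [CharP K q] (hM : Model K V M q n gs γ e) {b l : List ℕ} (hb : IsVec q n b)
    (hl : IsVec q n l) (h : l ∉ (List.range (nWords q gs)).map fun z => wApp q gs z b) {m : G}
    (hm : m ∈ M) : m • ev K n e b ≠ ev K n e l := by
  intro he
  obtain ⟨z, hz, hzl⟩ := hM.cover m hm
  rw [hzl b hb] at he
  exact h (List.mem_map.mpr ⟨z, List.mem_range.mpr hz,
    hM.inj _ _ (isVec_wApp hM.q_pos hM.rows z hb) hl he⟩)

theorem isVec_comb4L (hq : 0 < q) (cs x y z w : List ℕ) : IsVec q n (comb4L q n cs x y z w) := by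
  refine ⟨by simp [comb4L], fun a ha => ?_⟩
  obtain ⟨i, -, rfl⟩ := List.mem_map.mp ha
  exact Nat.mod_lt _ hq

theorem ev_comb4L (hq : (q : K) = 0) (cs x y z w : List ℕ) :
    ev K n e (comb4L q n cs x y z w) = (cs.getD 0 0 : K) • ev K n e x + (cs.getD 1 0 : K) • ev K n e y +
      (cs.getD 2 0 : K) • ev K n e z + (cs.getD 3 0 : K) • ev K n e w := by
  simp only [ev, Finset.smul_sum, smul_smul, ← Finset.sum_add_distrib, ← add_smul]
  refine Finset.sum_congr rfl fun i hi => ?_
  congr 1
  rw [comb4L, getD_map_range n i _ (Finset.mem_range.mp hi), cast_mod hq]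
  push_cast
  rfl

/-- The triples of a checked certificate. -/
theorem Cert3.sound (C : Cert3) [CharP K C.q] (hF : Frame K V M A)
    (hM : Model K V M C.q C.n C.gs γ e) (h1 : C.base = true) (h2 : C.cands = true)
    (h3 : C.rows.all C.rowOK = true) (h4 : C.search = true) (h5 : C.hitsOK = true) :
    TT V C.rows.length M A := by
  have hq := hM.q_pos
  simp only [Cert3.base, Bool.and_eq_true, decide_eq_true_eq] at h1
  obtain ⟨⟨⟨⟨⟨hv, hfree⟩, hts⟩, he⟩, hB⟩, hD⟩ := h1
  rw [beq_iff_eq] at he hB
  simp only [Cert3.cands, Bool.and_eq_true, beq_iff_eq] at h2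
  obtain ⟨⟨hC0, hC1⟩, hC2⟩ := h2
  rw [List.all_eq_true] at hts
  simp only [Bool.and_eq_true, decide_eq_true_eq, List.any_eq_true, beq_iff_eq] at hts
  let r : Fin C.rows.length → Row := fun i => C.rows.getD i Row.nil
  have hr : ∀ i, C.rowOK (r i) = true := fun i => List.all_eq_true.mp h3 _ (by
    simp only [r, List.getD_eq_getElem?_getD, List.getElem?_eq_getElem i.2, Option.getD_some]
    exact List.getElem_mem i.2)
  simp only [Cert3.rowOK, Bool.and_eq_true, decide_eq_true_eq, beq_iff_eq, bne_iff_ne,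
    Bool.not_eq_true', List.contains_eq_mem, decide_eq_false_iff_not] at hr
  have hBv : ∀ x ∈ C.B, IsVec C.q C.n x := hB ▸ isVec_imgs hq hM.rows hv _
  have huv : ∀ i, IsVec C.q C.n (r i).u := fun i => (hr i).1.1.1.1.1.2 ▸ isVec_combL hq _ _
  have hbv : ∀ i, IsVec C.q C.n (r i).b := fun i => (hr i).1.1.1.1.2 ▸ isVec_combL hq _ _
  have hkey : ∀ i j : Fin C.rows.length, ∀ a ∈ A, a • ev K C.n e C.vec = ev K C.n e C.vec →
      a • ev K C.n e (r i).u = ev K C.n e (r j).u →
      (∃ m ∈ M, m • ev K C.n e (r j).b = a • ev K C.n e (r i).b) →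
      i = j ∧ ∀ x : V, a • x = x := by
    intro i j a ha hav hau ⟨m, hm, hmb⟩
    obtain ⟨zs, hzs⟩ := hM.exists_words hF (Normalises.ofMem hF ha) hv hav [C.t₀, C.t₁, C.t₂]
      (fun t ht => (hts t ht).1) fun t ht => by
        obtain ⟨c, hc, hcc⟩ := (hts t ht).2
        exact ⟨c, List.mem_range.mp hc, hcc⟩
    rw [List.forall₂_cons_left_iff] at hzs
    obtain ⟨za, zs, ⟨hza, hza2, hzaR⟩, hzs, rfl⟩ := hzs
    rw [List.forall₂_cons_left_iff] at hzs
    obtain ⟨zb, zs, ⟨hzb, hzb2, hzbR⟩, hzs, rfl⟩ := hzs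
    rw [List.forall₂_cons_left_iff] at hzs
    obtain ⟨zc, zs, ⟨hzc, hzc2, hzcR⟩, hzs, rfl⟩ := hzs
    rw [List.forall₂_nil_left_iff] at hzs
    subst hzs
    have hI := hM.map_imgs (g := DistribMulAction.toAddMonoidHom V a) hv hav (List.Forall₂.cons hzaR (List.Forall₂.cons hzbR
      (List.Forall₂.cons hzcR List.Forall₂.nil)))
    rw [← hB] at hI
    have hcomp := hM.compat (g := DistribMulAction.toAddMonoidHom V a) hv hav hzaR hzbR he
    have hma : (za, wApp C.q C.gs za C.vec) ∈ C.C₀ := hC0 ▸ mem_sqCands hza hza2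
    have hmb' : (zb, wApp C.q C.gs zb C.vec) ∈ C.C₁ := hC1 ▸ mem_sqCands hzb hzb2
    have hmc : (zc, wApp C.q C.gs zc C.vec) ∈ C.C₂ := hC2 ▸ mem_sqCands hzc hzc2
    -- the fifth translate
    have hwc : C.needed (r i) (r j) (wApp C.q C.gs zc C.vec) = combL C.q C.n (r i).cs
        [C.vec, wApp C.q C.gs za C.vec, wApp C.q C.gs zb C.vec,
          wApp C.q C.gs za (wApp C.q C.gs zb C.vec)] := by
      refine hM.inj _ _ (isVec_combL hq _ _) (isVec_combL hq _ _) ?_
      have hc5 := map_combL hM.q_zero _ hI ((r i).cs ++ [(r i).c₄])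
      rw [(hr i).1.1.1.1.1.2] at hc5
      change a • ev K C.n e (r i).u = _ at hc5
      rw [hau] at hc5
      obtain ⟨c0, c1, c2, c3, hcs⟩ : ∃ c0 c1 c2 c3, (r i).cs = [c0, c1, c2, c3] := by
        have hl := (hr i).1.1.1.1.1.1.1
        match hcs : (r i).cs, hl with
        | [a0, a1, a2, a3], _ => exact ⟨a0, a1, a2, a3, rfl⟩
      have hqK : ((C.q : ℕ) : K) = 0 := hM.q_zero
      have e2 : ((C.q - (r i).c₄ : ℕ) : K) = -(r i).c₄ := by
        rw [Nat.cast_sub (hr i).1.1.1.1.1.1.2, hqK, zero_sub]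
      simp only [hcs, Cert3.needed, imgs, List.flatMap_cons, List.flatMap_nil, List.cons_append, List.nil_append,
        ev_combL hqK, List.zip_cons_cons, List.zip_nil_left, List.map_cons, List.map_nil,
        List.sum_cons, List.sum_nil, add_zero] at hc5 ⊢
      rw [hc5, e2, Nat.cast_one, one_smul, neg_smul]
      abel
    have hs := List.all_eq_true.mp (List.all_eq_true.mp (List.all_eq_true.mp
      (List.all_eq_true.mp h4 _ hma) _ hmb') i (List.mem_range.mpr i.2)) j (List.mem_range.mpr j.2)
    have hh := List.all_eq_true.mp (List.all_eq_true.mp (List.all_eq_true.mp h5 i (List.mem_range.mpr i.2))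
      j (List.mem_range.mpr j.2)) _ hmc
    rw [show C.rows.getD i Row.nil = r i from rfl, show C.rows.getD j Row.nil = r j from rfl, hwc] at hh
    have h4L : comb4L C.q C.n (r i).cs C.vec (wApp C.q C.gs za C.vec) (wApp C.q C.gs zb C.vec)
        (wApp C.q C.gs za (wApp C.q C.gs zb C.vec)) = combL C.q C.n (r i).cs
        [C.vec, wApp C.q C.gs za C.vec, wApp C.q C.gs zb C.vec,
          wApp C.q C.gs za (wApp C.q C.gs zb C.vec)] := by
      refine hM.inj _ _ (isVec_comb4L hq _ _ _ _ _) (isVec_combL hq _ _) ?_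
      obtain ⟨c0, c1, c2, c3, hcs⟩ : ∃ c0 c1 c2 c3, (r i).cs = [c0, c1, c2, c3] := by
        have hl := (hr i).1.1.1.1.1.1.1
        match hcs : (r i).cs, hl with
        | [a0, a1, a2, a3], _ => exact ⟨a0, a1, a2, a3, rfl⟩
      rw [ev_comb4L hM.q_zero, ev_combL hM.q_zero, hcs]
      simp [add_assoc]
    rw [show C.rows.getD i Row.nil = r i from rfl, h4L, Bool.or_eq_true, hh] at hs
    replace hs := hs.resolve_left (by simp)
    rw [Cert3.slow, Bool.or_eq_true, bne_iff_ne] at hs
    replace hs := List.all_eq_true.mp (hs.resolve_left (fun hne => hne hcomp)) _ hmc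
    rw [show C.rows.getD i Row.nil = r i from rfl, show C.rows.getD j Row.nil = r j from rfl] at hs
    simp only [Bool.or_eq_true, bne_iff_ne, Bool.not_eq_true', List.contains_eq_mem,
      decide_eq_false_iff_not, Bool.and_eq_true, beq_iff_eq] at hs
    rcases hs with (hne | hnot) | ⟨hij, hIB⟩
    · exact absurd hwc hne
    · exfalso
      refine hnot ?_
      have hb := map_combL hM.q_zero _ hI (r i).cb
      rw [(hr i).1.1.1.1.2] at hb
      change a • ev K C.n e (r i).b = _ at hb
      obtain ⟨z, hz, hzl⟩ := hM.cover m hm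
      rw [(hr j).2]
      refine List.mem_map.mpr ⟨z, List.mem_range.mpr hz,
        hM.inj _ _ (isVec_wApp hq hM.rows z (hbv j)) (isVec_combL hq _ _) ?_⟩
      rw [← hzl _ (hbv j), hmb, hb]
    · refine ⟨Fin.ext hij, fun x => hM.eq_id (g := DistribMulAction.toAddMonoidHom V a) (B := C.B) ?_
        (fun k hk => ⟨_, beq_iff_eq.mp (List.all_eq_true.mp hD k (List.mem_range.mpr hk))⟩) x⟩
      rwa [hIB] at hI
  refine ⟨fun _ => ev K C.n e C.vec, fun i => ev K C.n e (r i).u, fun i => ev K C.n e (r i).b,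
    fun i => ⟨hM.free_of_freeB hv hfree, hM.free_of_freeB (hbv i) (hr i).1.1.1.2,
      hM.ev_ne_zero (huv i) (hr i).1.1.2, fun m hm =>
        hM.smul_ne (hbv i) (huv i) ((hr i).2 ▸ (hr i).1.2) hm⟩,
    fun i a ha e1 e2 e3 => (hkey i i a ha e1 e2 e3).2,
    fun i j a ha e1 e2 e3 => (hkey i j a ha e1 e2 e3).1⟩

/-- A certificate with two words. -/
structure Cert2 where
  /-- the number of elements of the field -/
  q : ℕ
  /-- the dimension -/
  n : ℕ
  /-- the generators -/
  gs : List Rows
  /-- the first vector -/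
  vec : List ℕ
  /-- the first word -/
  t₀ : ℕ
  /-- the second word -/
  t₁ : ℕ
  /-- the coefficients -/
  co : List ℕ
  /-- the second vector -/
  u : List ℕ
  /-- the translates -/
  B : List (List ℕ)
  /-- the inverse of the translates -/
  D : List (List ℕ)
  /-- candidates -/
  C₀ : List (ℕ × List ℕ)
  /-- candidates -/
  C₁ : List (ℕ × List ℕ)

/-- The check. -/
def Cert2.check (C : Cert2) : Bool :=
  decide (IsVec C.q C.n C.vec) &&
    [C.t₀, C.t₁].all (fun t => decide (t < nWords C.q C.gs) &&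
      (List.range C.q).any fun c => wApp C.q C.gs t (wApp C.q C.gs t C.vec) == scaleL C.q c C.vec) &&
    (C.B == imgs C.q C.gs [C.t₀, C.t₁] C.vec) &&
    (C.C₀ == sqCands C.q C.gs C.vec (wApp C.q C.gs C.t₀ (wApp C.q C.gs C.t₀ C.vec))) &&
    (C.C₁ == sqCands C.q C.gs C.vec (wApp C.q C.gs C.t₁ (wApp C.q C.gs C.t₁ C.vec))) &&
    ((List.range C.n).all fun i => combL C.q C.n (C.D.getD i []) C.B == unitL C.n i) &&
    (combL C.q C.n C.co C.B == C.u) &&
    C.C₀.all fun a => C.C₁.all fun b =>
      combL C.q C.n C.co (imgs C.q C.gs [a.1, b.1] C.vec) != C.u ||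
        imgs C.q C.gs [a.1, b.1] C.vec == C.B

/-- Only the identity fixes the pair of a checked certificate. -/
theorem Cert2.sound (C : Cert2) [CharP K C.q] (hF : Frame K V M A)
    (hM : Model K V M C.q C.n C.gs γ e) (h : C.check = true) :
    IsVec C.q C.n C.vec ∧ IsVec C.q C.n C.u ∧ ∀ g : V →+ V, Normalises M g →
      g (ev K C.n e C.vec) = ev K C.n e C.vec → g (ev K C.n e C.u) = ev K C.n e C.u → ∀ x, g x = x := by
  have hq := hM.q_pos
  simp only [Cert2.check, Bool.and_eq_true, decide_eq_true_eq, beq_iff_eq] at h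
  obtain ⟨⟨⟨⟨⟨⟨⟨hv, hts⟩, hB⟩, hC0⟩, hC1⟩, hD⟩, hu⟩, hs⟩ := h
  rw [List.all_eq_true] at hts
  simp only [Bool.and_eq_true, decide_eq_true_eq, List.any_eq_true, beq_iff_eq] at hts
  refine ⟨hv, hu ▸ isVec_combL hq _ _, fun g hg hgv hgu => ?_⟩
  obtain ⟨zs, hzs⟩ := hM.exists_words hF hg hv hgv [C.t₀, C.t₁] (fun t ht => (hts t ht).1) fun t ht => by
    obtain ⟨c, hc, hcc⟩ := (hts t ht).2
    exact ⟨c, List.mem_range.mp hc, hcc⟩
  rw [List.forall₂_cons_left_iff] at hzs
  obtain ⟨za, zs, ⟨hza, hza2, hzaR⟩, hzs, rfl⟩ := hzs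
  rw [List.forall₂_cons_left_iff] at hzs
  obtain ⟨zb, zs, ⟨hzb, hzb2, hzbR⟩, hzs, rfl⟩ := hzs
  rw [List.forall₂_nil_left_iff] at hzs
  subst hzs
  have hI := hM.map_imgs hv hgv (List.Forall₂.cons hzaR (List.Forall₂.cons hzbR List.Forall₂.nil))
  rw [← hB] at hI
  have hma : (za, wApp C.q C.gs za C.vec) ∈ C.C₀ := hC0 ▸ mem_sqCands hza hza2
  have hmb : (zb, wApp C.q C.gs zb C.vec) ∈ C.C₁ := hC1 ▸ mem_sqCands hzb hzb2
  have h' := List.all_eq_true.mp (List.all_eq_true.mp hs _ hma) _ hmb
  simp only [Bool.or_eq_true, bne_iff_ne, beq_iff_eq] at h'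
  rcases h' with hne | hIB
  · exfalso
    have h5 := map_combL hM.q_zero _ hI C.co
    rw [hu, hgu] at h5
    exact hne (hM.inj _ _ (isVec_combL hq _ _) (hu ▸ isVec_combL hq _ _) h5.symm)
  · rw [hIB] at hI
    exact fun x => hM.eq_id hI
      (fun k hk => ⟨_, beq_iff_eq.mp (List.all_eq_true.mp hD k (List.mem_range.mpr hk))⟩) x

end Cfsg.Agent.GStructB.CoprimeBase
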