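import Cfsg.Agent.GStructB.CoprimeBase.Frame

/-!
# Choosing second vectors above one free vector
-/

set_option autoImplicit false
set_option linter.style.haveILetI false
set_option linter.unusedSectionVars false

open MulAction

namespace Cfsg.Agent.GStructB.CoprimeBase

universe u v w

variable {K : Type u} [Field K] [Finite K] {G : Type v} [Group G] {V : Type w} [AddCommGroup V]
  [Finite V] [Module K V] [DistribMulAction G V] {M A : Subgroup G}

/-- The number of field endomorphisms is at most logarithmic. -/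
theorem pow_ringHom_le (p : ℕ) [Fact p.Prime] [CharP K p] :
    p ^ Nat.card (K →+* K) ≤ Nat.card K := by
  letI := ZMod.algebra K p
  haveI := Fintype.ofFinite K
  have h : Nat.card K = p ^ Module.finrank (ZMod p) K := by
    rw [Module.natCard_eq_pow_finrank (K := ZMod p) (V := K), Nat.card_zmod]
  rw [h]
  refine Nat.pow_le_pow_right (Fact.out : p.Prime).pos ?_
  let toAlg : (K →+* K) → (K →ₐ[ZMod p] K) := fun σ =>
    { σ with commutes' := fun r => RingHom.congr_fun (RingHom.ext_zmod (σ.comp (algebraMap (ZMod p) K))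
        (algebraMap (ZMod p) K)) r }
  haveI : Finite (K →ₐ[ZMod p] K) := Finite.of_injective _ DFunLike.coe_injective
  exact le_trans (Nat.card_le_card_of_injective toAlg
    fun σ τ h => RingHom.ext fun k => AlgHom.congr_fun h k) (card_algHom_le_finrank (ZMod p) K K)

theorem ringHom_card_pos : 0 < Nat.card (K →+* K) := by
  haveI : Finite (K →+* K) := Finite.of_injective _ DFunLike.coe_injective
  haveI : Nonempty (K →+* K) := ⟨RingHom.id K⟩
  exact Nat.card_pos

/-- Three times the number of field endomorphisms. -/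
theorem three_mul_ringHom_le {p : ℕ} [Fact p.Prime] [CharP K p] (hp : p ≠ 2) :
    3 * Nat.card (K →+* K) ≤ Nat.card K := by
  have h3 : 3 ≤ p := by have := (Fact.out : p.Prime).two_le; omega
  refine le_trans ?_ ((Nat.pow_le_pow_left h3 _).trans (pow_ringHom_le p))
  have key : ∀ f : ℕ, 3 * f ≤ 3 ^ f := by
    intro f
    induction f with
    | zero => simp
    | succ f ih =>
      rcases Nat.eq_zero_or_pos f with rfl | hf
      · simp
      · rw [pow_succ]; omega
  exact key _

variable (V) in
/-- The maps induced by the stabilizer of a vector. -/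
def stabMaps (A : Subgroup G) (v : V) : Set (V → V) :=
  {f | ∃ a ∈ A, a • v = v ∧ f = fun x => a • x}

theorem mem_stabMaps {v : V} {a : G} (ha : a ∈ A) (hv : a • v = v) :
    (fun x => a • x) ∈ stabMaps V A v := ⟨a, ha, hv, rfl⟩

/-- Above one free vector, enough second vectors with trivial stabilizer. -/
theorem qq_of_fibre {c : ℕ} {v : V} (hv : Free V M v) (Z : Set V) (hZ0 : (0 : V) ∈ Z)
    (hZM : ∀ m ∈ M, m • v ∈ Z) {L e r : ℕ} (hL : (stabMaps V A v).ncard ≤ L)
    (he : {f ∈ stabMaps V A v | (∃ x : V, f x ≠ x) ∧ ∃ u, f u = u ∧ u ∉ Z}.ncard ≤ e)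
    (hr : ∀ a ∈ A, a • v = v → (∃ x : V, a • x ≠ x) → {u : V | a • u = u ∧ u ∉ Z}.ncard ≤ r)
    (hcount : Z.ncard + e * r + (c - 1) * L < Nat.card V) : QQ V c M A := by
  classical
  haveI : Finite (V → V) := inferInstance
  set S := stabMaps V A v
  let bad : Finset V := Z.toFinite.toFinset ∪
    (Set.toFinite {f ∈ S | (∃ x : V, f x ≠ x) ∧ ∃ u, f u = u ∧ u ∉ Z}).toFinset.biUnion fun f =>
      (Set.toFinite {u : V | f u = u ∧ u ∉ Z}).toFinset
  have hbad : bad.card ≤ Z.ncard + e * r := by
    refine (Finset.card_union_le _ _).trans ?_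
    rw [← Set.ncard_eq_toFinset_card]
    refine Nat.add_le_add_left ?_ _
    refine (Finset.card_biUnion_le_card_mul _ _ r fun f hf => ?_).trans ?_
    · obtain ⟨hf, hne, -⟩ := (Set.Finite.mem_toFinset _).mp hf
      obtain ⟨a, ha, hav, rfl⟩ := hf
      rw [← Set.ncard_eq_toFinset_card]
      exact hr a ha hav hne
    · refine Nat.mul_le_mul_right r ?_
      rw [← Set.ncard_eq_toFinset_card]
      exact he
  have hgood : ∀ u ∉ bad, u ≠ 0 ∧ (∀ m ∈ M, m • v ≠ u) ∧
      ∀ a ∈ A, a • v = v → a • u = u → ∀ x : V, a • x = x := by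
    intro u hu
    simp only [bad, Finset.mem_union, Set.Finite.mem_toFinset, not_or] at hu
    obtain ⟨huZ, hu⟩ := hu
    refine ⟨fun e => huZ (e ▸ hZ0), fun m hm e => huZ (e ▸ hZM m hm), fun a ha hav hau x => ?_⟩
    by_contra hx
    refine hu (Finset.mem_biUnion.mpr ⟨fun x => a • x, ?_, ?_⟩)
    · exact (Set.Finite.mem_toFinset _).mpr ⟨mem_stabMaps ha hav, ⟨x, hx⟩, u, hau, huZ⟩
    · exact (Set.Finite.mem_toFinset _).mpr ⟨hau, huZ⟩
  -- one vector from each of `k` classes
  have step : ∀ k ≤ c, ∃ u : Fin k → V, (∀ i, u i ∉ bad) ∧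
      ∀ i j, ∀ a ∈ A, a • v = v → a • u i = u j → i = j := by
    intro k
    induction k with
    | zero => exact fun _ => ⟨Fin.elim0, fun i => i.elim0, fun i => i.elim0⟩
    | succ k ih =>
      intro hk
      obtain ⟨u, hu, hineq⟩ := ih (by omega)
      haveI : Fintype V := Fintype.ofFinite V
      let used : Finset V := bad ∪ (Finset.univ : Finset (Fin k)).biUnion fun i =>
        S.toFinite.toFinset.image fun f => f (u i)
      have hused : used.card < Fintype.card V := by
        refine (Finset.card_union_le _ _).trans_lt ?_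
        rw [← Nat.card_eq_fintype_card]
        refine lt_of_le_of_lt (Nat.add_le_add hbad ?_) hcount
        refine (Finset.card_biUnion_le_card_mul _ _ L fun i _ => ?_).trans ?_
        · refine Finset.card_image_le.trans ?_
          rwa [← Set.ncard_eq_toFinset_card]
        · rw [Finset.card_univ, Fintype.card_fin]
          exact Nat.mul_le_mul_right L (by omega)
      obtain ⟨w, -, hw⟩ := Finset.exists_mem_notMem_of_card_lt_card
        (show used.card < (Finset.univ : Finset V).card by rwa [Finset.card_univ])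
      simp only [used, Finset.mem_union, not_or] at hw
      obtain ⟨hwb, hw⟩ := hw
      have hwne : ∀ (i : Fin k) (a : G), a ∈ A → a • v = v → a • u i ≠ w := fun i a ha hav e =>
        hw (Finset.mem_biUnion.mpr ⟨i, Finset.mem_univ _, Finset.mem_image.mpr
          ⟨fun x => a • x, (Set.Finite.mem_toFinset _).mpr (mem_stabMaps ha hav), e⟩⟩)
      refine ⟨Fin.snoc u w, fun i => ?_, fun i j a ha hav e => ?_⟩
      · refine Fin.lastCases ?_ (fun i => ?_) i
        · rw [Fin.snoc_last]; exact hwb
        · rw [Fin.snoc_castSucc]; exact hu i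
      · revert e
        refine Fin.lastCases ?_ (fun i => ?_) i <;> refine Fin.lastCases ?_ (fun j => ?_) j
        · intro _; rfl
        · rw [Fin.snoc_last, Fin.snoc_castSucc]
          intro e
          refine absurd ?_ (hwne j a⁻¹ (A.inv_mem ha) (by rw [inv_smul_eq_iff, hav]))
          rw [inv_smul_eq_iff]; exact e.symm
        · rw [Fin.snoc_last, Fin.snoc_castSucc]
          exact fun e => absurd e (hwne i a ha hav)
        · rw [Fin.snoc_castSucc, Fin.snoc_castSucc]
          exact fun e => congrArg Fin.castSucc (hineq i j a ha hav e)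
  obtain ⟨u, hu, hineq⟩ := step c le_rfl
  exact ⟨fun _ => v, u, fun i => ⟨hv, (hgood _ (hu i)).1, (hgood _ (hu i)).2.1⟩,
    fun i a ha hav hau => (hgood _ (hu i)).2.2 a ha hav hau, fun i j a ha hav hau => hineq i j a ha hav hau⟩

/-- Non-trivial stabilizing maps number one less than all. -/
theorem nontrivMaps_le (v : V) (Z : Set V) {L : ℕ} (hL : (stabMaps V A v).ncard ≤ L) :
    {f ∈ stabMaps V A v | (∃ x : V, f x ≠ x) ∧ ∃ u, f u = u ∧ u ∉ Z}.ncard ≤ L - 1 := by
  have hid : (fun x : V => x) ∈ stabMaps V A v :=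
    ⟨1, A.one_mem, one_smul G v, funext fun x => (one_smul G x).symm⟩
  refine le_trans ?_ (Nat.sub_le_sub_right hL 1)
  rw [← Set.ncard_sdiff_singleton_of_mem hid]
  exact Set.ncard_le_ncard (fun f hf => ⟨hf.1, fun e => by
    obtain ⟨x, hx⟩ := hf.2.1
    exact hx (congrFun (Set.mem_singleton_iff.mp e) x)⟩) (Set.toFinite _)

/-- Fixed sets of semilinear maps moving a scalar are small. -/
theorem fix_sq_semilinear {a : G} {σ : K →+* K} (hσ : ∀ (k : K) (x : V), a • k • x = σ k • a • x)
    (hne : ∃ k : K, σ k ≠ k) : {u : V | a • u = u}.ncard ^ 2 ≤ Nat.card V := by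
  obtain ⟨k, hk⟩ := hne
  rw [sq, ← Nat.card_coe_set_eq, ← Nat.card_prod]
  refine Nat.card_le_card_of_injective
    (fun p : {u : V | a • u = u} × {u : V | a • u = u} => p.1.1 + k • p.2.1) ?_
  intro p q e
  simp only at e
  have e' := congrArg (a • ·) e
  simp only [smul_add, hσ, show a • p.1.1 = p.1.1 from p.1.2, show a • p.2.1 = p.2.1 from p.2.2,
    show a • q.1.1 = q.1.1 from q.1.2, show a • q.2.1 = q.2.1 from q.2.2] at e'
  have h0 : (σ k - k) • (p.2.1 - q.2.1) = 0 := by
    have : (σ k - k) • (p.2.1 - q.2.1) =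
        (p.1.1 + σ k • p.2.1 - (q.1.1 + σ k • q.2.1)) - (p.1.1 + k • p.2.1 - (q.1.1 + k • q.2.1)) := by
      module
    rw [this, e, e', sub_self, sub_self, sub_self]
  have h2 : p.2.1 = q.2.1 := sub_eq_zero.mp ((smul_eq_zero.mp h0).resolve_left (sub_ne_zero.mpr hk))
  rw [h2] at e
  exact Prod.ext (Subtype.ext (add_right_cancel e)) (Subtype.ext h2)

end Cfsg.Agent.GStructB.CoprimeBase
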