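import Cfsg.Agent.GStructB.CoprimeBase.Four
import Cfsg.Agent.GStructB.CoprimeBase.Greedy

/-!
# The stabilizer of a free vector acting on the four classes
-/

set_option autoImplicit false
set_option linter.style.haveILetI false
set_option linter.unusedSectionVars false

open MulAction

namespace Cfsg.Agent.GStructB.CoprimeBase

universe u v w

variable {K : Type u} [Field K] {G : Type v} [Group G] {V : Type w} [AddCommGroup V] [Module K V]
  [DistribMulAction G V] {M A : Subgroup G} {m y : G}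

/-- Bounding a set of stabilizing maps by an invariant. -/
theorem maps_le {v : V} {T : Type*} [Finite T] (P : G → Prop) (Φ : G → T)
    (hΦ : ∀ a ∈ A, ∀ b ∈ A, a • v = v → b • v = v → P a → P b → Φ a = Φ b → ∀ x : V, a • x = b • x) :
    {f : V → V | ∃ a ∈ A, a • v = v ∧ P a ∧ f = fun x => a • x}.ncard ≤ Nat.card T := by
  classical
  rw [← Nat.card_coe_set_eq]
  refine Nat.card_le_card_of_injective (fun f => Φ f.2.choose) ?_
  rintro ⟨f, hf⟩ ⟨g, hg⟩ e
  obtain ⟨ha, hav, hPa, hfa⟩ := hf.choose_spec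
  obtain ⟨hb, hbv, hPb, hgb⟩ := hg.choose_spec
  refine Subtype.ext ?_
  show f = g
  rw [hfa, hgb]
  exact funext (hΦ _ ha _ hb hav hbv hPa hPb e)

theorem stabMaps_eq (v : V) :
    stabMaps V A v = {f : V → V | ∃ a ∈ A, a • v = v ∧ True ∧ f = fun x => a • x} := by
  ext f
  simp [stabMaps]

namespace Frame

/-- The field automorphism of an element. -/
noncomputable def sig (hF : Frame K V M A) (g : G) : K →+* K := (hF.semi g).choose

theorem sig_spec (hF : Frame K V M A) (g : G) (k : K) (x : V) : g • k • x = hF.sig g k • g • x :=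
  (hF.semi g).choose_spec k x

theorem sig_eq_id [Nontrivial V] (hF : Frame K V M A) {g : G}
    (hlin : ∀ (k : K) (x : V), g • k • x = k • g • x) : hF.sig g = RingHom.id K := by
  obtain ⟨x, hx⟩ := exists_ne (0 : V)
  ext k
  have h := hF.sig_spec g k x
  rw [hlin] at h
  have hne : g • x ≠ 0 := by rwa [ne_eq, smul_eq_zero_iff_eq]
  have h' : (hF.sig g k - k) • (g • x) = 0 := by rw [sub_smul, ← h, sub_self]
  exact sub_eq_zero.mp ((smul_eq_zero.mp h').resolve_right hne)

theorem lin_of_sig_eq (hF : Frame K V M A) {a b : G} (h : hF.sig a = hF.sig b) (k : K) (x : V) :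
    (b⁻¹ * a) • k • x = k • (b⁻¹ * a) • x := by
  rw [mul_smul, mul_smul, hF.sig_spec, inv_smul_eq_iff, hF.sig_spec, smul_inv_smul, h]

end Frame

theorem comm_perms_le : ∀ s : Finset (Equiv.Perm (Fin 3)), (∀ a ∈ s, ∀ b ∈ s, a * b = b * a) → s.card ≤ 3 := by
  decide

namespace Four

variable (hQ : Four K V M m y) (hF : Frame K V M A) [Nontrivial V] (h2 : (2 : K) ≠ 0)
include hQ hF h2

theorem exists_conj {a : G} (ha : a ∈ A) (i : Fin 3) :
    ∃ (k : K) (j : Fin 3), ∀ x : V, a • word m y i • x = k • word m y j • a • x := by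
  rcases hQ.cover _ (hF.norm a ha _ (hQ.word_mem i)) with ⟨k, hk⟩ | ⟨k, j, hk⟩
  · refine absurd ⟨hF.sig a⁻¹ k, fun x => ?_⟩ (hQ.word_not_scal hF h2 i)
    have h := congrArg (a⁻¹ • ·) (hk (a • x))
    simp only [mul_smul, inv_smul_smul, hF.sig_spec a⁻¹] at h
    exact h
  · refine ⟨k, j, fun x => ?_⟩
    have h := hk (a • x)
    rwa [mul_smul, mul_smul, inv_smul_smul] at h

open scoped Classical in
/-- The class of a conjugate. -/
noncomputable def cls (a : G) (i : Fin 3) : Fin 3 :=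
  if ha : a ∈ A then (hQ.exists_conj hF h2 ha i).choose_spec.choose else i

open scoped Classical in
/-- The scalar of a conjugate. -/
noncomputable def coef (a : G) (i : Fin 3) : K :=
  if ha : a ∈ A then (hQ.exists_conj hF h2 ha i).choose else 1

theorem cls_spec {a : G} (ha : a ∈ A) (i : Fin 3) (x : V) :
    a • word m y i • x = hQ.coef hF h2 a i • word m y (hQ.cls hF h2 a i) • a • x := by
  simp only [cls, coef, dif_pos ha]
  exact (hQ.exists_conj hF h2 ha i).choose_spec.choose_spec x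

theorem cls_eq_of {a : G} (ha : a ∈ A) {i j : Fin 3} {k : K}
    (h : ∀ x : V, a • word m y i • x = k • word m y j • a • x) : hQ.cls hF h2 a i = j :=
  hQ.class_unique hF h2 (z := a * word m y i * a⁻¹)
    (fun x => by rw [mul_smul, mul_smul, hQ.cls_spec hF h2 ha, smul_inv_smul])
    (fun x => by rw [mul_smul, mul_smul, h, smul_inv_smul])

theorem cls_mul {a b : G} (ha : a ∈ A) (hb : b ∈ A) (i : Fin 3) :
    hQ.cls hF h2 (a * b) i = hQ.cls hF h2 a (hQ.cls hF h2 b i) :=
  hQ.cls_eq_of hF h2 (A.mul_mem ha hb)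
    (k := hF.sig a (hQ.coef hF h2 b i) * hQ.coef hF h2 a (hQ.cls hF h2 b i))
    fun x => by rw [mul_smul (α := G) a b, hQ.cls_spec hF h2 hb, hF.sig_spec, hQ.cls_spec hF h2 ha, smul_smul, ← mul_smul (α := G) a b]

theorem cls_one (i : Fin 3) : hQ.cls hF h2 1 i = i :=
  hQ.cls_eq_of hF h2 A.one_mem (k := 1) fun x => by rw [one_smul, one_smul, one_smul]

theorem cls_injective {a : G} (ha : a ∈ A) : Function.Injective (hQ.cls hF h2 a) := by
  intro i j e
  have h := congrArg (hQ.cls hF h2 a⁻¹) e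
  rwa [← hQ.cls_mul hF h2 (A.inv_mem ha) ha, ← hQ.cls_mul hF h2 (A.inv_mem ha) ha, inv_mul_cancel,
    hQ.cls_one, hQ.cls_one] at h

/-- Squares determine the scalar of a conjugate up to sign. -/
theorem coef_sign {a b : G} (ha : a ∈ A) (hb : b ∈ A) {i : Fin 3} (hσ : hF.sig a = hF.sig b)
    (hc : hQ.cls hF h2 a i = hQ.cls hF h2 b i) :
    hQ.coef hF h2 b i = hQ.coef hF h2 a i ∨ hQ.coef hF h2 b i = -hQ.coef hF h2 a i := by
  obtain ⟨α, hα⟩ := hQ.word_sq hF i
  obtain ⟨β, hβ⟩ := hQ.word_sq hF (hQ.cls hF h2 a i)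
  have key : ∀ c : G, c ∈ A → hQ.cls hF h2 c i = hQ.cls hF h2 a i →
      hQ.coef hF h2 c i * hQ.coef hF h2 c i * β = hF.sig c α := by
    intro c hc' hcc
    obtain ⟨x, hx⟩ := exists_ne (0 : V)
    have h : c • (word m y i * word m y i) • x =
        (hQ.coef hF h2 c i * hQ.coef hF h2 c i * β) • c • x := by
      rw [mul_smul, hQ.cls_spec hF h2 hc', hQ.cls_spec hF h2 hc', hcc,
        hF.lin _ (hQ.word_mem _), smul_smul, ← mul_smul (α := G) (word m y _), hβ, smul_smul]
    rw [hα, hF.sig_spec] at h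
    have hne : c • x ≠ 0 := by rwa [ne_eq, smul_eq_zero_iff_eq]
    have h' := sub_eq_zero.mpr h.symm
    rw [← sub_smul] at h'
    exact sub_eq_zero.mp ((smul_eq_zero.mp h').resolve_right hne)
  have hβ0 := scal_ne_zero hβ
  have h1 := key a ha rfl
  have h3 := key b hb hc.symm
  rw [← hσ, ← h1] at h3
  exact mul_self_eq_mul_self_iff.mp (mul_right_cancel₀ hβ0 h3)

/-- An element fixing all classes commutes with `M` after multiplying by an element of `M`. -/
theorem exists_twist {g : G} (hg : g ∈ A) (hlin : ∀ (k : K) (x : V), g • k • x = k • g • x)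
    (hfix : ∀ i, hQ.cls hF h2 g i = i) :
    ∃ w ∈ M, ∀ z ∈ M, ∀ x : V, (g * w) • z • x = z • (g * w) • x := by
  have hsign : ∀ i, (∀ x : V, g • word m y i • x = word m y i • g • x) ∨
      ∀ x : V, g • word m y i • x = -(word m y i • g • x) := by
    intro i
    have h1 : hQ.coef hF h2 (1 : G) i = 1 := by
      obtain ⟨x, hx⟩ := exists_ne (0 : V)
      have h := hQ.cls_spec hF h2 A.one_mem i x
      rw [hQ.cls_one, one_smul, one_smul] at h
      have hne : word m y i • x ≠ 0 := by rwa [ne_eq, smul_eq_zero_iff_eq]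
      have h' : (hQ.coef hF h2 1 i - 1) • (word m y i • x) = 0 := by rw [sub_smul, one_smul, ← h, sub_self]
      exact sub_eq_zero.mp ((smul_eq_zero.mp h').resolve_right hne)
    have hσ : hF.sig 1 = hF.sig g := by
      rw [hF.sig_eq_id hlin, hF.sig_eq_id fun k x => by rw [one_smul, one_smul]]
    rcases hQ.coef_sign hF h2 (i := i) A.one_mem hg hσ (by rw [hQ.cls_one, hfix]) with h | h <;> rw [h1] at h
    · exact Or.inl fun x => by rw [hQ.cls_spec hF h2 hg, h, hfix, one_smul]
    · exact Or.inr fun x => by rw [hQ.cls_spec hF h2 hg, h, hfix, neg_one_smul]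
  have hw : ∀ (w : G), w ∈ M → (∀ x : V, g • w • m • x = m • g • w • x) →
      (∀ x : V, g • w • y • x = y • g • w • x) →
      ∃ w ∈ M, ∀ z ∈ M, ∀ x : V, (g * w) • z • x = z • (g * w) • x := by
    intro w hw h1 h3
    refine ⟨w, hw, hQ.central_of_comm hF h2 (fun k x => ?_) (fun x => ?_) fun x => ?_⟩
    · rw [mul_smul, mul_smul, hF.lin w hw, hlin]
    · rw [mul_smul, mul_smul, h1]
    · rw [mul_smul, mul_smul, h3]
  rcases hsign 0 with hm | hm <;> rcases hsign 1 with hy | hy
  · exact hw 1 M.one_mem (fun x => by simp only [one_smul]; exact hm x)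
      fun x => by simp only [one_smul]; exact hy x
  · refine hw m hQ.mM (fun x => hm (m • x)) fun x => ?_
    rw [hQ.anti, smul_neg, show g • y • m • x = -(y • g • m • x) from hy (m • x), neg_neg]
  · refine hw y hQ.yM (fun x => ?_) fun x => hy (y • x)
    rw [show y • m • x = -(m • y • x) by rw [hQ.anti, neg_neg], smul_neg,
      show g • m • y • x = -(m • g • y • x) from hm (y • x), neg_neg]
  · refine hw (m * y) (hQ.word_mem 2) (fun x => ?_) fun x => ?_
    · simp only [mul_smul]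
      rw [show y • m • x = -(m • y • x) by rw [hQ.anti, neg_neg], smul_neg, smul_neg,
        show g • m • m • y • x = -(m • g • m • y • x) from hm (m • y • x), neg_neg]
    · simp only [mul_smul]
      rw [hQ.anti (y • x), smul_neg, show g • y • m • y • x = -(y • g • m • y • x) from hy (m • y • x),
        neg_neg]

/-- The stabilizer bound from one element. -/
theorem stab_le_key [Finite K] {v : V}
    (hkey : ∀ a ∈ A, a • v = v → (∀ (k : K) (x : V), a • k • x = k • a • x) →
      (∀ x : V, a • m • x = m • a • x) → ∀ x : V, a • x = x) :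
    (stabMaps V A v).ncard ≤ 6 * Nat.card (K →+* K) := by
  classical
  haveI : Finite (K →+* K) := Finite.of_injective _ DFunLike.coe_injective
  let sel : (K →+* K) → Fin 3 → K := fun σ j =>
    if h : ∃ a ∈ A, hF.sig a = σ ∧ hQ.cls hF h2 a 0 = j then hQ.coef hF h2 h.choose 0 else 0
  let Φ : G → (K →+* K) × Fin 3 × Bool := fun a =>
    (hF.sig a, hQ.cls hF h2 a 0, decide (hQ.coef hF h2 a 0 = sel (hF.sig a) (hQ.cls hF h2 a 0)))
  rw [stabMaps_eq]
  refine (maps_le (fun _ => True) Φ fun a ha b hb hav hbv _ _ e x => ?_).trans (le_of_eq ?_)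
  · obtain ⟨hσ, hc, hbit⟩ : hF.sig a = hF.sig b ∧ hQ.cls hF h2 a 0 = hQ.cls hF h2 b 0 ∧
        (hQ.coef hF h2 a 0 = sel (hF.sig a) (hQ.cls hF h2 a 0) ↔
          hQ.coef hF h2 b 0 = sel (hF.sig b) (hQ.cls hF h2 b 0)) := by
      simpa [Φ] using e
    rw [← hσ, ← hc] at hbit
    have hex : ∃ c ∈ A, hF.sig c = hF.sig a ∧ hQ.cls hF h2 c 0 = hQ.cls hF h2 a 0 := ⟨a, ha, rfl, rfl⟩
    have hsel : sel (hF.sig a) (hQ.cls hF h2 a 0) = hQ.coef hF h2 hex.choose 0 := dif_pos hex
    obtain ⟨hcA, hcσ, hcc⟩ := hex.choose_spec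
    have ea := hQ.coef_sign hF h2 hcA ha hcσ hcc
    have eb := hQ.coef_sign hF h2 hcA hb (hcσ.trans hσ) (hcc.trans hc)
    have hk : hQ.coef hF h2 a 0 = hQ.coef hF h2 b 0 := by
      by_cases h : hQ.coef hF h2 a 0 = sel (hF.sig a) (hQ.cls hF h2 a 0)
      · exact h.trans (hbit.mp h).symm
      · have h' : ¬ hQ.coef hF h2 b 0 = sel (hF.sig a) (hQ.cls hF h2 a 0) := fun e => h (hbit.mpr e)
        rw [hsel] at h h'
        exact (ea.resolve_left h).trans (eb.resolve_left h').symm
    have hcomm : ∀ x : V, (b⁻¹ * a) • m • x = m • (b⁻¹ * a) • x := fun x => by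
      have h1 := hQ.cls_spec hF h2 ha 0 x
      have h3 := hQ.cls_spec hF h2 hb 0 (b⁻¹ • a • x)
      rw [smul_inv_smul, ← hk, ← hc, ← h1] at h3
      rw [mul_smul, mul_smul, inv_smul_eq_iff]
      exact h3.symm
    have h := hkey _ (A.mul_mem (A.inv_mem hb) ha) (by rw [mul_smul, hav, inv_smul_eq_iff, hbv])
      (hF.lin_of_sig_eq hσ) hcomm x
    rwa [mul_smul, inv_smul_eq_iff] at h
  · rw [Nat.card_prod, Nat.card_prod, Nat.card_fin, Nat.card_eq_fintype_card (α := Bool), Fintype.card_bool]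
    ring

/-- The stabilizer bound from the triviality of elements fixing all classes. -/
theorem stab_le_classes [Finite K] {v : V}
    (hcls : ∀ a ∈ A, a • v = v → (∀ (k : K) (x : V), a • k • x = k • a • x) →
      (∀ i, hQ.cls hF h2 a i = i) → ∀ x : V, a • x = x) :
    (stabMaps V A v).ncard ≤ 6 * Nat.card (K →+* K) := by
  classical
  haveI : Finite (K →+* K) := Finite.of_injective _ DFunLike.coe_injective
  let T := (K →+* K) × {p : Fin 3 × Fin 3 // p.1 ≠ p.2}
  let Φ : G → T := fun a =>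
    if ha : a ∈ A then (hF.sig a, ⟨(hQ.cls hF h2 a 0, hQ.cls hF h2 a 1), fun e =>
      absurd (hQ.cls_injective hF h2 ha e) (by decide)⟩) else (hF.sig a, ⟨(0, 1), by decide⟩)
  rw [stabMaps_eq]
  refine (maps_le (fun _ => True) Φ fun a ha b hb hav hbv _ _ e x => ?_).trans (le_of_eq ?_)
  · obtain ⟨hσ, h0, h1⟩ : hF.sig a = hF.sig b ∧ hQ.cls hF h2 a 0 = hQ.cls hF h2 b 0 ∧
        hQ.cls hF h2 a 1 = hQ.cls hF h2 b 1 := by
      simp only [Φ, dif_pos ha, dif_pos hb] at e
      exact ⟨congrArg Prod.fst e, congrArg (fun q : T => q.2.1.1) e, congrArg (fun q : T => q.2.1.2) e⟩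
    have hall : ∀ i, hQ.cls hF h2 a i = hQ.cls hF h2 b i := by
      have key : ∀ p q : Fin 3 → Fin 3, Function.Injective p → Function.Injective q → p 0 = q 0 →
          p 1 = q 1 → ∀ i, p i = q i := by unfold Function.Injective; decide
      exact key _ _ (hQ.cls_injective hF h2 ha) (hQ.cls_injective hF h2 hb) h0 h1
    have h := hcls _ (A.mul_mem (A.inv_mem hb) ha) (by rw [mul_smul, hav, inv_smul_eq_iff, hbv])
      (hF.lin_of_sig_eq hσ) (fun i => by
        rw [hQ.cls_mul hF h2 (A.inv_mem hb) ha, hall, ← hQ.cls_mul hF h2 (A.inv_mem hb) hb,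
          inv_mul_cancel, hQ.cls_one]) x
    rwa [mul_smul, inv_smul_eq_iff] at h
  · rw [Nat.card_prod, show Nat.card {p : Fin 3 × Fin 3 // p.1 ≠ p.2} = 6 by
      rw [Nat.card_eq_fintype_card]; decide, mul_comm]

/-- The permutation of the classes. -/
noncomputable def clsPerm (a : G) (ha : a ∈ A) : Equiv.Perm (Fin 3) :=
  Equiv.ofBijective _ (Finite.injective_iff_bijective.mp (hQ.cls_injective hF h2 ha))

/-- The stabilizer bounds when linear stabilizing elements commute. -/
theorem stab_le_comm [Finite K] {v : V}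
    (hcls : ∀ a ∈ A, a • v = v → (∀ (k : K) (x : V), a • k • x = k • a • x) →
      (∀ i, hQ.cls hF h2 a i = i) → ∀ x : V, a • x = x)
    (hcomm : ∀ a ∈ A, ∀ b ∈ A, a • v = v → b • v = v → (∀ (k : K) (x : V), a • k • x = k • a • x) →
      (∀ (k : K) (x : V), b • k • x = k • b • x) → ∀ x : V, a • b • x = b • a • x) :
    (stabMaps V A v).ncard ≤ 3 * Nat.card (K →+* K) ∧
    {f : V → V | ∃ a ∈ A, a • v = v ∧ hF.sig a ≠ RingHom.id K ∧ f = fun x => a • x}.ncard ≤
      3 * (Nat.card (K →+* K) - 1) := by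
  classical
  haveI : Finite (K →+* K) := Finite.of_injective _ DFunLike.coe_injective
  let rep : (K →+* K) → G := fun σ =>
    if h : ∃ a ∈ A, a • v = v ∧ hF.sig a = σ then h.choose else 1
  have hrep : ∀ a ∈ A, a • v = v → rep (hF.sig a) ∈ A ∧ rep (hF.sig a) • v = v ∧
      hF.sig (rep (hF.sig a)) = hF.sig a := fun a ha hav => by
    have hex : ∃ b ∈ A, b • v = v ∧ hF.sig b = hF.sig a := ⟨a, ha, hav, rfl⟩
    simp only [rep, dif_pos hex]
    exact hex.choose_spec
  let P : Set (Equiv.Perm (Fin 3)) := {e | ∃ a, ∃ ha : a ∈ A, a • v = v ∧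
    (∀ (k : K) (x : V), a • k • x = k • a • x) ∧ hQ.clsPerm hF h2 a ha = e}
  have hP : P.toFinset.card ≤ 3 := by
    refine comm_perms_le _ ?_
    intro p hp q hq
    rw [Set.mem_toFinset] at hp hq
    obtain ⟨a, ha, hav, hla, rfl⟩ := hp
    obtain ⟨b, hb, hbv, hlb, rfl⟩ := hq
    refine Equiv.ext fun i => ?_
    show hQ.cls hF h2 a (hQ.cls hF h2 b i) = hQ.cls hF h2 b (hQ.cls hF h2 a i)
    rw [← hQ.cls_mul hF h2 ha hb, ← hQ.cls_mul hF h2 hb ha]
    refine hQ.cls_eq_of hF h2 (A.mul_mem ha hb) (k := hQ.coef hF h2 (b * a) i) fun x => ?_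
    have h := hQ.cls_spec hF h2 (A.mul_mem hb ha) i x
    rw [mul_smul, mul_smul, hcomm a ha b hb hav hbv hla hlb, hcomm a ha b hb hav hbv hla hlb,
      ← mul_smul, ← mul_smul b a x]
    exact h
  have hmem : ∀ a ∈ A, a • v = v → ∃ h : (rep (hF.sig a))⁻¹ * a ∈ A,
      hQ.clsPerm hF h2 ((rep (hF.sig a))⁻¹ * a) h ∈ P := fun a ha hav => by
    obtain ⟨h1, h3, h4⟩ := hrep a ha hav
    exact ⟨A.mul_mem (A.inv_mem h1) ha, _, _, by rw [mul_smul, hav, inv_smul_eq_iff, h3],
      hF.lin_of_sig_eq h4.symm, rfl⟩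
  have hone : (1 : Equiv.Perm (Fin 3)) ∈ P := ⟨1, A.one_mem, one_smul G v,
    fun k x => by rw [one_smul, one_smul], Equiv.ext fun i => hQ.cls_one hF h2 i⟩
  let ψ : G → P := fun a =>
    if h : a ∈ A ∧ a • v = v then ⟨_, (hmem a h.1 h.2).choose_spec⟩ else ⟨1, hone⟩
  have hinj : ∀ a ∈ A, ∀ b ∈ A, a • v = v → b • v = v → hF.sig a = hF.sig b → ψ a = ψ b →
      ∀ x : V, a • x = b • x := by
    intro a ha b hb hav hbv hσ e x
    simp only [ψ, dif_pos (And.intro ha hav), dif_pos (And.intro hb hbv), Subtype.mk.injEq] at e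
    obtain ⟨h1, h3, h4⟩ := hrep a ha hav
    have hrb := hrep b hb hbv
    rw [← hσ] at hrb
    have hcl : ∀ i, hQ.cls hF h2 (b⁻¹ * a) i = i := fun i => by
      have h := congrArg (fun p : Equiv.Perm (Fin 3) => p i) e
      change hQ.cls hF h2 ((rep (hF.sig a))⁻¹ * a) i = hQ.cls hF h2 ((rep (hF.sig b))⁻¹ * b) i at h
      rw [← hσ, hQ.cls_mul hF h2 (A.inv_mem h1) ha, hQ.cls_mul hF h2 (A.inv_mem h1) hb] at h
      have h5 := hQ.cls_injective hF h2 (A.inv_mem h1) h
      rw [hQ.cls_mul hF h2 (A.inv_mem hb) ha, h5, ← hQ.cls_mul hF h2 (A.inv_mem hb) hb, inv_mul_cancel,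
        hQ.cls_one]
    have h := hcls _ (A.mul_mem (A.inv_mem hb) ha) (by rw [mul_smul, hav, inv_smul_eq_iff, hbv])
      (hF.lin_of_sig_eq hσ) hcl x
    rwa [mul_smul, inv_smul_eq_iff] at h
  have hPc : Nat.card P ≤ 3 := by
    rw [Nat.card_eq_fintype_card, ← Set.toFinset_card]; exact hP
  constructor
  · rw [stabMaps_eq]
    refine (maps_le (fun _ => True) (fun a => (hF.sig a, ψ a)) fun a ha b hb hav hbv _ _ e =>
      hinj a ha b hb hav hbv (congrArg Prod.fst e) (congrArg Prod.snd e)).trans ?_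
    rw [Nat.card_prod, mul_comm 3]
    exact Nat.mul_le_mul_left _ hPc
  · let Φ : G → Option ({σ : K →+* K // σ ≠ RingHom.id K} × P) := fun a =>
      if h : hF.sig a ≠ RingHom.id K then some (⟨hF.sig a, h⟩, ψ a) else none
    let T := {σ : K →+* K // σ ≠ RingHom.id K} × P
    rw [← Nat.card_coe_set_eq]
    refine le_trans (Nat.card_le_card_of_injective (β := T)
      (fun f => (⟨hF.sig f.2.choose, f.2.choose_spec.2.2.1⟩, ψ f.2.choose)) ?_) ?_
    · rintro ⟨f, hf⟩ ⟨g, hg⟩ e
      obtain ⟨ha, hav, hPa, hfa⟩ := hf.choose_spec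
      obtain ⟨hb, hbv, hPb, hgb⟩ := hg.choose_spec
      refine Subtype.ext ?_
      show f = g
      rw [hfa, hgb]
      exact funext (hinj _ ha _ hb hav hbv (congrArg (fun q : T => q.1.1) e) (congrArg Prod.snd e))
    · rw [Nat.card_prod, mul_comm 3, show Nat.card {σ : K →+* K // σ ≠ RingHom.id K} =
        Nat.card (K →+* K) - 1 by
          haveI := Fintype.ofFinite (K →+* K)
          rw [Nat.card_eq_fintype_card, Nat.card_eq_fintype_card,
            Fintype.card_subtype_compl, Fintype.card_subtype_eq]]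
      exact Nat.mul_le_mul_left _ hPc

end Four

end Cfsg.Agent.GStructB.CoprimeBase
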