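import Mathlib

/-!
# Colourings of affine spaces with trivial stabilisers

A group of affine maps of `𝔽_s ^ a` has `c` pairwise inequivalent colourings by `c` colours, each with
trivial stabilizer, for `c = 5`, and for `c = 3` under the mild conditions below.
-/

set_option autoImplicit false
set_option linter.style.haveILetI false
set_option linter.unusedSectionVars false

namespace Cfsg.Agent.GStructB.CoprimeBase

universe u v

/-- The colouring `χ` has trivial stabilizer. -/
def Fixes {c : ℕ} (G : Type u) {Ω : Type v} [Group G] [MulAction G Ω] (χ : Ω → Fin c) : Prop :=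
  ∀ g : G, (∀ x, χ (g • x) = χ x) → ∀ x : Ω, g • x = x

/-- `c` inequivalent colourings with trivial stabilizers. -/
def Cols (c : ℕ) (G : Type u) (Ω : Type v) [Group G] [MulAction G Ω] : Prop :=
  ∃ col : Fin c → Ω → Fin c, (∀ i, Fixes G (col i)) ∧
    ∀ i j (g : G), (∀ x, col j (g • x) = col i x) → i = j

section shift

theorem fin_five_gen : ∀ d k l : Fin 5, d ≠ 0 → ∃ n : Fin 5, k + (n : ℕ) • d = l := by decide

theorem fin_three_gen : ∀ d k l : Fin 3, d ≠ 0 → ∃ n : Fin 3, k + (n : ℕ) • d = l := by decide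

variable {G : Type u} [Group G] {Ω : Type v} [MulAction G Ω] [Finite Ω] {c : ℕ}

/-- Cyclic shifts of a colouring with two colour classes of different sizes. -/
theorem cols_of_shift (hc : c = 5 ∨ c = 3) (χ : Ω → Fin c) (hfix : Fixes G χ)
    (hne : ∃ k l : Fin c, Nat.card {x : Ω // χ x = k} ≠ Nat.card {x : Ω // χ x = l}) : Cols c G Ω := by
  haveI : NeZero c := ⟨by omega⟩
  refine ⟨fun i x => χ x + i, fun i g h => hfix g fun x => add_right_cancel (h x), fun i j g h => ?_⟩
  by_contra hij
  obtain ⟨k, l, hkl⟩ := hne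
  apply hkl
  set d := i - j with hd
  have hstep : ∀ k, Nat.card {x : Ω // χ x = k + d} = Nat.card {x : Ω // χ x = k} := by
    intro k
    refine (Nat.card_congr ((MulAction.toPerm g).subtypeEquiv fun x => ?_)).symm
    have hx : χ (g • x) + j = χ x + i := h x
    have hx' : χ (g • x) = χ x + d := by rw [hd, add_sub, ← hx, add_sub_cancel_right]
    show χ x = k ↔ χ (g • x) = k + d
    rw [hx', add_left_inj]
  have hiter : ∀ (n : ℕ) (k : Fin c), Nat.card {x : Ω // χ x = k + n • d} = Nat.card {x : Ω // χ x = k} := by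
    intro n
    induction n with
    | zero => intro k; rw [zero_smul, add_zero]
    | succ n ih => intro k; rw [succ_nsmul, ← add_assoc, hstep, ih]
  have hd0 : d ≠ 0 := sub_ne_zero.mpr hij
  have hgen : ∀ d k l : Fin c, d ≠ 0 → ∃ n : Fin c, k + (n : ℕ) • d = l := by
    rcases hc with rfl | rfl
    · exact fin_five_gen
    · exact fin_three_gen
  obtain ⟨n, hn⟩ := hgen d k l hd0
  rw [← hn, hiter]

/-- An unused colour. -/
theorem cols_of_unused (hc : c = 5 ∨ c = 3) (χ : Ω → Fin c) (hfix : Fixes G χ) (x₀ : Ω)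
    (k : Fin c) (hk : ∀ x, χ x ≠ k) : Cols c G Ω := by
  refine cols_of_shift hc χ hfix ⟨k, χ x₀, fun e => ?_⟩
  haveI : IsEmpty {x : Ω // χ x = k} := ⟨fun x => hk _ x.2⟩
  haveI : Nonempty {x : Ω // χ x = χ x₀} := ⟨⟨x₀, rfl⟩⟩
  rw [Nat.card_of_isEmpty] at e
  exact Nat.card_pos.ne e

/-- The number of colours does not divide the number of points. -/
theorem cols_of_not_dvd (hc : c = 5 ∨ c = 3) (χ : Ω → Fin c) (hfix : Fixes G χ)
    (hdvd : ¬ c ∣ Nat.card Ω) : Cols c G Ω := by
  classical
  haveI : Fintype Ω := Fintype.ofFinite Ω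
  haveI : NeZero c := ⟨by omega⟩
  refine cols_of_shift hc χ hfix ?_
  by_contra h
  push Not at h
  apply hdvd
  have : Nat.card Ω = ∑ k : Fin c, Nat.card {x : Ω // χ x = k} := by
    rw [← Nat.card_sigma, Nat.card_congr (Equiv.sigmaFiberEquiv χ)]
  rw [this, Finset.sum_congr rfl fun k _ => h k 0, Finset.sum_const, Finset.card_univ, Fintype.card_fin,
    smul_eq_mul]
  exact dvd_mul_right _ _

end shift

section vec

variable {s a : ℕ} [Fact s.Prime]

local notation "W" => Fin a → ZMod s

/-- The coordinate vectors. -/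
def unit (i : Fin a) : Fin a → ZMod s := Pi.single i 1

theorem unit_ne_zero (i : Fin a) : (unit i : W) ≠ 0 := fun e => one_ne_zero (α := ZMod s) (by
  have := congrFun e i
  simpa [unit] using this)

theorem unit_inj {i j : Fin a} (e : (unit i : W) = unit j) : i = j := by
  by_contra h
  have := congrFun e i
  simp [unit, Pi.single_eq_of_ne h] at this

/-- A linear map fixing the coordinate vectors is the identity. -/
theorem eq_id_of_unit (L : W →+ W) (h : ∀ i, L (unit i) = unit i) (x : W) : L x = x := by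
  have e : L.toZModLinearMap s = LinearMap.id := LinearMap.pi_ext fun i t => by
    have ht : (Pi.single i t : W) = t • unit i := by
      rw [unit, ← Pi.single_smul, smul_eq_mul, mul_one]
    rw [ht, map_smul, map_smul]
    congr 1
    exact h i
  exact DFunLike.congr_fun e x

/-- Consecutive pairs. -/
def edge (i j : Fin a) : Prop := (j : ℕ) = i + 1

/-- The vector attached to a pair. -/
def dirVec (i j : Fin a) : Fin a → ZMod s := unit i + (2 : ZMod s) • unit j

theorem dirVec_self {i j : Fin a} (hij : i ≠ j) : (dirVec i j : W) i = 1 := by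
  simp [dirVec, unit, Pi.single_eq_of_ne hij]

theorem dirVec_snd {i j : Fin a} (hij : i ≠ j) : (dirVec i j : W) j = 2 := by
  simp [dirVec, unit, Pi.single_eq_of_ne hij.symm]

theorem dirVec_other {i j k : Fin a} (hi : k ≠ i) (hj : k ≠ j) : (dirVec i j : W) k = 0 := by
  simp [dirVec, unit, Pi.single_eq_of_ne hi, Pi.single_eq_of_ne hj]

theorem edge_ne {i j : Fin a} (h : edge i j) : i ≠ j := fun e => by subst e; simp [edge] at h

theorem two_ne (hs : 3 ≤ s) : (2 : ZMod s) ≠ 0 ∧ (2 : ZMod s) ≠ 1 := by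
  haveI : Fact (1 < s) := ⟨by omega⟩
  refine ⟨fun e => ?_, fun e => ?_⟩
  · have h := congrArg ZMod.val e
    rw [show (2 : ZMod s) = ((2 : ℕ) : ZMod s) by norm_num, ZMod.val_natCast_of_lt (by omega),
      ZMod.val_zero] at h
    omega
  · have h := congrArg ZMod.val e
    rw [show (2 : ZMod s) = ((2 : ℕ) : ZMod s) by norm_num, ZMod.val_natCast_of_lt (by omega),
      ZMod.val_one] at h
    omega

theorem four_ne_one (hs : s ≠ 3) : (2 : ZMod s) * 2 ≠ 1 := by
  intro e
  have h : ((3 : ℕ) : ZMod s) = 0 := by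
    push_cast
    linear_combination e
  rw [ZMod.natCast_eq_zero_iff] at h
  exact hs ((Nat.prime_dvd_prime_iff_eq Fact.out Nat.prime_three).mp h)

theorem unit_ne_dirVec (hs : 3 ≤ s) {i j k : Fin a} (h : edge i j) (t : ZMod s) (ht : t ≠ 0) :
    (unit k : W) ≠ t • dirVec i j := by
  intro e
  have hij := edge_ne h
  by_cases hki : k = i
  · have := congrFun e j
    rw [Pi.smul_apply, dirVec_snd hij, smul_eq_mul] at this
    simp [unit, Pi.single_eq_of_ne (hki ▸ hij.symm : j ≠ k)] at this
    rcases this with h | h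
    · exact ht h
    · exact (two_ne hs).1 h
  · have := congrFun e i
    rw [Pi.smul_apply, dirVec_self hij, smul_eq_mul, mul_one] at this
    simp [unit, Pi.single_eq_of_ne (fun h => hki h.symm : i ≠ k)] at this
    exact ht this.symm

/-- A linear map permuting the coordinate vectors and keeping the directed path is the identity. -/
theorem eq_id_of_path (hs : 3 ≤ s) (L : W →+ W) (hL : Function.Injective L)
    (hb : ∀ i, ∃ k, L (unit i) = unit k)
    (hp : ∀ i j, edge i j → ∃ k l, edge k l ∧ L (dirVec i j) = dirVec k l) (x : W) : L x = x := by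
  choose π hπ using hb
  refine eq_id_of_unit L (fun i => ?_) x
  rw [hπ]
  congr 1
  have hinj : Function.Injective π := fun i j e => unit_inj (hL (by rw [hπ, hπ, e]))
  have hstep : ∀ i j, edge i j → edge (π i) (π j) := by
    intro i j hij
    obtain ⟨k, l, hkl, e⟩ := hp i j hij
    have e' : (dirVec (π i) (π j) : W) = dirVec k l := by
      rw [← e]
      show _ = L (unit i + (2 : ZMod s) • unit j)
      rw [map_add, ZMod.map_smul L (2 : ZMod s), hπ, hπ]
      rfl
    have hne : π i ≠ π j := fun h => edge_ne hij (hinj h)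
    have h1 := congrFun e' (π i)
    rw [dirVec_self hne] at h1
    have hik : π i = k := by
      by_contra hk
      by_cases hl : π i = l
      · rw [hl, dirVec_snd (edge_ne hkl)] at h1
        exact (two_ne hs).2 h1.symm
      · rw [dirVec_other hk hl] at h1
        exact one_ne_zero h1
    have h2 := congrFun e' (π j)
    rw [dirVec_snd hne] at h2
    have hjl : π j = l := by
      by_contra hl
      rw [dirVec_other (fun h => hne (hik.trans h.symm)) hl] at h2
      exact (two_ne hs).1 h2
    exact hik ▸ hjl ▸ hkl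
  -- positions increase along the path
  have hpos : ∀ (n : ℕ) (hn : n < a), (π ⟨n, hn⟩ : ℕ) = π ⟨0, by omega⟩ + n := by
    intro n
    induction n with
    | zero => intro hn; rfl
    | succ n ih =>
      intro hn
      have := hstep ⟨n, by omega⟩ ⟨n + 1, hn⟩ rfl
      unfold edge at this
      rw [this, ih]
      omega
  have ha : 0 < a := Fin.pos i
  have h0 : (π ⟨0, ha⟩ : ℕ) = 0 := by
    have := hpos (a - 1) (by omega)
    have := (π ⟨a - 1, by omega⟩).isLt
    omega
  exact Fin.ext (by rw [hpos i.1 i.2, h0, zero_add])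

end vec

section affine

variable {G : Type u} [Group G] {Ω : Type v} [MulAction G Ω] [Finite Ω] {s a c : ℕ} [Fact s.Prime]
  (e : Ω ≃ (Fin a → ZMod s))

/-- `G` acts by affine maps. -/
def Affine (G : Type u) {Ω : Type v} [Group G] [MulAction G Ω] {s a : ℕ}
    (e : Ω ≃ (Fin a → ZMod s)) : Prop :=
  ∀ g : G, ∃ (L : (Fin a → ZMod s) →+ (Fin a → ZMod s)) (t : Fin a → ZMod s),
    Function.Injective L ∧ ∀ x, e (g • x) = L (e x) + t

variable {e}

/-- From a pattern on vectors to a colouring: the origin is its own class. -/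
theorem fixes_of_linear (haff : Affine G e) (F : (Fin a → ZMod s) → Fin c)
    (h0 : ∀ w, F w = F 0 → w = 0)
    (hlin : ∀ L : (Fin a → ZMod s) →+ (Fin a → ZMod s), Function.Injective L →
      (∀ w, F (L w) = F w) → ∀ w, L w = w) : Fixes G (F ∘ e) := by
  intro g hg x
  obtain ⟨L, t, hL, hLt⟩ := haff g
  have hinv : ∀ w, F (L w + t) = F w := fun w => by
    have := hg (e.symm w)
    simp only [Function.comp_apply, hLt, Equiv.apply_symm_apply] at this
    exact this
  have ht : t = 0 := h0 t (by simpa using hinv 0)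
  have hid := hlin L hL (fun w => by simpa [ht] using hinv w)
  exact e.injective (by rw [hLt, hid, ht, add_zero])

theorem cols_mult (hc : c = 5 ∨ c = 3) (hs : 5 ≤ s) (ha : 0 < a) (haff : Affine G e) :
    Cols c G Ω := by
  classical
  have h3 : 3 ≤ s := by omega
  haveI : NeZero c := ⟨by omega⟩
  let B : (Fin a → ZMod s) → Prop := fun w => (∃ i, w = unit i) ∨
    ∃ i j, edge i j ∧ (w = dirVec i j ∨ w = (2 : ZMod s) • dirVec i j)
  let F : (Fin a → ZMod s) → Fin c := fun w =>
    if w = 0 then ⟨0, by omega⟩ else if B w then ⟨1, by omega⟩ else ⟨2, by omega⟩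
  have hF0 : F 0 = ⟨0, by omega⟩ := if_pos rfl
  have h0 : ∀ w, F w = F 0 → w = 0 := by
    intro w hw
    by_contra hne
    simp only [F, if_neg hne, if_pos] at hw
    split_ifs at hw <;> simp [Fin.ext_iff] at hw
  have hB : ∀ w, B w ↔ F w = ⟨1, by omega⟩ := by
    intro w
    by_cases hw : w = 0
    · subst hw
      constructor
      · rintro (⟨i, e'⟩ | ⟨i, j, hij, e' | e'⟩)
        · exact absurd e'.symm (unit_ne_zero i)
        · exact absurd (congrFun e' i).symm (by rw [dirVec_self (edge_ne hij)]; simp)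
        · exact absurd (congrFun e' i).symm (by
            rw [Pi.smul_apply, dirVec_self (edge_ne hij)]; simpa using (two_ne h3).1)
      · intro h; simp [hF0, Fin.ext_iff] at h
    · simp only [F, if_neg hw]
      by_cases hb : B w <;> simp [hb, Fin.ext_iff]
  have hfix : Fixes G (F ∘ e) := by
    refine fixes_of_linear haff F h0 fun L hL hinv w => ?_
    have hBL : ∀ w, B (L w) ↔ B w := fun w => by rw [hB, hB, hinv]
    have hscal : ∀ (k : ZMod s) w, L (k • w) = k • L w := fun k w => ZMod.map_smul L k w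
    -- the coordinate vectors are the elements of `B` without a second multiple in `B`
    have hsingle : ∀ i (k : ZMod s), B (k • unit i) → k = 1 := by
      intro i k hk
      have hk0 : k ≠ 0 := by
        rintro rfl
        rw [zero_smul] at hk
        exact absurd ((hB 0).mp hk) (by simp [hF0, Fin.ext_iff])
      rcases hk with ⟨j, e'⟩ | ⟨j, l, hjl, e' | e'⟩
      · have := congrFun e' i
        by_cases hij : i = j
        · subst hij; simpa [unit] using this
        · simp [unit, Pi.single_eq_of_ne hij] at this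
          exact absurd this hk0
      · refine absurd ?_ (unit_ne_dirVec h3 (k := i) hjl k⁻¹ (inv_ne_zero hk0))
        rw [← e', smul_smul, inv_mul_cancel₀ hk0, one_smul]
      · refine absurd ?_ (unit_ne_dirVec h3 (k := i) hjl (k⁻¹ * 2) (mul_ne_zero (inv_ne_zero hk0) (two_ne h3).1))
        rw [mul_smul, ← e', smul_smul, inv_mul_cancel₀ hk0, one_smul]
    refine eq_id_of_path h3 L hL (fun i => ?_) (fun i j hij => ?_) w
    · rcases (hBL (unit i)).mpr (Or.inl ⟨i, rfl⟩) with h | ⟨k, l, hkl, e' | e'⟩
      · exact h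
      · exfalso
        refine (two_ne h3).2 (hsingle i 2 ((hBL _).mp ?_))
        rw [hscal, e']
        exact Or.inr ⟨k, l, hkl, Or.inr rfl⟩
      · exfalso
        have h2 : (2 : ZMod s)⁻¹ = 1 := by
          refine hsingle i _ ((hBL _).mp ?_)
          rw [hscal, e', smul_smul, inv_mul_cancel₀ (two_ne h3).1, one_smul]
          exact Or.inr ⟨k, l, hkl, Or.inl rfl⟩
        exact (two_ne h3).2 (inv_eq_one.mp h2)
    · rcases (hBL (dirVec i j)).mpr (Or.inr ⟨i, j, hij, Or.inl rfl⟩) with ⟨k, e'⟩ | ⟨k, l, hkl, e' | e'⟩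
      · exfalso
        have h2 : B (L ((2 : ZMod s) • dirVec i j)) := (hBL _).mpr (Or.inr ⟨i, j, hij, Or.inr rfl⟩)
        rw [hscal, e'] at h2
        exact (two_ne h3).2 (hsingle k 2 h2)
      · exact ⟨k, l, hkl, e'⟩
      · exfalso
        have h2 : B (L ((2 : ZMod s) • dirVec i j)) := (hBL _).mpr (Or.inr ⟨i, j, hij, Or.inr rfl⟩)
        rw [hscal, e', smul_smul] at h2
        have h4 : (2 : ZMod s) * 2 ≠ 0 := mul_ne_zero (two_ne h3).1 (two_ne h3).1
        rcases h2 with ⟨m, e''⟩ | ⟨m, r, hmr, e'' | e''⟩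
        · exact unit_ne_dirVec h3 hkl _ h4 e''.symm
        · have hk := congrFun e'' k
          rw [Pi.smul_apply, dirVec_self (edge_ne hkl), smul_eq_mul, mul_one] at hk
          by_cases h1 : k = m
          · rw [h1, dirVec_self (edge_ne hmr)] at hk
            exact four_ne_one (by omega) hk
          · by_cases h2' : k = r
            · rw [h2', dirVec_snd (edge_ne hmr)] at hk
              exact (two_ne h3).2 (mul_left_cancel₀ (two_ne h3).1 (hk.trans (mul_one _).symm))
            · exact h4 (hk.trans (dirVec_other h1 h2'))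
        · rw [mul_smul] at e''
          have h5 := smul_right_injective _ (two_ne h3).1 e''
          have hk := congrFun h5 k
          rw [Pi.smul_apply, dirVec_self (edge_ne hkl), smul_eq_mul, mul_one] at hk
          by_cases h1 : k = m
          · rw [h1, dirVec_self (edge_ne hmr)] at hk
            exact (two_ne h3).2 hk
          · by_cases h2' : k = r
            · have hl := congrFun h5 l
              rw [Pi.smul_apply, dirVec_snd (edge_ne hkl), smul_eq_mul] at hl
              by_cases h6 : l = m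
              · rw [h6, dirVec_self (edge_ne hmr)] at hl
                exact four_ne_one (by omega) hl
              · exact h4 (hl.trans (dirVec_other h6 (fun h => edge_ne hkl (h2'.trans h.symm))))
            · exact (two_ne h3).1 (hk.trans (dirVec_other h1 h2'))
  rcases hc with rfl | rfl
  · refine cols_of_unused (Or.inl rfl) _ hfix (e.symm 0) 3 fun x => ?_
    show F (e x) ≠ 3
    simp only [F]
    split_ifs <;> simp [Fin.ext_iff]
  · refine cols_of_not_dvd (Or.inr rfl) _ hfix ?_
    rw [Nat.card_congr e, Nat.card_pi]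
    simp only [Nat.card_zmod, Finset.prod_const, Finset.card_univ, Fintype.card_fin]
    intro hd
    have := (Nat.prime_dvd_prime_iff_eq Nat.prime_three (Fact.out : s.Prime)).mp
      (Nat.prime_three.dvd_of_dvd_pow hd)
    omega

theorem cols_three (hs : s = 3) (ha : 0 < a) (haff : Affine G e) : Cols 5 G Ω := by
  classical
  have h3 : 3 ≤ s := by omega
  let P : (Fin a → ZMod s) → Prop := fun w => ∃ i, w = unit i
  let D : (Fin a → ZMod s) → Prop := fun w => ∃ i j, edge i j ∧ w = dirVec i j
  let F : (Fin a → ZMod s) → Fin 5 := fun w =>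
    if w = 0 then 0 else if P w then 1 else if D w then 2 else 3
  have hP : ∀ w, F w = 1 ↔ P w := by
    intro w
    simp only [F]
    split_ifs with h1 h2 h3' <;> simp_all
    rintro ⟨i, hi⟩
    exact unit_ne_zero i hi.symm
  have hD : ∀ w, D w → F w = 2 := by
    rintro w ⟨i, j, hij, rfl⟩
    have h0 : (dirVec i j : Fin a → ZMod s) ≠ 0 := fun e' => by
      have := congrFun e' i
      rw [dirVec_self (edge_ne hij)] at this
      exact one_ne_zero this
    have h1 : ¬ P (dirVec i j : Fin a → ZMod s) := fun ⟨k, e'⟩ =>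
      unit_ne_dirVec h3 (k := k) hij 1 one_ne_zero (by rw [one_smul]; exact e'.symm)
    simp only [F, if_neg h0, if_neg h1, D]
    exact if_pos ⟨i, j, hij, rfl⟩
  refine cols_of_unused (Or.inl rfl) (F ∘ e) (fixes_of_linear haff F ?_ fun L hL hinv w => ?_)
    (e.symm 0) 4 fun x => ?_
  · intro w hw
    by_contra hne
    simp only [F, if_neg hne, if_pos] at hw
    split_ifs at hw <;> simp at hw
  · refine eq_id_of_path h3 L hL (fun i => (hP _).mp (by rw [hinv, hP]; exact ⟨i, rfl⟩)) (fun i j hij => ?_) w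
    have h2 : F (L (dirVec i j)) = 2 := by rw [hinv]; exact hD _ ⟨i, j, hij, rfl⟩
    by_contra hno
    simp only [F] at h2
    split_ifs at h2 <;> first
      | (exact absurd h2 (by decide))
      | (obtain ⟨k, l, hkl, e'⟩ := ‹D _›; exact hno ⟨k, l, hkl, e'⟩)
  · show F (e x) ≠ 4
    simp only [F]
    split_ifs <;> decide

end affine

section binary

variable {G : Type u} [Group G] {Ω : Type v} [MulAction G Ω] [Finite Ω] {a c : ℕ}

local notation "W₂" => Fin a → ZMod 2

/-- The points `0, e₁, …, e_a`. -/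
def pt (a : ℕ) (n : ℕ) : Fin a → ZMod 2 := fun i => if (i : ℕ) + 1 = n then 1 else 0

/-- Sum of three points. -/
def tri (a : ℕ) (i j k : ℕ) : Fin a → ZMod 2 := pt a i + pt a j + pt a k

/-- The triples of the hypergraph. -/
def Triple (a : ℕ) (i j k : ℕ) : Prop :=
  (j = i + 1 ∧ k = i + 2 ∧ k ≤ a) ∨ (i = 0 ∧ j = 1 ∧ k = 3)

theorem pt_zero : pt a 0 = 0 := funext fun i => if_neg (by omega)

theorem pt_inj {m n : ℕ} (hm : m ≤ a) (hn : n ≤ a) (h : pt a m = pt a n) : m = n := by
  by_contra hne
  rcases Nat.eq_zero_or_pos m with rfl | hm0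
  · have := congrFun h ⟨n - 1, by omega⟩
    simp only [pt] at this
    rw [if_neg (by omega), if_pos (show n - 1 + 1 = n by omega)] at this
    exact zero_ne_one this
  · have := congrFun h ⟨m - 1, by omega⟩
    simp only [pt] at this
    rw [if_pos (show m - 1 + 1 = m by omega), if_neg (by omega)] at this
    exact one_ne_zero this

/-- A triple sum determines the triple. -/
theorem tri_mem {i j k i' j' k' : ℕ} (hi : i ≤ a) (hj : j ≤ a) (hk : k ≤ a) (hij : i ≠ j)
    (hik : i ≠ k) (hjk : j ≠ k) (hi' : i' ≤ a) (hj' : j' ≤ a) (hk' : k' ≤ a) (hij' : i' ≠ j')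
    (hik' : i' ≠ k') (hjk' : j' ≠ k') (e : tri a i j k = tri a i' j' k') :
    i = i' ∨ i = j' ∨ i = k' := by
  by_contra hno
  simp only [not_or] at hno
  obtain ⟨n1, n2, n3⟩ := hno
  rcases Nat.eq_zero_or_pos i with rfl | hi0
  · -- then `i' + j' + k'` has three non-zero coordinates
    have hval : ∀ n, 0 < n → n ≤ a → (n = i' ∨ n = j' ∨ n = k') → (n = j ∨ n = k) := by
      intro n hn hna hin
      have := congrFun e ⟨n - 1, by omega⟩
      simp only [tri, Pi.add_apply, pt, show n - 1 + 1 = n by omega] at this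
      by_contra hcon
      simp only [not_or] at hcon
      rw [if_neg (show n ≠ 0 by omega), if_neg hcon.1, if_neg hcon.2] at this
      rcases hin with rfl | rfl | rfl
      · rw [if_pos rfl, if_neg hij', if_neg hik'] at this
        simp at this
      · rw [if_pos rfl, if_neg hij'.symm, if_neg hjk'] at this
        simp at this
      · rw [if_pos rfl, if_neg hik'.symm, if_neg hjk'.symm] at this
        simp at this
    rcases hval i' (by omega) hi' (Or.inl rfl) with h1 | h1 <;>
    rcases hval j' (by omega) hj' (Or.inr (Or.inl rfl)) with h2 | h2 <;>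
    rcases hval k' (by omega) hk' (Or.inr (Or.inr rfl)) with h3 | h3 <;> omega
  · have := congrFun e ⟨i - 1, by omega⟩
    simp only [tri, Pi.add_apply, pt, show i - 1 + 1 = i by omega] at this
    simp [hij, hik, n1, n2, n3] at this

theorem Triple.bounds {i j k : ℕ} (ha : 5 ≤ a) (h : Triple a i j k) :
    i < j ∧ j < k ∧ k ≤ a := by
  rcases h with h | h <;> omega

theorem Triple.through {i j k : ℕ} (ha : 5 ≤ a) (h : Triple a i j k)
    (hm : a - 1 = i ∨ a - 1 = j ∨ a - 1 = k) :
    (i = a - 3 ∧ j = a - 2 ∧ k = a - 1) ∨ (i = a - 2 ∧ j = a - 1 ∧ k = a) := by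
  rcases h with h | h <;> omega

/-- The permutation preserving the hypergraph is trivial. -/
theorem hyper_rigid (ha : 5 ≤ a) (π : ℕ → ℕ) (hb : ∀ n ≤ a, π n ≤ a)
    (hinj : ∀ m ≤ a, ∀ n ≤ a, π m = π n → m = n)
    (htri : ∀ i j k, Triple a i j k → ∃ i' j' k', Triple a i' j' k' ∧
      ∀ n ≤ a, (n = i ∨ n = j ∨ n = k) ↔ (π n = i' ∨ π n = j' ∨ π n = k')) :
    ∀ n ≤ a, π n = n := by
  have hsame : ∀ i j k i₂ j₂ k₂ i' j' k', Triple a i j k → Triple a i₂ j₂ k₂ →
      (∀ n ≤ a, (n = i ∨ n = j ∨ n = k) ↔ (π n = i' ∨ π n = j' ∨ π n = k')) →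
      (∀ n ≤ a, (n = i₂ ∨ n = j₂ ∨ n = k₂) ↔ (π n = i' ∨ π n = j' ∨ π n = k')) →
      i = i₂ ∧ j = j₂ ∧ k = k₂ := by
    intro i j k i₂ j₂ k₂ i' j' k' h h₂ e e₂
    obtain ⟨b1, b2, b3⟩ := h.bounds ha
    obtain ⟨c1, c2, c3⟩ := h₂.bounds ha
    have f1 := (e₂ i (by omega)).mpr ((e i (by omega)).mp (Or.inl rfl))
    have f2 := (e₂ j (by omega)).mpr ((e j (by omega)).mp (Or.inr (Or.inl rfl)))
    have f3 := (e₂ k (by omega)).mpr ((e k (by omega)).mp (Or.inr (Or.inr rfl)))
    omega
  have ha0 : π a = a := by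
    by_contra hne
    obtain ⟨x, hx, hxa⟩ : ∃ x ≤ a, π x = a := by
      have hinj' : Function.Injective (fun n : Fin (a + 1) => (⟨π n, by have := hb n (by omega); omega⟩ : Fin (a + 1))) :=
        fun m n h => Fin.ext (hinj m (by omega) n (by omega) (congrArg Fin.val h :))
      obtain ⟨⟨x, hx⟩, hxa⟩ := (Finite.injective_iff_surjective.mp hinj') ⟨a, by omega⟩
      exact ⟨x, by omega, congrArg Fin.val hxa⟩
    have hxlt : x < a := lt_of_le_of_ne hx fun h => hne (h ▸ hxa)
    have haux : ∀ i j k, Triple a i j k → (x = i ∨ x = j ∨ x = k) →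
        ∀ n ≤ a, (n = i ∨ n = j ∨ n = k) ↔ (π n = a - 2 ∨ π n = a - 1 ∨ π n = a) := by
      intro i j k h hxm
      obtain ⟨i', j', k', h', e⟩ := htri i j k h
      have hm := (e x hx).mp hxm
      rw [hxa] at hm
      have : i' = a - 2 ∧ j' = a - 1 ∧ k' = a := by rcases h' with h' | h' <;> omega
      rwa [this.1, this.2.1, this.2.2] at e
    rcases (show x = 0 ∨ x = 1 ∨ 2 ≤ x by omega) with rfl | rfl | h2
    · have := hsame _ _ _ _ _ _ _ _ _ (Or.inl ⟨rfl, rfl, by omega⟩) (Or.inr ⟨rfl, rfl, rfl⟩)
        (haux 0 (0 + 1) (0 + 2) (Or.inl ⟨rfl, rfl, by omega⟩) (by omega))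
        (haux 0 1 3 (Or.inr ⟨rfl, rfl, rfl⟩) (by omega))
      omega
    · have := hsame _ _ _ _ _ _ _ _ _ (Or.inl ⟨rfl, rfl, by omega⟩) (Or.inr ⟨rfl, rfl, rfl⟩)
        (haux 0 (0 + 1) (0 + 2) (Or.inl ⟨rfl, rfl, by omega⟩) (by omega))
        (haux 0 1 3 (Or.inr ⟨rfl, rfl, rfl⟩) (by omega))
      omega
    · have := hsame _ _ _ _ _ _ _ _ _ (Or.inl ⟨rfl, rfl, by omega⟩) (Or.inl ⟨rfl, rfl, by omega⟩)
        (haux (x - 2) (x - 2 + 1) (x - 2 + 2) (Or.inl ⟨rfl, rfl, by omega⟩) (by omega))
        (haux (x - 1) (x - 1 + 1) (x - 1 + 2) (Or.inl ⟨rfl, rfl, by omega⟩) (by omega))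
      omega
  have ha1 : π (a - 1) = a - 1 := by
    have t4 : Triple a (a - 4) (a - 4 + 1) (a - 4 + 2) := Or.inl ⟨rfl, rfl, by omega⟩
    have t3 : Triple a (a - 3) (a - 3 + 1) (a - 3 + 2) := Or.inl ⟨rfl, rfl, by omega⟩
    have t2 : Triple a (a - 2) (a - 2 + 1) (a - 2 + 2) := Or.inl ⟨rfl, rfl, by omega⟩
    have d43 : a - 4 ≠ a - 3 := by omega
    have d42 : a - 4 ≠ a - 2 := by omega
    have d32 : a - 3 ≠ a - 2 := by omega
    have l1 : a - 1 ≤ a := Nat.sub_le _ _
    have l2 : a - 2 ≤ a := Nat.sub_le _ _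
    have n1 : a - 1 ≠ a := by omega
    have n2 : a - 2 ≠ a := by omega
    have n12 : a - 2 ≠ a - 1 := by omega
    have s4 : a - 2 = a - 4 ∨ a - 2 = a - 4 + 1 ∨ a - 2 = a - 4 + 2 := Or.inr (Or.inr (by omega))
    have s3 : a - 2 = a - 3 ∨ a - 2 = a - 3 + 1 ∨ a - 2 = a - 3 + 2 := Or.inr (Or.inl (by omega))
    have s1 : a - 1 = a - 2 ∨ a - 1 = a - 2 + 1 ∨ a - 1 = a - 2 + 2 := Or.inr (Or.inl (by omega))
    have s0 : a = a - 2 ∨ a = a - 2 + 1 ∨ a = a - 2 + 2 := Or.inr (Or.inr (by omega))
    obtain ⟨i', j', k', h', e⟩ := htri _ _ _ t2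
    have hijk : i' = a - 2 ∧ j' = a - 1 ∧ k' = a := by
      have hm := (e a le_rfl).mp s0
      rw [ha0] at hm
      rcases h' with h' | h' <;> omega
    rw [hijk.1, hijk.2.1, hijk.2.2] at e
    rcases (e (a - 1) l1).mp s1 with hh | hh | hh
    · exfalso
      have h2 : π (a - 2) = a - 1 := by
        rcases (e (a - 2) l2).mp (Or.inl rfl) with hh2 | hh2 | hh2
        · exact absurd (hinj _ l2 _ l1 (hh2.trans hh.symm)) n12
        · exact hh2
        · exact absurd (hinj _ l2 _ le_rfl (hh2.trans ha0.symm)) n2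
      obtain ⟨i1, j1, k1, g1, e1⟩ := htri _ _ _ t4
      obtain ⟨i2, j2, k2, g2, e2⟩ := htri _ _ _ t3
      obtain ⟨i3, j3, k3, g3, e3⟩ := htri _ _ _ t2
      have c1 := g1.through ha (h2 ▸ (e1 _ l2).mp s4)
      have c2 := g2.through ha (h2 ▸ (e2 _ l2).mp s3)
      have c3 := g3.through ha (h2 ▸ (e3 _ l2).mp (Or.inl rfl))
      rcases c1 with ⟨rfl, rfl, rfl⟩ | ⟨rfl, rfl, rfl⟩ <;>
        rcases c2 with ⟨rfl, rfl, rfl⟩ | ⟨rfl, rfl, rfl⟩ <;>
        rcases c3 with ⟨rfl, rfl, rfl⟩ | ⟨rfl, rfl, rfl⟩ <;>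
        first
          | exact d43 (hsame _ _ _ _ _ _ _ _ _ t4 t3 e1 e2).1
          | exact d42 (hsame _ _ _ _ _ _ _ _ _ t4 t2 e1 e3).1
          | exact d32 (hsame _ _ _ _ _ _ _ _ _ t3 t2 e2 e3).1
    · exact hh
    · exact absurd (hinj _ l1 _ le_rfl (hh.trans ha0.symm)) n1
  suffices hdown : ∀ d, ∀ i, i + d = a → π i = i by exact fun n hn => hdown (a - n) n (by omega)
  intro d
  induction d using Nat.strong_induction_on with
  | _ d ih =>
    intro i hid
    rcases (show d = 0 ∨ d = 1 ∨ 2 ≤ d by omega) with rfl | rfl | h2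
    · rw [show i = a by omega]; exact ha0
    · rw [show i = a - 1 by omega]; exact ha1
    · obtain ⟨i', j', k', h', e⟩ := htri i (i + 1) (i + 2) (Or.inl ⟨rfl, rfl, by omega⟩)
      have m0 := (e i (by omega)).mp (Or.inl rfl)
      have m1 := (e (i + 1) (by omega)).mp (by omega)
      have m2 := (e (i + 2) (by omega)).mp (by omega)
      have f1 := ih (d - 1) (by omega) (i + 1) (by omega)
      have f2 := ih (d - 2) (by omega) (i + 2) (by omega)
      rw [f1] at m1
      rw [f2] at m2
      have n1 : π i ≠ i + 1 := fun h => absurd (hinj _ (by omega) _ (by omega) (h.trans f1.symm)) (by omega)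
      have n2 : π i ≠ i + 2 := fun h => absurd (hinj _ (by omega) _ (by omega) (h.trans f2.symm)) (by omega)
      by_cases h3 : π i = i + 3 ∧ i + 3 ≤ a
      · have f3 := ih (d - 3) (by omega) (i + 3) (by omega)
        exact absurd (hinj _ (by omega) _ (by omega) (h3.1.trans f3.symm)) (by omega)
      · rcases h' with h' | h' <;> omega

theorem cols_hyper (hc : c = 5 ∨ c = 3) (ha : 5 ≤ a) (e : Ω ≃ (Fin a → ZMod 2)) (haff : Affine G e) :
    Cols c G Ω := by
  classical
  haveI : NeZero c := ⟨by omega⟩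
  let P : (W₂) → Prop := fun w => ∃ n ≤ a, w = pt a n
  let T : (W₂) → Prop := fun w => ∃ i j k, Triple a i j k ∧ w = tri a i j k
  let F : (W₂) → Fin c := fun w =>
    if P w then ⟨0, by omega⟩ else if T w then ⟨1, by omega⟩ else ⟨2, by omega⟩
  have hTP : ∀ w, T w → ¬ P w := by
    rintro w ⟨i, j, k, h, rfl⟩ ⟨n, hn, he⟩
    obtain ⟨b1, b2, b3⟩ := h.bounds ha
    have hj := congrFun he ⟨j - 1, by omega⟩
    have hk := congrFun he ⟨k - 1, by omega⟩
    simp only [tri, Pi.add_apply, pt, show j - 1 + 1 = j by omega, show k - 1 + 1 = k by omega] at hj hk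
    simp [show j ≠ i by omega, show j ≠ k by omega] at hj
    simp [show k ≠ i by omega, show k ≠ j by omega] at hk
    omega
  have hfix : Fixes G (F ∘ e) := by
    intro g hg x
    obtain ⟨L, t, hL, hLt⟩ := haff g
    have hinv : ∀ w, F (L w + t) = F w := fun w => by
      have := hg (e.symm w)
      simp only [Function.comp_apply, hLt, Equiv.apply_symm_apply] at this
      exact this
    have hP : ∀ n ≤ a, P (L (pt a n) + t) := fun n hn => by
      by_contra h
      have := hinv (pt a n)
      simp only [F, if_neg h, if_pos (show P (pt a n) from ⟨n, hn, rfl⟩)] at this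
      split_ifs at this <;> simp [Fin.ext_iff] at this
    have hP' : ∀ n, ∃ m, n ≤ a → m ≤ a ∧ L (pt a n) + t = pt a m := fun n => by
      by_cases hn : n ≤ a
      · obtain ⟨m, hm⟩ := hP n hn; exact ⟨m, fun _ => hm⟩
      · exact ⟨0, fun h => absurd h hn⟩
    choose π hπ using hP'
    have hinj : ∀ m ≤ a, ∀ n ≤ a, π m = π n → m = n := fun m hm n hn h => pt_inj hm hn
      (hL (add_right_cancel ((hπ m hm).2.trans ((congrArg (pt a) h).trans (hπ n hn).2.symm))))
    have hrig := hyper_rigid ha π (fun n hn => (hπ n hn).1) hinj ?_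
    · have hpt : ∀ n ≤ a, L (pt a n) + t = pt a n := fun n hn => by rw [(hπ n hn).2, hrig n hn]
      have ht : t = 0 := by simpa [pt_zero] using hpt 0 (Nat.zero_le _)
      refine e.injective ?_
      rw [hLt, ht, add_zero]
      refine eq_id_of_unit L (fun i => ?_) (e x)
      have hu : (unit i : W₂) = pt a ((i : ℕ) + 1) := by
        funext j
        simp [unit, pt, Pi.single_apply, Fin.ext_iff]
      have := hpt ((i : ℕ) + 1) i.isLt
      rw [ht, add_zero] at this
      rw [hu]; exact this
    · intro i j k h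
      obtain ⟨b1, b2, b3⟩ := h.bounds ha
      have himg : L (tri a i j k) + t = tri a (π i) (π j) (π k) := by
        have ht2 : t + t = 0 := funext fun l => CharTwo.add_self_eq_zero _
        simp only [tri, map_add]
        rw [← (hπ i (by omega)).2, ← (hπ j (by omega)).2, ← (hπ k b3).2]
        calc L (pt a i) + L (pt a j) + L (pt a k) + t
            = L (pt a i) + L (pt a j) + L (pt a k) + (t + (t + t)) := by rw [ht2, add_zero]
          _ = _ := by abel
      have hTi : T (L (tri a i j k) + t) := by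
        have hT : T (tri a i j k) := ⟨i, j, k, h, rfl⟩
        have := hinv (tri a i j k)
        simp only [F, if_neg (hTP _ hT), if_pos hT] at this
        split_ifs at this with a1 a2
        · simp [Fin.ext_iff] at this
        · exact a2
        · simp [Fin.ext_iff] at this
      obtain ⟨i', j', k', h', e'⟩ := hTi
      rw [himg] at e'
      obtain ⟨c1, c2, c3⟩ := h'.bounds ha
      refine ⟨i', j', k', h', fun n hn => ?_⟩
      have bi := (hπ i (by omega)).1
      have bj := (hπ j (by omega)).1
      have bk := (hπ k b3).1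
      have dij : π i ≠ π j := fun h => absurd (hinj i (by omega) j (by omega) h) (by omega)
      have dik : π i ≠ π k := fun h => absurd (hinj i (by omega) k b3 h) (by omega)
      have djk : π j ≠ π k := fun h => absurd (hinj j (by omega) k b3 h) (by omega)
      have q1 := tri_mem bi bj bk dij dik djk (by omega) (by omega) c3 (by omega) (by omega) (by omega) e'
      have q2 := tri_mem bj bi bk dij.symm djk dik (by omega) (by omega) c3 (by omega) (by omega) (by omega)
        ((show tri a (π j) (π i) (π k) = tri a (π i) (π j) (π k) by simp only [tri]; abel).trans e')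
      have q3 := tri_mem bk bi bj dik.symm djk.symm dij (by omega) (by omega) c3 (by omega) (by omega) (by omega)
        ((show tri a (π k) (π i) (π j) = tri a (π i) (π j) (π k) by simp only [tri]; abel).trans e')
      constructor
      · rintro (rfl | rfl | rfl) <;> assumption
      · intro hm
        have : π n = π i ∨ π n = π j ∨ π n = π k := by omega
        rcases this with h | h | h
        · exact Or.inl (hinj _ hn _ (by omega) h)
        · exact Or.inr (Or.inl (hinj _ hn _ (by omega) h))
        · exact Or.inr (Or.inr (hinj _ hn _ b3 h))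
  refine cols_of_not_dvd hc _ hfix ?_
  rw [Nat.card_congr e, Nat.card_pi]
  simp only [Nat.card_zmod, Finset.prod_const, Finset.card_univ, Fintype.card_fin]
  intro hd
  rcases hc with rfl | rfl
  · have := (Nat.prime_dvd_prime_iff_eq Nat.prime_five Nat.prime_two).mp (Nat.prime_five.dvd_of_dvd_pow hd)
    omega
  · have := (Nat.prime_dvd_prime_iff_eq Nat.prime_three Nat.prime_two).mp (Nat.prime_three.dvd_of_dvd_pow hd)
    omega

/-- The colouring of the sixteen points. -/
def chi16 : Fin 16 → Fin 3 := ![0, 0, 0, 1, 0, 1, 2, 2, 1, 1, 2, 1, 2, 2, 2, 1]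

/-- The number of a vector. -/
def enc (w : Fin 4 → ZMod 2) : Fin 16 :=
  ⟨(w 0).val + 2 * (w 1).val + 4 * (w 2).val + 8 * (w 3).val, by
    have h : ∀ x : ZMod 2, x.val < 2 := fun x => ZMod.val_lt x
    have := h (w 0); have := h (w 1); have := h (w 2); have := h (w 3)
    omega⟩

/-- Bitwise sum of numbers below sixteen. -/
def bx (m n : Fin 16) : Fin 16 := ⟨(m.1 ^^^ n.1) % 16, Nat.mod_lt _ (by omega)⟩

/-- The affine map with prescribed images of `0, e₁, …, e₄`. -/
def aff16 (q q1 q2 q3 q4 : Fin 16) (m : Fin 16) : Fin 16 :=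
  let f : ℕ → Fin 16 → Fin 16 := fun i qi => if m.1.testBit i then bx qi q else 0
  bx q (bx (f 0 q1) (bx (f 1 q2) (bx (f 2 q3) (f 3 q4))))

theorem enc_add : ∀ x y : Fin 4 → ZMod 2, enc (x + y) = bx (enc x) (enc y) := by decide +kernel

theorem chi16_check : ((List.finRange 16).all fun q => chi16 q != 0 ||
    (List.finRange 16).all fun q1 => chi16 q1 != 0 ||
    (List.finRange 16).all fun q2 => chi16 q2 != 0 ||
    (List.finRange 16).all fun q3 => chi16 q3 != chi16 4 ||
    (List.finRange 16).all fun q4 => chi16 q4 != chi16 8 ||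
    (q == 0 && q1 == 1 && q2 == 2 && q3 == 4 && q4 == 8) ||
    (List.finRange 16).any fun m => chi16 (aff16 q q1 q2 q3 q4 m) != chi16 m) = true := by
  decide +kernel

theorem chi16_rigid (q : Fin 16) (h : chi16 q = 0) (q1 : Fin 16) (h1 : chi16 q1 = 0) (q2 : Fin 16)
    (h2 : chi16 q2 = 0) (q3 : Fin 16) (h3 : chi16 q3 = chi16 4) (q4 : Fin 16)
    (h4 : chi16 q4 = chi16 8) (hm : ∀ m, chi16 (aff16 q q1 q2 q3 q4 m) = chi16 m) :
    q = 0 ∧ q1 = 1 ∧ q2 = 2 ∧ q3 = 4 ∧ q4 = 8 := by
  have hc := chi16_check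
  simp only [List.all_eq_true, List.any_eq_true, Bool.or_eq_true, Bool.and_eq_true, bne_iff_ne,
    beq_iff_eq, List.mem_finRange, true_and, forall_const] at hc
  rcases hc q with e | hc
  · exact absurd h e
  rcases hc q1 with e | hc
  · exact absurd h1 e
  rcases hc q2 with e | hc
  · exact absurd h2 e
  rcases hc q3 with e | hc
  · exact absurd h3 e
  rcases hc q4 with (e | e) | ⟨m, e⟩
  · exact absurd h4 e
  · exact ⟨e.1.1.1.1, e.1.1.1.2, e.1.1.2, e.1.2, e.2⟩
  · exact absurd (hm m) e

theorem cols_sixteen (hc : c = 5 ∨ c = 3) (e : Ω ≃ (Fin 4 → ZMod 2)) (haff : Affine G e) :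
    Cols c G Ω := by
  have hc3 : 3 ≤ c := by omega
  let F : (Fin 4 → ZMod 2) → Fin c := fun w => (chi16 (enc w)).castLE hc3
  refine cols_of_not_dvd hc (F ∘ e) ?_ ?_
  · intro g hg x
    obtain ⟨L, t, hL, hLt⟩ := haff g
    have hinv : ∀ w, chi16 (enc (L w + t)) = chi16 (enc w) := fun w => by
      have := hg (e.symm w)
      simp only [Function.comp_apply, hLt, Equiv.apply_symm_apply, F, Fin.ext_iff, Fin.val_castLE] at this
      exact Fin.ext this
    have hL0 : ∀ i, enc (L (unit i)) = bx (enc (L (unit i) + t)) (enc t) := by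
      intro i
      have ht2 : t + t = 0 := funext fun l => CharTwo.add_self_eq_zero _
      rw [← enc_add, add_assoc, ht2, add_zero]
    have hmain : ∀ w, enc (L w + t) = aff16 (enc t) (enc (L (unit 0) + t)) (enc (L (unit 1) + t))
        (enc (L (unit 2) + t)) (enc (L (unit 3) + t)) (enc w) := by
      intro w
      have hw : w = (w 0) • unit 0 + ((w 1) • unit 1 + ((w 2) • unit 2 + (w 3) • unit 3)) := by
        funext i
        fin_cases i <;> simp [unit, Pi.single_apply]
      have hsm : ∀ i, L ((w i) • unit i) = (w i) • L (unit i) := fun i => ZMod.map_smul L _ _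
      conv_lhs => rw [hw]
      rw [map_add, map_add, map_add, hsm, hsm, hsm, hsm, enc_add, enc_add, enc_add, enc_add]
      have hbit : ∀ (i : Fin 4) (z : Fin 4 → ZMod 2),
          enc ((w i) • z) = if (enc w).1.testBit i then enc z else 0 := by
        intro i z
        have hdec : ∀ (v : Fin 4 → ZMod 2) (i : Fin 4), (enc v).1.testBit i = decide (v i = 1) := by
          decide +kernel
        rw [hdec]
        rcases (show ∀ x : ZMod 2, x = 0 ∨ x = 1 by decide) (w i) with h | h <;> simp [h, enc]
      rw [hbit, hbit, hbit, hbit, hL0, hL0, hL0, hL0]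
      simp only [aff16]
      generalize enc t = q
      exact (show ∀ A B : Fin 16, bx A B = bx B A by decide) _ _
    have hu : ∀ i : Fin 4, chi16 (enc (L (unit i) + t)) = chi16 (enc (unit i)) := fun i => hinv _
    have h := chi16_rigid (enc t) (by simpa [enc, chi16] using hinv 0)
      (enc (L (unit 0) + t)) (by rw [hu]; decide) (enc (L (unit 1) + t)) (by rw [hu]; decide)
      (enc (L (unit 2) + t)) (by rw [hu]; decide) (enc (L (unit 3) + t)) (by rw [hu]; decide)
      (fun m => by
        obtain ⟨w, rfl⟩ : ∃ w, enc w = m := (show ∀ m, ∃ w, enc w = m by decide +kernel) m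
        rw [← hmain, hinv])
    obtain ⟨hq, h1, h2, h3, h4⟩ := h
    have henc : Function.Injective enc := (show ∀ x y, enc x = enc y → x = y by decide +kernel)
    refine e.injective (henc ?_)
    rw [hLt, hmain, hq, h1, h2, h3, h4]
    exact (show ∀ m, aff16 0 1 2 4 8 m = m by decide +kernel) _
  · rw [Nat.card_congr e, Nat.card_pi]
    simp only [Nat.card_zmod, Finset.prod_const, Finset.card_univ, Fintype.card_fin]
    rcases hc with rfl | rfl <;> norm_num

/-- Few colours: the origin and the coordinate vectors get their own colours. -/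
theorem cols_few (hc : c = 5 ∨ c = 3) (hac : a + 2 ≤ c) (e : Ω ≃ (Fin a → ZMod 2))
    (haff : Affine G e) : Cols c G Ω := by
  classical
  haveI : NeZero c := ⟨by omega⟩
  let F : (W₂) → Fin c := fun w =>
    if h : ∃ i, w = unit i then ⟨(Classical.choose h : Fin a) + 1, by
      have := (Classical.choose h).isLt; omega⟩
    else if w = 0 then ⟨0, by omega⟩ else ⟨a + 1, by omega⟩
  have hFu : ∀ i, F (unit i) = ⟨(i : ℕ) + 1, by omega⟩ := fun i => by
    have h : ∃ j, (unit i : W₂) = unit j := ⟨i, rfl⟩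
    simp only [F, dif_pos h, Fin.ext_iff]
    rw [← unit_inj (Classical.choose_spec h)]
  have hF0 : F 0 = ⟨0, by omega⟩ := by
    simp only [F, dif_neg (show ¬ ∃ i, (0 : W₂) = unit i from fun ⟨i, h⟩ => unit_ne_zero i h.symm), if_pos]
  have hfix : Fixes G (F ∘ e) := by
    refine fixes_of_linear haff F (fun w hw => ?_) fun L hL hinv w => eq_id_of_unit L (fun i => ?_) w
    · rw [hF0] at hw
      simp only [F] at hw
      split_ifs at hw with h1 h2
      · simp [Fin.ext_iff] at hw
      · exact h2
      · simp [Fin.ext_iff] at hw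
    · have h := hinv (unit i)
      rw [hFu] at h
      simp only [F] at h
      split_ifs at h with h1 h2
      · have hc' := Classical.choose_spec h1
        rw [hc']
        congr 1
        exact Fin.ext (by simpa [Fin.ext_iff] using h)
      · simp [Fin.ext_iff] at h
      · simp [Fin.ext_iff] at h
        have := i.isLt
        omega
  refine cols_of_not_dvd hc _ hfix ?_
  rw [Nat.card_congr e, Nat.card_pi]
  simp only [Nat.card_zmod, Finset.prod_const, Finset.card_univ, Fintype.card_fin]
  intro hd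
  rcases hc with rfl | rfl
  · have := (Nat.prime_dvd_prime_iff_eq Nat.prime_five Nat.prime_two).mp (Nat.prime_five.dvd_of_dvd_pow hd)
    omega
  · have := (Nat.prime_dvd_prime_iff_eq Nat.prime_three Nat.prime_two).mp (Nat.prime_three.dvd_of_dvd_pow hd)
    omega

/-- Eight points, when two points have trivial common stabilizer. -/
theorem cols_eight (e : Ω ≃ (Fin 3 → ZMod 2))
    (h2 : ∀ (g : G) (x y : Ω), x ≠ y → g • x = x → g • y = y → ∀ z : Ω, g • z = z) :
    Cols 3 G Ω := by
  classical
  set x := e.symm 0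
  set y := e.symm (unit 0)
  have hxy : x ≠ y := fun h => unit_ne_zero (s := 2) (0 : Fin 3) (e.symm.injective h).symm
  let χ : Ω → Fin 3 := fun z => if z = x then 0 else if z = y then 1 else 2
  refine cols_of_not_dvd (Or.inr rfl) χ (fun g hg => h2 g x y hxy ?_ ?_) ?_
  · have := hg x
    simp only [χ, if_true] at this
    split_ifs at this with a1
    · exact a1
    all_goals simp at this
  · have := hg y
    simp only [χ, if_neg hxy.symm, if_true] at this
    split_ifs at this with a1 a2
    · simp at this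
    · exact a2
    · simp at this
  · rw [Nat.card_congr e, Nat.card_pi]
    simp

end binary


/-- **Colourings of an affine space.** -/
theorem colourings {G : Type u} [Group G] {Ω : Type v} [MulAction G Ω] [Finite Ω] {s a c : ℕ}
    [Fact s.Prime] (hc : c = 5 ∨ c = 3) (hs3 : c = 3 → s ≠ 3) (ha : 0 < a)
    (e : Ω ≃ (Fin a → ZMod s)) (haff : Affine G e) (h4 : c = 3 → ¬ (s = 2 ∧ a = 2))
    (h8 : c = 3 → s = 2 → a = 3 →
      ∀ (g : G) (x y : Ω), x ≠ y → g • x = x → g • y = y → ∀ z : Ω, g • z = z) :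
    Cols c G Ω := by
  have hsp := (Fact.out : s.Prime)
  rcases (show s = 2 ∨ s = 3 ∨ 5 ≤ s by
    have h1 := hsp.two_le
    rcases (show s = 4 ∨ s ≠ 4 by omega) with rfl | h
    · norm_num at hsp
    · omega) with rfl | rfl | h5
  · rcases (show a = 1 ∨ a = 2 ∨ a = 3 ∨ a = 4 ∨ 5 ≤ a by omega) with rfl | rfl | rfl | rfl | ha5
    · exact cols_few hc (by omega) e haff
    · rcases hc with rfl | rfl
      · exact cols_few (Or.inl rfl) (by omega) e haff
      · exact absurd ⟨rfl, rfl⟩ (h4 rfl)
    · rcases hc with rfl | rfl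
      · exact cols_few (Or.inl rfl) (by omega) e haff
      · exact cols_eight e (h8 rfl rfl rfl)
    · exact cols_sixteen hc e haff
    · exact cols_hyper hc ha5 e haff
  · rcases hc with rfl | rfl
    · exact cols_three rfl ha haff
    · exact absurd rfl (hs3 rfl)
  · exact cols_mult hc h5 ha haff

end Cfsg.Agent.GStructB.CoprimeBase
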