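import Cfsg.Agent.GStructB.CoprimeBase.Frame

/-!
# Coordinates for computations with generators of `M`

Vectors are lists of natural numbers below `q`, linear maps are lists of sparse rows, and the
elements of `M` are numbered by the product of generators and the scalar they stand for.
-/

set_option autoImplicit false
set_option linter.style.haveILetI false
set_option linter.unusedSectionVars false

open MulAction

namespace Cfsg.Agent.GStructB.CoprimeBase

universe u v w

/-- Sparse rows. -/
abbrev Rows := List (List (ℕ × ℕ))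

/-- Applying sparse rows. -/
def rowApp (q : ℕ) (R : Rows) (l : List ℕ) : List ℕ :=
  R.map fun r => (r.foldl (fun a p => a + p.1 * l.getD p.2 0) 0) % q

/-- Applying the generators in the bits of `z`, then the scalar. -/
def wApp (q : ℕ) (gs : List Rows) (z : ℕ) (l : List ℕ) : List ℕ :=
  ((List.range gs.length).foldr (fun b r => if z.testBit b then rowApp q (gs.getD b []) r else r) l).map
    fun x => (z / 2 ^ gs.length + 1) * x % q

/-- The number of words. -/
def nWords (q : ℕ) (gs : List Rows) : ℕ := (q - 1) * 2 ^ gs.length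

/-- Linear combinations. -/
def combL (q n : ℕ) : List ℕ → List (List ℕ) → List ℕ
  | c :: cs, x :: xs =>
    if c = 0 then combL q n cs xs
    else (List.range n).map fun i => (c * x.getD i 0 + (combL q n cs xs).getD i 0) % q
  | _, _ => List.replicate n 0

/-- The unit vectors. -/
def unitL (n i : ℕ) : List ℕ := (List.range n).map fun j => if j = i then 1 else 0

/-- A vector of `n` digits below `q`. -/
def IsVec (q n : ℕ) (l : List ℕ) : Prop := l.length = n ∧ ∀ x ∈ l, x < q

/-- Rows of a square map. -/
def IsRows (n : ℕ) (R : Rows) : Prop := R.length = n ∧ ∀ r ∈ R, ∀ p ∈ r, p.2 < n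

instance decidableIsVec (q n : ℕ) (l : List ℕ) : Decidable (IsVec q n l) :=
  inferInstanceAs (Decidable (_ ∧ _))

instance decidableIsRows (n : ℕ) (R : Rows) : Decidable (IsRows n R) :=
  inferInstanceAs (Decidable (_ ∧ _))

theorem getD_map_range (n i : ℕ) (f : ℕ → ℕ) (hi : i < n) : ((List.range n).map f).getD i 0 = f i := by
  simp [List.getD_eq_getElem?_getD, hi]

theorem isVec_unitL {q : ℕ} (hq : 1 < q) (n i : ℕ) : IsVec q n (unitL n i) := by
  refine ⟨by simp [unitL], fun x hx => ?_⟩
  simp only [unitL, List.mem_map] at hx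
  obtain ⟨j, -, rfl⟩ := hx
  split_ifs <;> omega

theorem isVec_rowApp {q n : ℕ} (hq : 0 < q) {R : Rows} (hR : IsRows n R) (l : List ℕ) :
    IsVec q n (rowApp q R l) := by
  refine ⟨by simp [rowApp, hR.1], fun x hx => ?_⟩
  simp only [rowApp, List.mem_map] at hx
  obtain ⟨r, -, rfl⟩ := hx
  exact Nat.mod_lt _ hq

theorem isVec_combL {q n : ℕ} (hq : 0 < q) : ∀ (cs : List ℕ) (xs : List (List ℕ)), IsVec q n (combL q n cs xs)
  | [], _ => ⟨by simp [combL], fun x hx => by simp [combL] at hx; omega⟩
  | _ :: _, [] => ⟨by simp [combL], fun x hx => by simp [combL] at hx; omega⟩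
  | c :: cs, x :: xs => by
    rw [combL]
    split_ifs
    · exact isVec_combL hq cs xs
    · refine ⟨by simp, fun y hy => ?_⟩
      simp only [List.mem_map] at hy
      obtain ⟨i, -, rfl⟩ := hy
      exact Nat.mod_lt _ hq

theorem isVec_foldr {q n : ℕ} (hq : 0 < q) {gs : List Rows} (hgs : ∀ R ∈ gs, IsRows n R) (z : ℕ) :
    ∀ (bs : List ℕ), (∀ b ∈ bs, b < gs.length) → ∀ l, IsVec q n l →
      IsVec q n (bs.foldr (fun b r => if z.testBit b then rowApp q (gs.getD b []) r else r) l) := by
  intro bs
  induction bs with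
  | nil => intro _ l hl; exact hl
  | cons b bs ih =>
    intro hbs l hl
    have h := ih (fun c hc => hbs c (List.mem_cons_of_mem b hc)) l hl
    rw [List.foldr_cons]
    split_ifs
    · refine isVec_rowApp hq (hgs _ ?_) _
      have hb := hbs b List.mem_cons_self
      rw [List.getD_eq_getElem?_getD, List.getElem?_eq_getElem hb]
      exact List.getElem_mem hb
    · exact h

theorem isVec_wApp {q n : ℕ} (hq : 0 < q) {gs : List Rows} (hgs : ∀ R ∈ gs, IsRows n R) (z : ℕ)
    {l : List ℕ} (hl : IsVec q n l) : IsVec q n (wApp q gs z l) := by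
  have h := isVec_foldr hq hgs z (List.range gs.length) (fun b hb => List.mem_range.mp hb) l hl
  refine ⟨by rw [wApp, List.length_map]; exact h.1, fun x hx => ?_⟩
  simp only [wApp, List.mem_map] at hx
  obtain ⟨y, -, rfl⟩ := hx
  exact Nat.mod_lt _ hq

section ev

variable (K : Type u) [Field K] {V : Type w} [AddCommGroup V] [Module K V]

/-- The vector of a list. -/
def ev (n : ℕ) (e : ℕ → V) (l : List ℕ) : V := ∑ i ∈ Finset.range n, ((l.getD i 0 : ℕ) : K) • e i

variable {K}

theorem cast_mod {q : ℕ} (hq : (q : K) = 0) (a : ℕ) : ((a % q : ℕ) : K) = a := by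
  conv_rhs => rw [← Nat.mod_add_div a q]
  simp [hq]

theorem foldl_cast (r : List (ℕ × ℕ)) (l : List ℕ) (a : ℕ) :
    ((r.foldl (fun a p => a + p.1 * l.getD p.2 0) a : ℕ) : K) =
      (a : K) + (r.map fun p => (p.1 : K) * (l.getD p.2 0 : K)).sum := by
  induction r generalizing a with
  | nil => simp
  | cons p r ih => rw [List.foldl_cons, ih, List.map_cons, List.sum_cons]; push_cast; ring

theorem getD_rowApp {q : ℕ} (hq : (q : K) = 0) (R : Rows) (l : List ℕ) (i : ℕ) :
    (((rowApp q R l).getD i 0 : ℕ) : K) = ((R.getD i []).map fun p => (p.1 : K) * (l.getD p.2 0 : K)).sum := by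
  by_cases hi : i < R.length
  · have h1 : (rowApp q R l).getD i 0 = ((R.getD i []).foldl (fun a p => a + p.1 * l.getD p.2 0) 0) % q := by
      simp [rowApp, List.getD_eq_getElem?_getD, hi]
    rw [h1, cast_mod hq, foldl_cast, Nat.cast_zero, zero_add]
  · have hi' : R.length ≤ i := not_lt.mp hi
    simp [rowApp, List.getD_eq_getElem?_getD, hi']

theorem ev_unitL (n : ℕ) (e : ℕ → V) {i : ℕ} (hi : i < n) : ev K n e (unitL n i) = e i := by
  rw [ev, Finset.sum_eq_single i]
  · rw [unitL, getD_map_range n i _ hi]; simp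
  · intro j hj hji
    rw [unitL, getD_map_range n j _ (Finset.mem_range.mp hj), if_neg hji]
    simp
  · exact fun h => absurd (Finset.mem_range.mpr hi) h

/-- A linear map given on the basis. -/
theorem map_ev {q n : ℕ} (hq : (q : K) = 0) (e : ℕ → V) {R : Rows} (hR : IsRows n R) {F : V → V}
    (hadd : ∀ x y, F (x + y) = F x + F y) (hsmul : ∀ (k : K) (x : V), F (k • x) = k • F x)
    (hF : ∀ i < n, F (e i) = ev K n e (rowApp q R (unitL n i))) (l : List ℕ) :
    F (ev K n e l) = ev K n e (rowApp q R l) := by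
  have hF0 : F 0 = 0 := by
    have h := hadd 0 0
    rw [add_zero] at h
    exact left_eq_add.mp h
  let φ : V →+ V := { toFun := F, map_zero' := hF0, map_add' := hadd }
  have hsum : F (ev K n e l) = ∑ j ∈ Finset.range n, F (((l.getD j 0 : ℕ) : K) • e j) := map_sum φ _ _
  rw [hsum, Finset.sum_congr rfl fun j hj => by rw [hsmul, hF j (Finset.mem_range.mp hj), ev, Finset.smul_sum],
    Finset.sum_comm]
  refine Finset.sum_congr rfl fun i hi => ?_
  rw [Finset.sum_congr rfl fun j _ => by rw [← mul_smul, getD_rowApp hq], ← Finset.sum_smul, getD_rowApp hq]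
  congr 1
  have hr : ∀ p ∈ R.getD i [], p.2 < n := by
    intro p hp
    have hil : i < R.length := by rw [hR.1]; exact Finset.mem_range.mp hi
    rw [List.getD_eq_getElem?_getD, List.getElem?_eq_getElem hil] at hp
    exact hR.2 _ (List.getElem_mem hil) p hp
  revert hr
  generalize R.getD i [] = r
  intro hr
  induction r with
  | nil => simp
  | cons p r ih =>
    simp only [List.map_cons, List.sum_cons, mul_add, Finset.sum_add_distrib]
    rw [ih fun p' hp' => hr p' (List.mem_cons_of_mem p hp')]
    congr 1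
    rw [Finset.sum_eq_single p.2]
    · rw [unitL, getD_map_range n p.2 _ (hr p List.mem_cons_self)]; simp [mul_comm]
    · intro j hj hne
      rw [unitL, getD_map_range n p.2 _ (hr p List.mem_cons_self), if_neg hne.symm]
      simp
    · exact fun h => absurd (Finset.mem_range.mpr (hr p List.mem_cons_self)) h

theorem ev_scale {q n : ℕ} (hq : (q : K) = 0) (e : ℕ → V) (c : ℕ) (l : List ℕ) :
    ev K n e (l.map fun x => c * x % q) = (c : K) • ev K n e l := by
  rw [ev, ev, Finset.smul_sum]
  refine Finset.sum_congr rfl fun i _ => ?_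
  rw [← mul_smul]
  congr 1
  by_cases hi : i < l.length
  · simp [List.getD_eq_getElem?_getD, hi, cast_mod hq]
  · have hi' : l.length ≤ i := not_lt.mp hi
    simp [List.getD_eq_getElem?_getD, hi']

theorem ev_combL {q n : ℕ} (hq : (q : K) = 0) (e : ℕ → V) :
    ∀ (cs : List ℕ) (xs : List (List ℕ)),
      ev K n e (combL q n cs xs) = ((cs.zip xs).map fun p => (p.1 : K) • ev K n e p.2).sum
  | [], _ => by
    rw [combL, List.zip_nil_left, List.map_nil, List.sum_nil, ev]
    · refine Finset.sum_eq_zero fun i _ => ?_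
      simp [List.getD_eq_getElem?_getD, List.getElem?_replicate, apply_ite (fun o => Option.getD o 0)]
    all_goals simp
  | _ :: _, [] => by
    rw [combL, List.zip_nil_right, List.map_nil, List.sum_nil, ev]
    · refine Finset.sum_eq_zero fun i _ => ?_
      simp [List.getD_eq_getElem?_getD, List.getElem?_replicate, apply_ite (fun o => Option.getD o 0)]
    all_goals simp
  | c :: cs, x :: xs => by
    rw [combL, List.zip_cons_cons, List.map_cons, List.sum_cons, ← ev_combL hq e cs xs]
    split_ifs with h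
    · simp [h]
    · rw [ev, ev, ev, Finset.smul_sum, ← Finset.sum_add_distrib]
      refine Finset.sum_congr rfl fun i hi => ?_
      rw [getD_map_range n i _ (Finset.mem_range.mp hi), cast_mod hq, smul_smul, ← add_smul]
      push_cast
      rfl

end ev

/-- Realization of rows by generators of `M` on a basis. -/
structure Model (K : Type u) [Field K] {G : Type v} [Group G] (V : Type w) [AddCommGroup V] [Module K V]
    [DistribMulAction G V] (M : Subgroup G) (q n : ℕ) (gs : List Rows) (γ : ℕ → G) (e : ℕ → V) : Prop where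
  q_two : 1 < q
  q_zero : (q : K) = 0
  rows : ∀ R ∈ gs, IsRows n R
  gen_mem : ∀ b < gs.length, γ b ∈ M
  act : ∀ b < gs.length, ∀ i < n, γ b • e i = ev K n e (rowApp q (gs.getD b []) (unitL n i))
  inj : ∀ l l', IsVec q n l → IsVec q n l' → ev K n e l = ev K n e l' → l = l'
  span : ∀ x : V, ∃ l, IsVec q n l ∧ ev K n e l = x
  cover : ∀ m ∈ M, ∃ z < nWords q gs, ∀ l, IsVec q n l → m • ev K n e l = ev K n e (wApp q gs z l)
  pairs : ∀ b < gs.length, ∀ c < gs.length, ∀ x : V,
    γ b • γ c • x = if b ≠ c ∧ b / 2 = c / 2 then -(γ c • γ b • x) else γ c • γ b • x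

namespace Model

variable {K : Type u} [Field K] {G : Type v} [Group G] {V : Type w} [AddCommGroup V] [Module K V]
  [DistribMulAction G V] {M A : Subgroup G} {q n : ℕ} {gs : List Rows} {γ : ℕ → G} {e : ℕ → V}
  (hM : Model K V M q n gs γ e)
include hM

theorem gen_ev (hF : Frame K V M A) {b : ℕ} (hb : b < gs.length) (l : List ℕ) :
    γ b • ev K n e l = ev K n e (rowApp q (gs.getD b []) l) := by
  have hR : IsRows n (gs.getD b []) := hM.rows _ (by
    rw [List.getD_eq_getElem?_getD, List.getElem?_eq_getElem hb]; exact List.getElem_mem hb)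
  exact map_ev hM.q_zero e hR (smul_add (γ b)) (hF.lin _ (hM.gen_mem b hb)) (hM.act b hb) l

/-- Every word is an element of `M`. -/
theorem word_mem (hF : Frame K V M A) {z : ℕ} (hc : ((z / 2 ^ gs.length + 1 : ℕ) : K) ≠ 0) :
    ∃ m ∈ M, ∀ l, IsVec q n l → m • ev K n e l = ev K n e (wApp q gs z l) := by
  have key : ∀ bs : List ℕ, (∀ b ∈ bs, b < gs.length) → ∃ m ∈ M, ∀ l, m • ev K n e l =
      ev K n e (bs.foldr (fun b r => if z.testBit b then rowApp q (gs.getD b []) r else r) l) := by
    intro bs
    induction bs with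
    | nil => exact fun _ => ⟨1, M.one_mem, fun l => one_smul G _⟩
    | cons b bs ih =>
      intro hbs
      obtain ⟨m, hm, hml⟩ := ih fun c hc => hbs c (List.mem_cons_of_mem b hc)
      by_cases hz : z.testBit b
      · refine ⟨γ b * m, M.mul_mem (hM.gen_mem b (hbs b List.mem_cons_self)) hm, fun l => ?_⟩
        rw [mul_smul, hml, hM.gen_ev hF (hbs b List.mem_cons_self), List.foldr_cons, if_pos hz]
      · refine ⟨m, hm, fun l => ?_⟩
        rw [hml, List.foldr_cons, if_neg hz]
  obtain ⟨m, hm, hml⟩ := key (List.range gs.length) fun b hb => List.mem_range.mp hb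
  obtain ⟨k, hk, hkx⟩ := hF.scal _ hc
  refine ⟨k * m, M.mul_mem hk hm, fun l _ => ?_⟩
  rw [mul_smul, hml, hkx, wApp, ev_scale hM.q_zero]

theorem scalar_ne_zero [CharP K q] {z : ℕ} (hz : z < nWords q gs) :
    ((z / 2 ^ gs.length + 1 : ℕ) : K) ≠ 0 := by
  rw [Ne, CharP.cast_eq_zero_iff K q]
  intro hd
  have h1 : z / 2 ^ gs.length < q - 1 := (Nat.div_lt_iff_lt_mul (Nat.two_pow_pos _)).mpr hz
  have h2 := Nat.le_of_dvd (Nat.succ_pos _) hd
  clear hz hd
  revert h1 h2
  generalize z / 2 ^ gs.length = a
  intro h1 h2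
  omega

end Model

end Cfsg.Agent.GStructB.CoprimeBase
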