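import Cfsg.Agent.GStructB.CoprimeBase.Coord

/-!
# Maps normalising `M`, read in coordinates

An additive map fixing a vector `v` and normalising `M` sends the translates of `v` by chosen words to
translates of `v` by words with the same squares and commutators, so it is determined by finitely many
candidates that can be searched.
-/

set_option autoImplicit false
set_option linter.style.haveILetI false
set_option linter.unusedSectionVars false

open MulAction

namespace Cfsg.Agent.GStructB.CoprimeBase

universe u v w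

/-- Scaling a list. -/
def scaleL (q c : ℕ) (l : List ℕ) : List ℕ := l.map fun x => c * x % q

/-- The translates of a vector by products of the words `zs`. -/
def imgs (q : ℕ) (gs : List Rows) : List ℕ → List ℕ → List (List ℕ)
  | [], l => [l]
  | z :: zs, l => (imgs q gs zs l).flatMap fun y => [y, wApp q gs z y]

/-- The words with square `l'` on `l`, with the translates. -/
def sqCands (q : ℕ) (gs : List Rows) (l l' : List ℕ) : List (ℕ × List ℕ) :=
  ((List.range (nWords q gs)).filter fun z => wApp q gs z (wApp q gs z l) == l').map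
    fun z => (z, wApp q gs z l)

theorem isVec_scaleL {q n : ℕ} (hq : 0 < q) (c : ℕ) {l : List ℕ} (hl : IsVec q n l) :
    IsVec q n (scaleL q c l) := by
  refine ⟨by rw [scaleL, List.length_map]; exact hl.1, fun x hx => ?_⟩
  obtain ⟨y, -, rfl⟩ := List.mem_map.mp hx
  exact Nat.mod_lt _ hq

theorem isVec_imgs {q n : ℕ} (hq : 0 < q) {gs : List Rows} (hgs : ∀ R ∈ gs, IsRows n R) {l : List ℕ}
    (hl : IsVec q n l) : ∀ zs : List ℕ, ∀ x ∈ imgs q gs zs l, IsVec q n x
  | [], x, hx => by rw [imgs, List.mem_singleton] at hx; rw [hx]; exact hl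
  | z :: zs, x, hx => by
    rw [imgs, List.mem_flatMap] at hx
    obtain ⟨y, hy, hx⟩ := hx
    have hy' := isVec_imgs hq hgs hl zs y hy
    rcases List.mem_cons.mp hx with rfl | hx
    · exact hy'
    · rw [List.mem_singleton.mp hx]
      exact isVec_wApp hq hgs z hy'

theorem mem_sqCands {q : ℕ} {gs : List Rows} {l l' : List ℕ} {z : ℕ} (hz : z < nWords q gs)
    (h : wApp q gs z (wApp q gs z l) = l') : (z, wApp q gs z l) ∈ sqCands q gs l l' :=
  List.mem_map.mpr ⟨z, List.mem_filter.mpr ⟨List.mem_range.mpr hz, by simpa using h⟩, rfl⟩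

variable {K : Type u} [Field K] {G : Type v} [Group G] {V : Type w} [AddCommGroup V] [Module K V]
  [DistribMulAction G V]

/-- An additive map normalising `M`. -/
def Normalises (M : Subgroup G) (g : V →+ V) : Prop :=
  ∀ m ∈ M, ∃ m' ∈ M, ∀ x : V, g (m • x) = m' • g x

theorem Normalises.comp {M : Subgroup G} {g h : V →+ V} (hg : Normalises M g) (hh : Normalises M h) :
    Normalises M (g.comp h) := by
  intro m hm
  obtain ⟨m', hm', e⟩ := hh m hm
  obtain ⟨m'', hm'', e'⟩ := hg m' hm'
  exact ⟨m'', hm'', fun x => by simp [e, e']⟩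

theorem Normalises.ofMem {M A : Subgroup G} (hF : Frame K V M A) {a : G} (ha : a ∈ A) :
    Normalises M (DistribMulAction.toAddMonoidHom V a) := fun m hm =>
  ⟨a * m * a⁻¹, hF.norm a ha m hm, fun x => by simp [mul_smul]⟩

theorem map_scaleL {q n : ℕ} (hq : (q : K) = 0) {e : ℕ → V} (g : V →+ V) {l l' : List ℕ}
    (h : g (ev K n e l) = ev K n e l') (c : ℕ) :
    g (ev K n e (scaleL q c l)) = ev K n e (scaleL q c l') := by
  rw [scaleL, scaleL, ev_scale hq, ev_scale hq, map_natCast_smul g K K, h]

/-- Corresponding lists of vectors. -/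
def Maps (K : Type u) [Field K] {V : Type w} [AddCommGroup V] [Module K V] (n : ℕ) (e : ℕ → V)
    (g : V →+ V) (x y : List ℕ) : Prop :=
  g (ev K n e x) = ev K n e y

theorem map_combL {q n : ℕ} (hq : (q : K) = 0) {e : ℕ → V} (g : V →+ V) :
    ∀ {xs ys : List (List ℕ)}, List.Forall₂ (Maps K n e g) xs ys → ∀ cs : List ℕ,
      g (ev K n e (combL q n cs xs)) = ev K n e (combL q n cs ys) := by
  intro xs ys h
  induction h with
  | nil => intro cs; rw [ev_combL hq]; simp
  | @cons x y xs ys hxy _ ih =>
    intro cs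
    cases cs with
    | nil => rw [ev_combL hq, ev_combL hq]; simp
    | cons c cs =>
      have h := ih cs
      rw [ev_combL hq, ev_combL hq] at h
      rw [ev_combL hq, ev_combL hq, List.zip_cons_cons, List.zip_cons_cons, List.map_cons, List.map_cons,
        List.sum_cons, List.sum_cons, map_add, h, map_natCast_smul g K K]
      exact congrArg (fun z => (c : K) • z + _) hxy

namespace Model

variable {M A : Subgroup G} {q n : ℕ} {gs : List Rows} {γ : ℕ → G} {e : ℕ → V}
  (hM : Model K V M q n gs γ e) [CharP K q]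
include hM

theorem q_pos : 0 < q := Nat.lt_of_lt_of_le Nat.zero_lt_one hM.q_two.le

/-- The image of a word. -/
theorem transfer (hF : Frame K V M A) {g : V →+ V} (hg : Normalises M g) {t : ℕ} (ht : t < nWords q gs) :
    ∃ z < nWords q gs, ∀ l l', IsVec q n l → IsVec q n l' → Maps K n e g l l' →
      Maps K n e g (wApp q gs t l) (wApp q gs z l') := by
  obtain ⟨m, hm, hml⟩ := hM.word_mem hF (hM.scalar_ne_zero ht)
  obtain ⟨m', hm', hmg⟩ := hg m hm
  obtain ⟨z, hz, hzl⟩ := hM.cover m' hm'
  exact ⟨z, hz, fun l l' hl hl' h => by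
    show g _ = _
    rw [← hml l hl, hmg, h, hzl l' hl']⟩

/-- Words for the images, with the same squares. -/
theorem exists_words (hF : Frame K V M A) {g : V →+ V} (hg : Normalises M g) {l : List ℕ}
    (hl : IsVec q n l) (hgl : Maps K n e g l l) (ts : List ℕ) (hts : ∀ t ∈ ts, t < nWords q gs)
    (hsq : ∀ t ∈ ts, ∃ c < q, wApp q gs t (wApp q gs t l) = scaleL q c l) :
    ∃ zs, List.Forall₂ (fun t z => z < nWords q gs ∧
      wApp q gs z (wApp q gs z l) = wApp q gs t (wApp q gs t l) ∧
      ∀ x y, IsVec q n x → IsVec q n y → Maps K n e g x y →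
        Maps K n e g (wApp q gs t x) (wApp q gs z y)) ts zs := by
  induction ts with
  | nil => exact ⟨[], List.Forall₂.nil⟩
  | cons t ts ih =>
    obtain ⟨zs, hzs⟩ := ih (fun t' h => hts t' (List.mem_cons_of_mem t h))
      fun t' h => hsq t' (List.mem_cons_of_mem t h)
    obtain ⟨z, hz, hzt⟩ := hM.transfer hF hg (hts t List.mem_cons_self)
    refine ⟨z :: zs, List.Forall₂.cons ⟨hz, ?_, hzt⟩ hzs⟩
    obtain ⟨c, -, hc⟩ := hsq t List.mem_cons_self
    have hq := hM.q_pos
    have h1 := hzt _ _ (isVec_wApp hq hM.rows t hl) (isVec_wApp hq hM.rows z hl) (hzt l l hl hl hgl)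
    have h2 := map_scaleL hM.q_zero g hgl c
    rw [← hc] at h2
    refine hM.inj _ _ (isVec_wApp hq hM.rows z (isVec_wApp hq hM.rows z hl))
      (isVec_wApp hq hM.rows t (isVec_wApp hq hM.rows t hl)) ?_
    exact Eq.trans h1.symm h2

/-- Commutators of the images. -/
theorem compat {g : V →+ V} {l : List ℕ} (hl : IsVec q n l) (hgl : Maps K n e g l l) {t t' z z' c : ℕ}
    (h : ∀ x y, IsVec q n x → IsVec q n y → Maps K n e g x y →
      Maps K n e g (wApp q gs t x) (wApp q gs z y))
    (h' : ∀ x y, IsVec q n x → IsVec q n y → Maps K n e g x y →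
      Maps K n e g (wApp q gs t' x) (wApp q gs z' y))
    (hc : wApp q gs t (wApp q gs t' l) = scaleL q c (wApp q gs t' (wApp q gs t l))) :
    wApp q gs z (wApp q gs z' l) = scaleL q c (wApp q gs z' (wApp q gs z l)) := by
  have hq := hM.q_pos
  have h1 := h _ _ (isVec_wApp hq hM.rows t' hl) (isVec_wApp hq hM.rows z' hl) (h' l l hl hl hgl)
  have h2 := map_scaleL hM.q_zero g
    (h' _ _ (isVec_wApp hq hM.rows t hl) (isVec_wApp hq hM.rows z hl) (h l l hl hl hgl)) c
  rw [← hc] at h2
  exact hM.inj _ _ (isVec_wApp hq hM.rows z (isVec_wApp hq hM.rows z' hl))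
    (isVec_scaleL hq c (isVec_wApp hq hM.rows z' (isVec_wApp hq hM.rows z hl))) (Eq.trans h1.symm h2)

/-- The translates by products correspond. -/
theorem map_imgs {g : V →+ V} {l : List ℕ} (hl : IsVec q n l) (hgl : Maps K n e g l l) {ts zs : List ℕ}
    (h : List.Forall₂ (fun t z => ∀ x y, IsVec q n x → IsVec q n y → Maps K n e g x y →
      Maps K n e g (wApp q gs t x) (wApp q gs z y)) ts zs) :
    List.Forall₂ (Maps K n e g) (imgs q gs ts l) (imgs q gs zs l) := by
  induction h with
  | nil => exact List.Forall₂.cons hgl List.Forall₂.nil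
  | @cons t z ts zs htz _ ih =>
    have hq := hM.q_pos
    rw [imgs, imgs]
    have key : ∀ xs ys : List (List ℕ), List.Forall₂ (Maps K n e g) xs ys →
        (∀ x ∈ xs, IsVec q n x) → (∀ y ∈ ys, IsVec q n y) →
        List.Forall₂ (Maps K n e g) (xs.flatMap fun y => [y, wApp q gs t y])
          (ys.flatMap fun y => [y, wApp q gs z y]) := by
      intro xs ys hxy
      induction hxy with
      | nil => intros; simp
      | @cons x y xs ys hxy _ ih' =>
        intro hx hy
        simp only [List.flatMap_cons, List.cons_append, List.nil_append]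
        exact List.Forall₂.cons hxy (List.Forall₂.cons
          (htz x y (hx x List.mem_cons_self) (hy y List.mem_cons_self) hxy)
          (ih' (fun x' h' => hx x' (List.mem_cons_of_mem x h')) fun y' h' =>
            hy y' (List.mem_cons_of_mem y h')))
    exact key _ _ ih (isVec_imgs hq hM.rows hl ts) (isVec_imgs hq hM.rows hl zs)

/-- A map fixing a spanning list is the identity. -/
theorem eq_id {g : V →+ V} {B : List (List ℕ)} (hB : List.Forall₂ (Maps K n e g) B B)
    (hD : ∀ i < n, ∃ cs, combL q n cs B = unitL n i) (x : V) : g x = x := by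
  obtain ⟨l, -, rfl⟩ := hM.span x
  rw [ev, map_sum]
  refine Finset.sum_congr rfl fun i hi => ?_
  have hi' := Finset.mem_range.mp hi
  rw [map_natCast_smul g K K]
  congr 1
  obtain ⟨cs, hcs⟩ := hD i hi'
  have h := map_combL hM.q_zero g hB cs
  rwa [hcs, ev_unitL n e hi'] at h

end Model

end Cfsg.Agent.GStructB.CoprimeBase
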