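import Cfsg.Agent.GStructB.OddBase.Pairing

/-!
# Groups of order prime to three on small symplectic spaces over two elements

A solvable group of order prime to three preserving the pairing, without invariant totally isotropic
subgroup, contains a fixed point free group of exponent five when the space has sixteen elements, and
has order dividing fourteen when it has sixty-four.
-/

set_option autoImplicit false
set_option linter.style.haveILetI false
set_option linter.unusedSectionVars false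

open MulAction

namespace Cfsg.Agent.GStructB.CoprimeBase

universe u v w

open OddBase (Pairing.perp Pairing.card_perp Pairing.swap)

/-- The hypotheses. -/
structure Sympl {A : Type v} [Group A] {Y : Type u} [CommGroup Y] {K : Type w} [Field K]
    (f : A →* MulAut Y) (ω : Y →* Y →* Kˣ) : Prop where
  solvable : Group.IsSolvable A
  coprime : (Nat.card A).Coprime 3
  sq : ∀ y : Y, y * y = 1
  alt : ∀ y : Y, ω y y = 1
  nondeg : ∀ y : Y, (∀ z, ω y z = 1) → y = 1
  invariant : ∀ (a : A) (y z : Y), ω (f a y) (f a z) = 1 ↔ ω y z = 1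
  iso : ∀ U : Subgroup Y, (∀ a : A, ∀ y ∈ U, f a y ∈ U) → (∀ y ∈ U, ∀ z ∈ U, ω y z = 1) → U = ⊥

variable {A : Type v} [Group A] [Finite A] {Y : Type u} [CommGroup Y] [Finite Y] {K : Type w} [Field K]
  [Finite K] {f : A →* MulAut Y} {ω : Y →* Y →* Kˣ}

namespace Sympl

variable (hY : Sympl f ω)
include hY

theorem sign (y z : Y) : ω y z = 1 ∨ ω y z = -1 := by
  have h : ω y z * ω y z = 1 := by rw [← map_mul, hY.sq, map_one]
  have h' : ((ω y z : K)) * (ω y z : K) = 1 := by rw [← Units.val_mul, h, Units.val_one]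
  rcases mul_self_eq_one_iff.mp h' with h | h
  · exact Or.inl (Units.ext h)
  · exact Or.inr (Units.ext h)

theorem symm (y z : Y) : ω z y = ω y z := by
  rw [OddBase.Pairing.swap ω hY.alt y z]
  rcases hY.sign y z with h | h <;> simp [h]

theorem invariant_eq (a : A) (y z : Y) : ω (f a y) (f a z) = ω y z := by
  by_cases h : ω y z = 1
  · rw [h, (hY.invariant a y z).mpr h]
  · have h' : ω (f a y) (f a z) ≠ 1 := fun e => h ((hY.invariant a y z).mp e)
    rw [(hY.sign y z).resolve_left h, (hY.sign _ _).resolve_left h']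

/-- No invariant line. -/
theorem no_fixed {y : Y} (h : ∀ a : A, f a y = y) : y = 1 := by
  have hb := hY.iso (Subgroup.zpowers y) (fun a z hz => by
    obtain ⟨j, rfl⟩ := hz
    exact ⟨j, by simp only [map_zpow, h a]⟩) (fun z hz z' hz' => by
    obtain ⟨i, rfl⟩ := hz
    obtain ⟨j, rfl⟩ := hz'
    simp [map_zpow, hY.alt])
  rwa [Subgroup.zpowers_eq_bot] at hb

/-- No invariant subgroup with two or four elements. -/
theorem no_small (U : Subgroup Y) (hU : ∀ a : A, ∀ y ∈ U, f a y ∈ U) (h1 : 1 < Nat.card U)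
    (h4 : Nat.card U ≤ 4) : False := by
  classical
  let X : Set Y := {y | y ∈ U ∧ y ≠ 1}
  letI : MulAction A Y :=
    { smul := fun a y => f a y
      one_smul := fun y => by show f 1 y = y; rw [map_one]; rfl
      mul_smul := fun a b y => by show f (a * b) y = f a (f b y); rw [map_mul]; rfl }
  have hsm : ∀ (a : A) (y : Y), a • y = f a y := fun a y => rfl
  have hmaps : ∀ (a : A) (y : Y), y ∈ X → a • y ∈ X := by
    intro a y hy
    exact ⟨hU a y hy.1, fun e => hy.2 ((MulEquiv.map_eq_one_iff (f a)).mp e)⟩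
  have horb : ∀ y ∈ X, (orbit A y).ncard ≤ X.ncard ∧ (orbit A y).ncard ∣ Nat.card A := by
    intro y hy
    refine ⟨Set.ncard_le_ncard (by rintro _ ⟨a, rfl⟩; exact hmaps a y hy) (Set.toFinite _), ?_⟩
    rw [← Nat.card_coe_set_eq, Nat.card_congr (MulAction.orbitEquivQuotientStabilizer A y)]
    exact Subgroup.index_dvd_card _
  have hXc : X.ncard ≤ 3 := by
    have hXU : X = (U : Set Y) \ {1} := rfl
    rw [hXU, Set.ncard_sdiff_singleton_of_mem U.one_mem, ← Nat.card_coe_set_eq]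
    show Nat.card U - 1 ≤ 3
    omega
  obtain ⟨y, hyU, hy1⟩ : ∃ y ∈ U, y ≠ 1 := by
    haveI : Nontrivial U := Finite.one_lt_card_iff_nontrivial.mp h1
    obtain ⟨y, hy⟩ := exists_ne (1 : U)
    exact ⟨y, y.2, fun e => hy (Subtype.ext e)⟩
  obtain ⟨hle, hdvd⟩ := horb y ⟨hyU, hy1⟩
  have hne3 : (orbit A y).ncard ≠ 3 := fun e =>
    Nat.prime_three.ne_one (Nat.dvd_one.mp (hY.coprime ▸ Nat.dvd_gcd (e ▸ hdvd) dvd_rfl))
  have hpos : 0 < (orbit A y).ncard := (Set.ncard_pos).mpr ⟨y, mem_orbit_self y⟩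
  rcases (show (orbit A y).ncard = 1 ∨ (orbit A y).ncard = 2 by omega) with h | h
  · refine hy1 (hY.no_fixed fun a => ?_)
    obtain ⟨z, hz⟩ := Set.ncard_eq_one.mp h
    have e1 : a • y ∈ ({z} : Set Y) := hz ▸ mem_orbit y a
    have e2 : y ∈ ({z} : Set Y) := hz ▸ mem_orbit_self y
    exact (hsm a y).symm.trans (e1.trans e2.symm)
  · obtain ⟨a, b, hab, heq⟩ := Set.ncard_eq_two.mp h
    have ha : a ∈ X := (heq.symm ▸ (by simp : a ∈ ({a, b} : Set Y)) : a ∈ orbit A y).elim
      fun g hg => hg ▸ hmaps g y ⟨hyU, hy1⟩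
    have hb : b ∈ X := (heq.symm ▸ (by simp : b ∈ ({a, b} : Set Y)) : b ∈ orbit A y).elim
      fun g hg => hg ▸ hmaps g y ⟨hyU, hy1⟩
    have hne : a * b ≠ 1 := fun e => hab (by
      rw [← hY.sq b] at e
      exact mul_right_cancel e)
    refine hne (hY.no_fixed fun g => ?_)
    have hga : g • a ∈ ({a, b} : Set Y) := by
      rw [← heq]
      obtain ⟨g', hg'⟩ : a ∈ orbit A y := heq.symm ▸ (by simp)
      exact ⟨g * g', by rw [← hg']; exact mul_smul g g' y⟩
    have hgb : g • b ∈ ({a, b} : Set Y) := by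
      rw [← heq]
      obtain ⟨g', hg'⟩ : b ∈ orbit A y := heq.symm ▸ (by simp)
      exact ⟨g * g', by rw [← hg']; exact mul_smul g g' y⟩
    have hinj : g • a ≠ g • b := fun e => hab (MulAction.injective g e)
    rw [map_mul]
    simp only [hsm, Set.mem_insert_iff, Set.mem_singleton_iff] at hga hgb hinj
    rcases hga with e1 | e1 <;> rcases hgb with e2 | e2 <;> rw [e1, e2] at hinj ⊢
    · exact absurd rfl hinj
    · exact mul_comm b a
    · exact absurd rfl hinj

theorem perp_invariant (U : Subgroup Y) (hU : ∀ a : A, ∀ y ∈ U, f a y ∈ U) :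
    ∀ a : A, ∀ y ∈ Pairing.perp ω U, f a y ∈ Pairing.perp ω U := by
  intro a y hy u hu
  have h := hy _ (hU a⁻¹ u hu)
  rw [← hY.invariant a, ← MulAut.mul_apply, ← map_mul, mul_inv_cancel, map_one] at h
  exact h

theorem inf_perp (U : Subgroup Y) (hU : ∀ a : A, ∀ y ∈ U, f a y ∈ U) : U ⊓ Pairing.perp ω U = ⊥ :=
  hY.iso _ (fun a y hy => ⟨hU a y hy.1, hY.perp_invariant U hU a y hy.2⟩) fun _ hy _ hz => hy.2 _ hz.1

theorem card_mul_perp (U : Subgroup Y) (hU : ∀ a : A, ∀ y ∈ U, f a y ∈ U) :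
    Nat.card U * Nat.card (Pairing.perp ω U) = Nat.card Y := by
  refine le_antisymm ?_ (OddBase.Pairing.card_perp ω U)
  rw [← Nat.card_prod]
  refine Nat.card_le_card_of_injective (fun p : U × Pairing.perp ω U => (p.1 : Y) * p.2) fun p q e => ?_
  have h : (q.1 : Y)⁻¹ * p.1 ∈ U ⊓ Pairing.perp ω U := by
    refine ⟨U.mul_mem (U.inv_mem q.1.2) p.1.2, ?_⟩
    rw [show (q.1 : Y)⁻¹ * p.1 = q.2 * (p.2 : Y)⁻¹ by
      rw [eq_mul_inv_iff_mul_eq, mul_assoc, inv_mul_eq_iff_eq_mul]; exact e]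
    exact (Pairing.perp ω U).mul_mem q.2.2 ((Pairing.perp ω U).inv_mem p.2.2)
  rw [hY.inf_perp U hU, Subgroup.mem_bot, inv_mul_eq_one] at h
  refine Prod.ext (Subtype.ext h.symm) (Subtype.ext ?_)
  simp only [h] at e
  exact mul_left_cancel e

/-- No subgroup with eight elements meets its perpendicular trivially. -/
theorem no_eight (U : Subgroup Y) (h8 : Nat.card U = 8) (hU : U ⊓ Pairing.perp ω U = ⊥) : False := by
  classical
  obtain ⟨a, haU, ha1⟩ : ∃ a ∈ U, a ≠ 1 := by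
    haveI : Nontrivial U := Finite.one_lt_card_iff_nontrivial.mp (by omega)
    obtain ⟨y, hy⟩ := exists_ne (1 : U)
    exact ⟨y, y.2, fun e => hy (Subtype.ext e)⟩
  have hnd : ∀ x ∈ U, x ≠ 1 → ∃ z ∈ U, ω x z ≠ 1 := by
    intro x hx hx1
    by_contra h
    push Not at h
    have : x ∈ U ⊓ Pairing.perp ω U := ⟨hx, h⟩
    rw [hU] at this
    exact hx1 this
  obtain ⟨b, hbU, hab⟩ := hnd a haU ha1
  let g : U →* Kˣ × Kˣ :=
    { toFun := fun x => (ω x.1 a, ω x.1 b)
      map_one' := by simp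
      map_mul' := fun x y => by simp }
  have hrange : Nat.card g.range ≤ 4 := by
    have hsub : (g.range : Set (Kˣ × Kˣ)) ⊆ ({1, -1} : Set Kˣ) ×ˢ ({1, -1} : Set Kˣ) := by
      rintro _ ⟨x, rfl⟩
      exact ⟨hY.sign _ _, hY.sign _ _⟩
    show Nat.card (g.range : Set (Kˣ × Kˣ)) ≤ 4
    rw [Nat.card_coe_set_eq]
    refine (Set.ncard_le_ncard hsub (Set.toFinite _)).trans ?_
    rw [Set.ncard_prod]
    have h2 : ({1, -1} : Set Kˣ).ncard ≤ 2 := (Set.ncard_insert_le _ _).trans (by rw [Set.ncard_singleton])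
    exact Nat.mul_le_mul h2 h2
  obtain ⟨c, hc, hc1⟩ : ∃ c : U, c ∈ g.ker ∧ c ≠ 1 := by
    have h := g.ker.card_mul_index
    rw [Subgroup.index_ker, h8] at h
    by_contra hno
    push Not at hno
    rw [(Subgroup.eq_bot_iff_forall _).mpr hno, Subgroup.card_bot] at h
    omega
  have hca : ω c.1 a = 1 := congrArg Prod.fst (MonoidHom.mem_ker.mp hc)
  have hcb : ω c.1 b = 1 := congrArg Prod.snd (MonoidHom.mem_ker.mp hc)
  have hc1' : c.1 ≠ 1 := fun e => hc1 (Subtype.ext e)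
  obtain ⟨z, hz, hcz⟩ := hnd c.1 c.2 hc1'
  let k : Subgroup U := ((ω c.1).comp U.subtype).ker
  have hk : Nat.card k ∣ 8 := h8 ▸ k.card_subgroup_dvd_card
  have h5 : ({1, a, b, c.1, a * b} : Finset Y).card ≤ Nat.card k := by
    rw [← Nat.card_eq_finsetCard]
    refine Nat.card_le_card_of_injective (fun y => ⟨⟨y.1, ?_⟩, ?_⟩) fun y y' e =>
      Subtype.ext (congrArg (fun t : k => t.1.1) e)
    · have := y.2
      simp only [Finset.coe_insert, Finset.coe_singleton, Finset.mem_insert, Finset.mem_singleton] at this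
      rcases this with h | h | h | h | h <;> rw [h]
      · exact U.one_mem
      · exact haU
      · exact hbU
      · exact c.2
      · exact U.mul_mem haU hbU
    · have := y.2
      simp only [Finset.coe_insert, Finset.coe_singleton, Finset.mem_insert, Finset.mem_singleton] at this
      show ω c.1 y.1 = 1
      rcases this with h | h | h | h | h <;> rw [h]
      · exact map_one _
      · exact hca
      · exact hcb
      · exact hY.alt _
      · rw [map_mul, hca, hcb, one_mul]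
  have hba : ω b a ≠ 1 := by rw [hY.symm a b]; exact hab
  have hb1 : b ≠ 1 := fun e => hab (by rw [e, map_one])
  have hab1 : a ≠ b := fun e => hab (by rw [← e, hY.alt])
  have hca1 : c.1 ≠ a := fun e => hab (by rw [← e]; exact hcb)
  have hcb1 : c.1 ≠ b := fun e => hba (by rw [← e]; exact hca)
  have hcab : c.1 ≠ a * b := fun e => hba (by
    rw [e, map_mul, MonoidHom.mul_apply, hY.alt, one_mul] at hca
    exact hca)
  have hcard : ({1, a, b, c.1, a * b} : Finset Y).card = 5 := by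
    rw [Finset.card_insert_of_notMem, Finset.card_insert_of_notMem, Finset.card_insert_of_notMem,
      Finset.card_insert_of_notMem, Finset.card_singleton]
    · simp [hcab]
    · simp [hcb1.symm, ha1]
    · simp [hab1, hca1.symm, hb1]
    · simp only [Finset.mem_insert, Finset.mem_singleton, not_or]
      refine ⟨Ne.symm ha1, Ne.symm hb1, Ne.symm hc1', fun e => hab1 ?_⟩
      exact mul_right_cancel (e.symm.trans (hY.sq b).symm)
  have hk8 : Nat.card k = 8 := by
    have hle := Nat.le_of_dvd (by norm_num) hk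
    rw [hcard] at h5
    interval_cases hk' : Nat.card k <;> omega
  have htop : k = ⊤ := Subgroup.eq_top_of_card_eq _ (hk8.trans h8.symm)
  exact hcz (htop ▸ Subgroup.mem_top (⟨z, hz⟩ : U) : (⟨z, hz⟩ : U) ∈ k)

/-- Invariant subgroups are trivial. -/
theorem bot_or_top (hcard : Nat.card Y = 16 ∨ Nat.card Y = 64) (U : Subgroup Y)
    (hU : ∀ a : A, ∀ y ∈ U, f a y ∈ U) : U = ⊥ ∨ U = ⊤ := by
  by_contra h
  push Not at h
  have h1 : 1 < Nat.card U := by
    haveI := (Subgroup.nontrivial_iff_ne_bot U).mpr h.1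
    exact Finite.one_lt_card
  have hne : Nat.card U ≠ Nat.card Y := fun e => h.2 (Subgroup.eq_top_of_card_eq _ e)
  have hd := U.card_subgroup_dvd_card
  have hperp := hY.card_mul_perp U hU
  have hpi := hY.perp_invariant U hU
  rcases hcard with e | e <;> rw [e] at hd hne hperp <;>
    have hle := Nat.le_of_dvd (by norm_num) hd <;>
    interval_cases hU' : Nat.card U <;> (try omega)
  all_goals
    rcases (show Nat.card U ≤ 4 ∨ Nat.card U = 8 ∨
        (1 < Nat.card (Pairing.perp ω U) ∧ Nat.card (Pairing.perp ω U) ≤ 4) by omega) with h' | h' | h'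
    · exact hY.no_small U hU (by omega) h'
    · exact hY.no_eight U h' (hY.inf_perp U hU)
    · exact hY.no_small _ hpi h'.1 h'.2

/-- A normal subgroup of prime exponent of the image, without fixed points. -/
theorem exists_fpf (hcard : Nat.card Y = 16 ∨ Nat.card Y = 64) :
    ∃ (r : ℕ) (R : Subgroup (MulAut Y)), r.Prime ∧ r ≠ 3 ∧ r ∣ Nat.card Y - 1 ∧ R ≤ f.range ∧
      f.range ≤ Subgroup.normalizer (R : Set (MulAut Y)) ∧
      (∀ x ∈ R, ∀ x' ∈ R, x * x' = x' * x) ∧ (∀ x ∈ R, x ^ r = 1) ∧ R ≠ ⊥ ∧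
      ∀ y : Y, (∀ x ∈ R, x y = y) → y = 1 := by
  classical
  haveI := hY.solvable
  haveI : Group.IsSolvable f.range := Group.isSolvable_of_surjective f.rangeRestrict_surjective
  haveI : Finite f.range := Finite.of_surjective f.rangeRestrict f.rangeRestrict_surjective
  haveI : Nontrivial f.range := by
    refine (Subgroup.nontrivial_iff_ne_bot _).mpr fun e => ?_
    haveI : Nontrivial Y := Finite.one_lt_card_iff_nontrivial.mp (by omega)
    obtain ⟨y, hy⟩ := exists_ne (1 : Y)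
    refine hy (hY.no_fixed fun a => ?_)
    rw [Subgroup.mem_bot.mp (e ▸ ⟨a, rfl⟩ : f a ∈ (⊥ : Subgroup (MulAut Y)))]
    rfl
  obtain ⟨k, hk⟩ := (inferInstance : Group.IsSolvable f.range).solvable
  have hex : ∃ j, derivedSeries f.range j = ⊥ := ⟨k, hk⟩
  obtain ⟨j, hj⟩ : ∃ j, Nat.find hex = j + 1 := Nat.exists_eq_succ_of_ne_zero fun e => by
    have h := Nat.find_spec hex
    rw [e, derivedSeries_zero] at h
    exact top_ne_bot h
  have hjb := Nat.find_spec hex
  rw [hj, derivedSeries_succ] at hjb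
  have hjN := Nat.find_min hex (show j < Nat.find hex by omega)
  set D := derivedSeries f.range j
  haveI : D.Normal := derivedSeries_normal _ _
  have hDab : ∀ x ∈ D, ∀ x' ∈ D, x * x' = x' * x := fun x hx x' hx' => by
    have h := Subgroup.commutator_mem_commutator hx hx'
    rw [hjb, Subgroup.mem_bot] at h
    exact commutatorElement_eq_one_iff_mul_comm.mp h
  have hD1 : Nat.card D ≠ 1 := fun e => hjN (Subgroup.card_eq_one.mp e)
  obtain ⟨r, hr, hrD⟩ := Nat.exists_prime_and_dvd hD1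
  haveI := Fact.mk hr
  let R₀ : Subgroup f.range :=
    { carrier := {x | x ∈ D ∧ x ^ r = 1}
      one_mem' := ⟨D.one_mem, one_pow r⟩
      mul_mem' := fun {x y} hx hy => ⟨D.mul_mem hx.1 hy.1, by
        rw [Commute.mul_pow (hDab x hx.1 y hy.1), hx.2, hy.2, one_mul]⟩
      inv_mem' := fun {x} hx => ⟨D.inv_mem hx.1, by rw [inv_pow, hx.2, inv_one]⟩ }
  obtain ⟨x₀, hx₀⟩ := exists_prime_orderOf_dvd_card' (G := D) r hrD
  set R := R₀.map f.range.subtype with hR
  have hx₀R : ((x₀ : f.range) : MulAut Y) ∈ R := ⟨x₀.1, ⟨x₀.2, by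
    rw [← Subgroup.coe_pow, ← hx₀, pow_orderOf_eq_one, Subgroup.coe_one]⟩, rfl⟩
  have hRle : R ≤ f.range := Subgroup.map_subtype_le _
  have hconj : ∀ g ∈ f.range, ∀ x ∈ R, g * x * g⁻¹ ∈ R := by
    rintro g hg _ ⟨x, ⟨hxD, hxr⟩, rfl⟩
    exact ⟨⟨g, hg⟩ * x * ⟨g, hg⟩⁻¹, ⟨Subgroup.Normal.conj_mem inferInstance x hxD ⟨g, hg⟩,
      by rw [conj_pow, hxr, mul_one, mul_inv_cancel]⟩, rfl⟩
  have hnorm : f.range ≤ Subgroup.normalizer (R : Set (MulAut Y)) := fun g hg => by
    rw [Subgroup.mem_normalizer_iff]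
    refine fun x => ⟨fun hx => hconj g hg x hx, fun hx => ?_⟩
    have h := hconj g⁻¹ (f.range.inv_mem hg) _ hx
    rwa [show g⁻¹ * (g * x * g⁻¹) * g⁻¹⁻¹ = x by group] at h
  have hRne : R ≠ ⊥ := fun e => by
    rw [e, Subgroup.mem_bot, OneMemClass.coe_eq_one, OneMemClass.coe_eq_one] at hx₀R
    rw [hx₀R, orderOf_one] at hx₀
    exact hr.ne_one hx₀.symm
  have hrA : r ∣ Nat.card A := hx₀ ▸ (orderOf_dvd_natCard x₀).trans
    (D.card_subgroup_dvd_card.trans (Subgroup.card_range_dvd f))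
  have hr3 : r ≠ 3 := fun e => Nat.prime_three.ne_one
    (Nat.dvd_one.mp (hY.coprime ▸ Nat.dvd_gcd (e ▸ hrA) dvd_rfl))
  let F : Subgroup Y :=
    { carrier := {y | ∀ x ∈ R, x y = y}
      one_mem' := fun x _ => map_one x
      mul_mem' := fun {y z} hy hz x hx => by rw [map_mul, hy x hx, hz x hx]
      inv_mem' := fun {y} hy x hx => by rw [map_inv, hy x hx] }
  have hF : ∀ a : A, ∀ y ∈ F, f a y ∈ F := by
    intro a y hy x hx
    have h := hy _ (hconj _ (f.range.inv_mem ⟨a, rfl⟩) x hx)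
    rw [MulAut.mul_apply, MulAut.mul_apply, inv_inv] at h
    have h' := congrArg (f a) h
    rwa [MulAut.apply_inv_self] at h'
  have hFbot : F = ⊥ := (hY.bot_or_top hcard F hF).resolve_right fun e => hRne
    ((Subgroup.eq_bot_iff_forall _).mpr fun x hx => MulEquiv.ext fun y =>
      (e ▸ Subgroup.mem_top y : y ∈ F) x hx)
  refine ⟨r, R, hr, hr3, ?_, hRle, hnorm, ?_, ?_, hRne, fun y hy => ?_⟩
  · have hp : IsPGroup r R := fun x => ⟨1, by
      obtain ⟨x', hx', e⟩ := x.2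
      refine Subtype.ext ?_
      rw [pow_one, Subgroup.coe_pow, Subgroup.coe_one, ← e, ← map_pow, hx'.2, map_one]⟩
    have h := hp.card_modEq_card_fixedPoints Y
    have hfix : fixedPoints R Y = {1} := by
      ext y
      refine ⟨fun hy => ?_, ?_⟩
      · have : y ∈ F := fun x hx => hy ⟨x, hx⟩
        rw [hFbot] at this
        exact this
      · rintro rfl x
        exact map_one x.1
    rw [hfix, Nat.card_coe_set_eq, Set.ncard_singleton] at h
    exact (Nat.modEq_iff_dvd' (Nat.card_pos)).mp h.symm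
  · rintro _ ⟨x, hx, rfl⟩ _ ⟨x', hx', rfl⟩
    exact congrArg Subtype.val (hDab x hx.1 x' hx'.1)
  · rintro _ ⟨x, hx, rfl⟩
    rw [← map_pow, hx.2, map_one]
  · have : y ∈ F := hy
    rw [hFbot] at this
    exact this

/-- Invariant sets without the identity have size divisible by five on sixteen elements. -/
theorem five_dvd (h16 : Nat.card Y = 16) (S : Set Y) (hS : ∀ a : A, ∀ y ∈ S, f a y ∈ S)
    (h1 : (1 : Y) ∉ S) : 5 ∣ S.ncard := by
  obtain ⟨r, R, hr, hr3, hrd, hRle, -, -, hexp, -, hfix⟩ := hY.exists_fpf (Or.inl h16)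
  haveI := Fact.mk hr
  rw [h16] at hrd
  have hr5 : r = 5 := by
    have := Nat.le_of_dvd (by norm_num) hrd
    interval_cases r <;> first | omega | (norm_num at hr)
  subst hr5
  have hmem : ∀ x ∈ R, ∀ y ∈ S, x y ∈ S := fun x hx y hy => by
    obtain ⟨a, rfl⟩ := hRle hx
    exact hS a y hy
  let PS : SubMulAction R Y := { carrier := S, smul_mem' := fun x y hy => hmem x x.2 y hy }
  have hp : IsPGroup 5 R := fun x => ⟨1, Subtype.ext (by rw [pow_one]; exact hexp x x.2)⟩
  have h := hp.card_modEq_card_fixedPoints PS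
  haveI he : IsEmpty (fixedPoints R PS) := ⟨fun y => h1 ((hfix y.1.1 fun x hx =>
    congrArg Subtype.val (y.2 ⟨x, hx⟩)) ▸ y.1.2)⟩
  rw [Nat.card_of_isEmpty (α := fixedPoints R PS)] at h
  rw [← Nat.card_coe_set_eq]
  exact Nat.modEq_zero_iff_dvd.mp h

/-- The image divides fourteen on sixty-four elements. -/
theorem card_range_dvd (h64 : Nat.card Y = 64) : Nat.card f.range ∣ 14 := by
  classical
  obtain ⟨r, R, hr, hr3, hrd, hRle, hnorm, hRab, hexp, hRne, hfix⟩ := hY.exists_fpf (Or.inr h64)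
  rw [h64] at hrd
  have hr7 : r = 7 := by
    have := Nat.le_of_dvd (by norm_num) hrd
    interval_cases r <;> first | omega | (norm_num at hr)
  subst hr7
  haveI := Fact.mk hr
  haveI : Finite (MulAut Y) := Finite.of_injective (fun e : MulAut Y => (e : Y → Y)) DFunLike.coe_injective
  -- elements are determined by their square
  have hsame : ∀ {y z : Y}, y * z = 1 → y = z := fun {y z} h => mul_right_cancel (h.trans (hY.sq z).symm)
  obtain ⟨ρ, hρR, hρ1⟩ : ∃ ρ ∈ R, ρ ≠ 1 := R.bot_or_exists_ne_one.resolve_left hRne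
  obtain ⟨a₀, ha₀⟩ := hRle hρR
  have hinv : ∀ y z : Y, ω (ρ y) (ρ z) = ω y z := fun y z => by rw [← ha₀]; exact hY.invariant_eq a₀ y z
  have hρ7 := hexp ρ hρR
  have hρo : orderOf ρ = 7 := orderOf_eq_prime hρ7 hρ1
  have hit : ∀ (y : Y), ρ (ρ (ρ (ρ (ρ (ρ (ρ y)))))) = y := fun y => by
    have h := DFunLike.congr_fun hρ7 y
    simpa [pow_succ, MulAut.mul_apply] using h
  -- the fixed points of `ρ`
  let Fρ : Subgroup Y :=
    { carrier := {y | ρ y = y}
      one_mem' := map_one ρ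
      mul_mem' := fun {y z} (hy : ρ y = y) (hz : ρ z = z) => by
        show ρ (y * z) = y * z; rw [map_mul, hy, hz]
      inv_mem' := fun {y} (hy : ρ y = y) => by show ρ y⁻¹ = y⁻¹; rw [map_inv, hy] }
  have hFne : Fρ ≠ ⊤ := fun e => hρ1 (MulEquiv.ext fun y => (e ▸ Subgroup.mem_top y : y ∈ Fρ))
  have hp : IsPGroup 7 (Subgroup.zpowers ρ) := IsPGroup.of_card (n := 1) (by rw [Nat.card_zpowers, hρo, pow_one])
  have hFρ1 : Fρ = ⊥ := by
    have hmod := hp.card_modEq_card_fixedPoints Y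
    have hfe : fixedPoints (Subgroup.zpowers ρ) Y = (Fρ : Set Y) := by
      ext y
      refine ⟨fun hy => hy ⟨ρ, Subgroup.mem_zpowers ρ⟩, fun (hy : ρ y = y) x => ?_⟩
      obtain ⟨j, hj⟩ := Subgroup.mem_zpowers_iff.mp x.2
      show (x : MulAut Y) y = y
      rw [← hj]
      have : ∀ j : ℕ, (ρ ^ j) y = y := fun j => by
        induction j with
        | zero => rfl
        | succ j ih => rw [pow_succ, MulAut.mul_apply, hy, ih]
      have hz : (ρ ^ j : MulAut Y) ∈ MulAction.stabilizer (MulAut Y) y :=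
        Subgroup.zpow_mem _ (show ρ ∈ MulAction.stabilizer (MulAut Y) y from hy) j
      exact hz
    rw [hfe, Nat.card_coe_set_eq, h64] at hmod
    have hd := Fρ.card_subgroup_dvd_card
    rw [h64] at hd
    have hle := Nat.le_of_dvd (by norm_num) hd
    have hne : Nat.card Fρ ≠ 64 := fun e => hFne (Subgroup.eq_top_of_card_eq _ (e.trans h64.symm))
    change 64 ≡ Nat.card Fρ [MOD 7] at hmod
    have h18 : Nat.card Fρ = 1 ∨ Nat.card Fρ = 8 := by
      unfold Nat.ModEq at hmod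
      interval_cases hc : Nat.card Fρ <;> omega
    rcases h18 with h | h
    · exact Subgroup.card_eq_one.mp h
    · exfalso
      refine hY.no_eight Fρ h ((Subgroup.eq_bot_iff_forall _).mpr fun u hu => ?_)
      obtain ⟨huF, huP⟩ := hu
      refine hY.nondeg u fun z => ?_
      let δ : Y →* Y := MonoidHom.id Y * ρ.toMonoidHom
      have hker : δ.ker = Fρ := by
        ext y
        show y * ρ y = 1 ↔ ρ y = y
        exact ⟨fun e => (hsame e).symm, fun e => by rw [e, hY.sq]⟩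
      have hinj : Function.Injective fun p : Fρ × δ.range => (p.1 : Y) * p.2 := by
        have h0 : ∀ x ∈ Fρ, x ∈ δ.range → x = 1 := by
          rintro _ hx ⟨w, rfl⟩
          have hx' : ρ (w * ρ w) = w * ρ w := hx
          rw [map_mul, mul_comm (ρ w)] at hx'
          have h2 : ρ (ρ w) = w := mul_right_cancel hx'
          have h6 : ρ w = w := by
            have h := hit w
            rwa [h2, h2, h2] at h
          show w * ρ w = 1
          rw [h6, hY.sq]
        intro p q e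
        have e1 : (q.1 : Y)⁻¹ * p.1 = q.2 * (p.2 : Y)⁻¹ := by
          rw [eq_mul_inv_iff_mul_eq, mul_assoc, inv_mul_eq_iff_eq_mul]; exact e
        have h1 := h0 _ (Fρ.mul_mem (Fρ.inv_mem q.1.2) p.1.2) (e1 ▸ δ.range.mul_mem q.2.2 (δ.range.inv_mem p.2.2))
        rw [inv_mul_eq_one] at h1
        refine Prod.ext (Subtype.ext h1.symm) (Subtype.ext ?_)
        simp only [h1] at e
        exact mul_left_cancel e
      have hcardP : Nat.card (Fρ × δ.range) = Nat.card Y := by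
        rw [Nat.card_prod, ← hker, ← Subgroup.index_ker, Subgroup.card_mul_index]
      obtain ⟨⟨x, w⟩, rfl⟩ := ((Nat.bijective_iff_injective_and_card _).mpr ⟨hinj, hcardP⟩).2 z
      obtain ⟨w', hw'⟩ := w.2
      simp only
      rw [map_mul, huP x x.2, one_mul, ← hw']
      show ω u (w' * ρ w') = 1
      have h2 := hinv u w'
      rw [show ρ u = u from huF] at h2
      rw [map_mul, h2, ← map_mul, hY.sq, map_one]
  have hfpf : ∀ y, ρ y = y → y = 1 := fun y hy => Subgroup.mem_bot.mp (hFρ1 ▸ (hy : y ∈ Fρ))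
  -- the two kernels
  let ψ₁ : Y →* Y := ρ.toMonoidHom.comp (ρ.toMonoidHom.comp ρ.toMonoidHom) * ρ.toMonoidHom * MonoidHom.id Y
  let ψ₂ : Y →* Y := ρ.toMonoidHom.comp (ρ.toMonoidHom.comp ρ.toMonoidHom) *
    ρ.toMonoidHom.comp ρ.toMonoidHom * MonoidHom.id Y
  have h1 : ∀ y, ψ₁ y = ρ (ρ (ρ y)) * ρ y * y := fun y => rfl
  have h2 : ∀ y, ψ₂ y = ρ (ρ (ρ y)) * ρ (ρ y) * y := fun y => rfl
  have hprod : ∀ y, ψ₁ (ψ₂ y) = 1 := by
    intro y
    refine hfpf _ ?_
    rw [h1, h2]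
    simp only [map_mul, hit, mul_assoc]
    have e : ∀ t s : Y, t * (t * s) = s := fun t s => by rw [← mul_assoc, hY.sq, one_mul]
    simp only [mul_left_comm, mul_comm, mul_assoc, e, hY.sq]
  have hcomm12 : ∀ y, ψ₂ (ψ₁ y) = ψ₁ (ψ₂ y) := by
    intro y
    rw [h1, h2, h1, h2]
    simp only [map_mul]
    simp only [mul_left_comm, mul_comm, mul_assoc]
  -- decomposition
  have hsplit : ∀ y, ∃ y₂ ∈ ψ₂.ker, ∃ y₁ ∈ ψ₁.ker, y = y₂ * y₁ := by
    intro y
    refine ⟨ψ₁ (ρ y), ?_, ψ₂ (ρ y * y), ?_, ?_⟩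
    · show ψ₂ (ψ₁ (ρ y)) = 1
      rw [hcomm12, hprod]
    · exact hprod _
    · rw [h1, h2]
      simp only [map_mul]
      have e : ∀ t s : Y, t * (t * s) = s := fun t s => by rw [← mul_assoc, hY.sq, one_mul]
      simp only [mul_left_comm, mul_comm, mul_assoc, e, hY.sq, mul_one]
  -- isotropy
  have hstep : ∀ σ : MulAut Y, (∀ y z, ω (σ y) (σ z) = ω y z) → σ ^ 7 = 1 → ∀ a b : Y,
      σ (σ (σ a)) * σ a * a = 1 → σ (σ (σ b)) * σ b * b = 1 → ω a b = 1 := by
    intro σ hσ hσ7 a b ha hb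
    let g : ℕ → Kˣ := fun i => ω ((σ ^ i) a) b
    have hgσ : ∀ i, g i = ω ((σ ^ (i + 1)) a) (σ b) := fun i => by
      rw [pow_succ', MulAut.mul_apply, hσ]
    have r1 : ∀ i, g (i + 3) * g (i + 1) * g i = 1 := fun i => by
      show ω ((σ ^ (i + 3)) a) b * ω ((σ ^ (i + 1)) a) b * ω ((σ ^ i) a) b = 1
      rw [← MonoidHom.mul_apply, ← map_mul, ← MonoidHom.mul_apply, ← map_mul,
        show (σ ^ (i + 3)) a * (σ ^ (i + 1)) a * (σ ^ i) a = (σ ^ i) (σ (σ (σ a)) * σ a * a) by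
          rw [map_mul, map_mul, pow_add, pow_add]; rfl, ha, map_one, map_one, MonoidHom.one_apply]
    have r2 : ∀ i, g i * g (i + 2) * g (i + 3) = 1 := fun i => by
      rw [hgσ (i + 2), hgσ i]
      have hg3 : g (i + 3) = ω ((σ ^ (i + 3)) a) b := rfl
      have e1 : ω ((σ ^ (i + 1)) a) (σ b) = ω ((σ ^ (i + 3)) a) (σ (σ (σ b))) := by
        rw [show i + 3 = i + 1 + 1 + 1 from rfl, pow_succ' σ (i + 1 + 1), pow_succ' σ (i + 1), MulAut.mul_apply,
          MulAut.mul_apply, hσ, hσ]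
      rw [e1, hg3, ← map_mul, ← map_mul, hb, map_one]
    have c12 : ∀ i, g (i + 1) = g (i + 2) := fun i => mul_right_cancel (b := g (i + 3) * g i) (by
      rw [← mul_assoc, mul_comm (g (i + 1)) (g (i + 3)), r1, ← r2 i]
      ac_rfl)
    have hg7 : g 7 = g 0 := by simp [g, hσ7]
    have hall : g 0 = g 1 := by rw [← hg7, ← c12 5, ← c12 4, ← c12 3, ← c12 2, ← c12 1, ← c12 0]
    have h3 : g 3 = g 1 := by rw [← c12 1, ← c12 0]
    have e := r1 0
    rw [h3, ← hall] at e
    have s0 : g 0 * g 0 = 1 := by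
      show ω ((σ ^ 0) a) b * ω ((σ ^ 0) a) b = 1
      rw [← map_mul, hY.sq, map_one]
    rw [s0, one_mul] at e
    simpa [g] using e
  have hisoK : ∀ (ψ : Y →* Y), (ψ = ψ₁ ∨ ψ = ψ₂) → ∀ u ∈ ψ.ker, ∀ v ∈ ψ.ker, ω u v = 1 := by
    intro ψ hψ u hu v hv
    rcases hψ with rfl | rfl
    · exact hstep ρ hinv hρ7 u v ((h1 u).symm.trans hu) ((h1 v).symm.trans hv)
    · have key : ∀ t : Y, t ∈ ψ₂.ker → ρ⁻¹ (ρ⁻¹ (ρ⁻¹ t)) * ρ⁻¹ t * t = 1 := fun t ht => by
        have h := congrArg (fun s => ρ⁻¹ (ρ⁻¹ (ρ⁻¹ s))) ((h2 t).symm.trans ht)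
        simp only [map_mul, MulAut.inv_apply_self, map_one] at h
        rw [← h]
        ac_rfl
      exact hstep ρ⁻¹ (fun y z => by rw [← hinv (ρ⁻¹ y) (ρ⁻¹ z)]; simp)
        (by rw [inv_pow, hρ7, inv_one]) u v (key u hu) (key v hv)
  -- sizes
  have hK : ∀ (ψ ψ' : Y →* Y), (ψ = ψ₁ ∧ ψ' = ψ₂ ∨ ψ = ψ₂ ∧ ψ' = ψ₁) → Nat.card ψ.ker = 8 := by
    intro ψ ψ' hψ
    have hψψ : ψ = ψ₁ ∨ ψ = ψ₂ := hψ.elim (fun h => Or.inl h.1) fun h => Or.inr h.1
    have hψ'ψ : ψ' = ψ₁ ∨ ψ' = ψ₂ := hψ.elim (fun h => Or.inr h.2) fun h => Or.inl h.2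
    have hne : ∀ χ : Y →* Y, (χ = ψ₁ ∨ χ = ψ₂) → χ.ker ≠ ⊤ := fun χ hχ e => by
      haveI : Nontrivial Y := Finite.one_lt_card_iff_nontrivial.mp (by omega)
      obtain ⟨y, hy⟩ := exists_ne (1 : Y)
      exact hy (hY.nondeg y fun z => hisoK χ hχ y (e ▸ Subgroup.mem_top y) z (e ▸ Subgroup.mem_top z))
    have hne1 : ψ.ker ≠ ⊥ := by
      intro e
      refine hne ψ' hψ'ψ (eq_top_iff.mpr fun y _ => ?_)
      obtain ⟨y₂, hy₂, y₁, hy₁, rfl⟩ := hsplit y
      rcases hψ with ⟨rfl, rfl⟩ | ⟨rfl, rfl⟩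
      · rw [Subgroup.mem_bot.mp (show y₁ ∈ (⊥ : Subgroup Y) from e ▸ hy₁), mul_one]; exact hy₂
      · rw [Subgroup.mem_bot.mp (show y₂ ∈ (⊥ : Subgroup Y) from e ▸ hy₂), one_mul]; exact hy₁
    have hρψ : ∀ y ∈ ψ.ker, ρ y ∈ ψ.ker := fun y hy => by
      have : ψ (ρ y) = ρ (ψ y) := by
        rcases hψψ with rfl | rfl <;> simp [h1, h2]
      rw [MonoidHom.mem_ker, this, MonoidHom.mem_ker.mp hy, map_one]
    let PS : SubMulAction (Subgroup.zpowers ρ) Y :=
      { carrier := ψ.ker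
        smul_mem' := fun x y hy => by
          have hfin : (x : MulAut Y) ∈ Submonoid.powers ρ :=
            (mem_powers_iff_mem_zpowers).mpr x.2
          obtain ⟨j, hj⟩ := hfin
          show (x : MulAut Y) y ∈ ψ.ker
          rw [← hj]
          clear hj
          induction j with
          | zero => exact hy
          | succ j ih =>
            show (ρ ^ (j + 1)) y ∈ ψ.ker
            rw [pow_succ', MulAut.mul_apply]; exact hρψ _ ih }
    have hmod := hp.card_modEq_card_fixedPoints PS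
    have hone : Nat.card (fixedPoints (Subgroup.zpowers ρ) PS) = 1 := by
      rw [Nat.card_eq_one_iff_unique]
      refine ⟨⟨fun p q => Subtype.ext (Subtype.ext ?_)⟩, ⟨⟨⟨1, ψ.ker.one_mem⟩, fun x => Subtype.ext (map_one x.1)⟩⟩⟩
      exact (hfpf _ (congrArg Subtype.val (p.2 ⟨ρ, Subgroup.mem_zpowers ρ⟩))).trans
        (hfpf _ (congrArg Subtype.val (q.2 ⟨ρ, Subgroup.mem_zpowers ρ⟩))).symm
    rw [hone] at hmod
    change Nat.card ψ.ker ≡ 1 [MOD 7] at hmod
    have hd := ψ.ker.card_subgroup_dvd_card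
    rw [h64] at hd
    have hle := Nat.le_of_dvd (by norm_num) hd
    have h64' : Nat.card ψ.ker ≠ 64 := fun e => hne ψ hψψ (Subgroup.eq_top_of_card_eq _ (e.trans h64.symm))
    have h1' : Nat.card ψ.ker ≠ 1 := fun e => hne1 (Subgroup.card_eq_one.mp e)
    unfold Nat.ModEq at hmod
    interval_cases hc : Nat.card ψ.ker <;> omega
  have hK1 := hK ψ₁ ψ₂ (Or.inl ⟨rfl, rfl⟩)
  -- the centralizer of `ρ`
  let C : Subgroup (MulAut Y) := f.range ⊓ Subgroup.centralizer {ρ}
  have hCc : ∀ g ∈ C, ∀ y, g (ρ y) = ρ (g y) := fun g hg y =>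
    (DFunLike.congr_fun (Subgroup.mem_centralizer_iff.mp hg.2 ρ rfl) y).symm
  obtain ⟨u₀, hu₀, hu₀1⟩ : ∃ u ∈ ψ₁.ker, u ≠ 1 := ψ₁.ker.bot_or_exists_ne_one.resolve_left fun e => by
    rw [e, Subgroup.card_bot] at hK1; omega
  have hC7 : Nat.card C ≤ 7 := by
    have hmap : ∀ g ∈ C, ∀ ψ : Y →* Y, (ψ = ψ₁ ∨ ψ = ψ₂) → ∀ y ∈ ψ.ker, g y ∈ ψ.ker := by
      intro g hg ψ hψ y hy
      have : ψ (g y) = g (ψ y) := by
        rcases hψ with rfl | rfl <;> simp [h1, h2, hCc g hg]
      rw [MonoidHom.mem_ker, this, MonoidHom.mem_ker.mp hy, map_one]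
    have hin : ∀ g : C, g.1 u₀ ∈ ({y : Y | y ∈ ψ₁.ker ∧ y ≠ 1}) := fun g =>
      ⟨hmap g.1 g.2 ψ₁ (Or.inl rfl) u₀ hu₀, fun e => hu₀1 ((MulEquiv.map_eq_one_iff g.1).mp e)⟩
    have hdet : Function.Injective fun g : C => (⟨g.1 u₀, hin g⟩ : {y : Y | y ∈ ψ₁.ker ∧ y ≠ 1}) := by
      intro g g' e
      have e0 : g.1 u₀ = g'.1 u₀ := congrArg Subtype.val e
      let E : Subgroup Y :=
        { carrier := {y | y ∈ ψ₁.ker ∧ g.1 y = g'.1 y}
          one_mem' := ⟨ψ₁.ker.one_mem, by simp⟩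
          mul_mem' := fun {y z} hy hz => ⟨ψ₁.ker.mul_mem hy.1 hz.1, by rw [map_mul, map_mul, hy.2, hz.2]⟩
          inv_mem' := fun {y} hy => ⟨ψ₁.ker.inv_mem hy.1, by rw [map_inv, map_inv, hy.2]⟩ }
      have horb : ∀ i : ℕ, (ρ ^ i) u₀ ∈ E := by
        intro i
        induction i with
        | zero => exact ⟨hu₀, e0⟩
        | succ i ih =>
          rw [pow_succ', MulAut.mul_apply]
          refine ⟨?_, by rw [hCc g.1 g.2, hCc g'.1 g'.2, ih.2]⟩
          have := ih.1
          rw [MonoidHom.mem_ker] at this ⊢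
          rw [show ψ₁ (ρ ((ρ ^ i) u₀)) = ρ (ψ₁ ((ρ ^ i) u₀)) by simp [h1], this, map_one]
      have hEcard : Nat.card E = 8 := by
        have hdE : Nat.card E ∣ 8 := hK1 ▸ Subgroup.card_dvd_of_le (fun y hy => hy.1)
        have hge : 7 ≤ Nat.card E := by
          refine le_trans (le_of_eq (Nat.card_fin 7).symm) (Nat.card_le_card_of_injective
            (fun i : Fin 7 => (⟨(ρ ^ (i : ℕ)) u₀, horb i⟩ : E)) fun i j e => ?_)
          have e' : (ρ ^ (i : ℕ)) u₀ = (ρ ^ (j : ℕ)) u₀ := congrArg Subtype.val e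
          by_contra hij
          obtain ⟨d, hd, hdu⟩ : ∃ d : ℕ, (0 < d ∧ d < 7) ∧ (ρ ^ d) u₀ = u₀ := by
            rcases Nat.lt_or_gt_of_ne (fun h => hij (Fin.ext h)) with h | h
            · refine ⟨j - i, ⟨by omega, by omega⟩, MulEquiv.injective (ρ ^ (i : ℕ)) ?_⟩
              rw [← MulAut.mul_apply, ← pow_add, Nat.add_sub_cancel' h.le, e']
            · refine ⟨i - j, ⟨by omega, by omega⟩, MulEquiv.injective (ρ ^ (j : ℕ)) ?_⟩
              rw [← MulAut.mul_apply, ← pow_add, Nat.add_sub_cancel' h.le, e']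
          have hst : ρ ∈ MulAction.stabilizer (MulAut Y) u₀ := by
            obtain ⟨t, ht⟩ := Nat.exists_mul_mod_eq_one_of_coprime
              ((Nat.coprime_primes hr hr).mp.mt (by simp) |> fun _ => (hr.coprime_iff_not_dvd.mpr
                (fun h => by have := Nat.le_of_dvd hd.1 h; omega)).symm) hr.one_lt
            have h1' : ρ = (ρ ^ d) ^ t := by
              rw [← pow_mul, ← Nat.mod_add_div (d * t) 7, ht.2, pow_add, pow_mul, hρ7, one_pow, mul_one, pow_one]
            rw [h1']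
            exact Subgroup.pow_mem _ (show ρ ^ d ∈ MulAction.stabilizer (MulAut Y) u₀ from hdu) t
          exact hu₀1 (hfpf u₀ hst)
        have := Nat.le_of_dvd (by norm_num) hdE
        interval_cases hc : Nat.card E <;> omega
      have hEtop : ∀ y ∈ ψ₁.ker, g.1 y = g'.1 y := by
        have := Subgroup.eq_of_le_of_card_ge (H := E) (K := ψ₁.ker) (fun y hy => hy.1) (by omega)
        exact fun y hy => ((this.symm ▸ hy : y ∈ E)).2
      refine Subtype.ext (MulEquiv.ext fun z => ?_)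
      obtain ⟨z₂, hz₂, z₁, hz₁, rfl⟩ := hsplit z
      rw [map_mul, map_mul, hEtop z₁ hz₁]
      congr 1
      refine hsame (hY.nondeg _ fun w => ?_)
      obtain ⟨w₂, hw₂, w₁, hw₁, rfl⟩ := hsplit w
      obtain ⟨a, ha⟩ := g.2.1
      obtain ⟨a', ha'⟩ := g'.2.1
      rw [map_mul, hisoK ψ₂ (Or.inr rfl) _
        (ψ₂.ker.mul_mem (hmap _ g.2 _ (Or.inr rfl) _ hz₂) (hmap _ g'.2 _ (Or.inr rfl) _ hz₂)) w₂ hw₂, one_mul]
      have hpre : g.1⁻¹ w₁ ∈ ψ₁.ker := hmap _ (C.inv_mem g.2) ψ₁ (Or.inl rfl) w₁ hw₁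
      set t := g.1⁻¹ w₁ with htdef
      have ht1 : g.1 t = w₁ := by simp [htdef]
      have ht2 : g'.1 t = w₁ := (hEtop t hpre).symm.trans ht1
      rw [map_mul, MonoidHom.mul_apply]
      conv_lhs => arg 1; rw [← ht1, ← ha, hY.invariant_eq a]
      conv_lhs => arg 2; rw [← ht2, ← ha', hY.invariant_eq a']
      rcases hY.sign z₂ t with h | h <;> simp [h]
    refine (Nat.card_le_card_of_injective _ hdet).trans ?_
    rw [Nat.card_coe_set_eq, show {y : Y | y ∈ ψ₁.ker ∧ y ≠ 1} = (ψ₁.ker : Set Y) \ {1} from rfl,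
      Set.ncard_sdiff_singleton_of_mem ψ₁.ker.one_mem, ← Nat.card_coe_set_eq]
    show Nat.card ψ₁.ker - 1 ≤ 7
    omega
  have hzC : Subgroup.zpowers ρ ≤ C := by
    rw [Subgroup.zpowers_le]
    exact ⟨hRle hρR, Subgroup.mem_centralizer_iff.mpr fun x hx => by rw [Set.mem_singleton_iff.mp hx]⟩
  have hC : C = Subgroup.zpowers ρ :=
    (Subgroup.eq_of_le_of_card_ge hzC (by rw [Nat.card_zpowers, hρo]; exact hC7)).symm
  have hRz : R = Subgroup.zpowers ρ := le_antisymm
    (fun x hx => hC ▸ ⟨hRle hx, Subgroup.mem_centralizer_iff.mpr fun y hy => by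
      rw [Set.mem_singleton_iff.mp hy]; exact hRab ρ hρR x hx⟩) (Subgroup.zpowers_le.mpr hρR)
  -- the action on `R`
  haveI hRn : (R.subgroupOf f.range).Normal := Subgroup.normal_subgroupOf_iff_le_normalizer hRle |>.mpr hnorm
  let φ : f.range →* MulAut (R.subgroupOf f.range) := MulAut.conjNormal
  have hker : φ.ker = C.subgroupOf f.range := by
    ext g
    rw [MonoidHom.mem_ker, Subgroup.mem_subgroupOf]
    constructor
    · intro h
      refine ⟨g.2, Subgroup.mem_centralizer_iff.mpr fun x hx => ?_⟩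
      rw [Set.mem_singleton_iff.mp hx]
      have e : ((MulAut.conjNormal g (⟨⟨ρ, hRle hρR⟩, hρR⟩ : R.subgroupOf f.range) : f.range) : MulAut Y) = ρ :=
        congrArg (fun t : R.subgroupOf f.range => ((t : f.range) : MulAut Y))
          (DFunLike.congr_fun h ⟨⟨ρ, hRle hρR⟩, hρR⟩)
      rw [MulAut.conjNormal_apply, Subgroup.coe_mul, Subgroup.coe_mul, Subgroup.coe_inv] at e
      exact (mul_inv_eq_iff_eq_mul.mp e).symm
    · intro h
      refine MulEquiv.ext fun t => Subtype.ext (Subtype.ext ?_)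
      show (((MulAut.conjNormal g t : R.subgroupOf f.range) : f.range) : MulAut Y) = ((t : f.range) : MulAut Y)
      rw [MulAut.conjNormal_apply, Subgroup.coe_mul, Subgroup.coe_mul, Subgroup.coe_inv]
      obtain ⟨j, hj⟩ := Subgroup.mem_zpowers_iff.mp (hRz ▸ t.2 : ((t : f.range) : MulAut Y) ∈ Subgroup.zpowers ρ)
      have hc : Commute (g : MulAut Y) ρ := (Subgroup.mem_centralizer_iff.mp h.2 ρ rfl).symm
      rw [← hj, (hc.zpow_right j).eq, mul_inv_cancel_right]
  have hC7' : Nat.card (C.subgroupOf f.range) = 7 := by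
    rw [Nat.card_congr (Subgroup.subgroupOfEquivOfLe inf_le_left).toEquiv]
    show Nat.card C = 7
    rw [hC, Nat.card_zpowers, hρo]
  have hR7 : Nat.card (R.subgroupOf f.range) = 7 := by
    rw [Nat.card_congr (Subgroup.subgroupOfEquivOfLe hRle).toEquiv, hRz, Nat.card_zpowers, hρo]
  haveI : IsCyclic (R.subgroupOf f.range) := isCyclic_of_prime_card hR7
  have hrange : Nat.card φ.range ∣ 2 := by
    have h6 : Nat.card φ.range ∣ 2 * 3 := by
      refine φ.range.card_subgroup_dvd_card.trans ?_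
      rw [IsCyclic.card_mulAut, hR7]
      decide
    exact (Nat.Coprime.dvd_mul_right (hY.coprime.coprime_dvd_left
      ((Subgroup.card_range_dvd φ).trans (Subgroup.card_range_dvd f)))).mp h6
  rw [← φ.ker.card_mul_index, Subgroup.index_ker, hker, hC7']
  exact Nat.mul_dvd_mul_left 7 hrange

end Sympl

end Cfsg.Agent.GStructB.CoprimeBase
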