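import Cfsg.Agent.GStructB.CoprimeBase.Units
import Cfsg.Agent.GStructB.OddBase.Pairing

/-!
# The pairing on `M` modulo scalars

The commutator pairing on `M` modulo scalars is non-degenerate and the group has no non-trivial
invariant totally isotropic subgroup there. Over five elements this makes all scalar squares in `M`
squares of scalars.
-/

set_option autoImplicit false
set_option linter.style.haveILetI false
set_option linter.unusedSectionVars false

open MulAction

namespace Cfsg.Agent.GStructB.CoprimeBase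

universe u

open OddBase (Pairing.exists_eq)

/-- The data on the quotient. -/
structure QuotData {K : Type u} [Field K] {A : Type u} [Group A] (V : Type u) [AddCommGroup V] [Module K V]
    [DistribMulAction A V] (M : Subgroup A) (hn : M.Normal) {Y : Type u} [CommGroup Y]
    (f : A →* MulAut Y) (ω : Y →* Y →* Kˣ) (π : M →* Y) : Prop where
  surj : Function.Surjective π
  one_iff : ∀ m : M, π m = 1 ↔ IsScal K V (m : A)
  equivariant : ∀ (a : A) (m : M), f a (π m) = π ⟨a * m * a⁻¹, hn.conj_mem _ m.2 a⟩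
  comm : ∀ (x y : M) (z : V), (x : A) • (y : A) • z = (ω (π x) (π y) : K) • (y : A) • (x : A) • z
  alt : ∀ y : Y, ω y y = 1
  nondeg : ∀ y : Y, (∀ z, ω y z = 1) → y = 1
  invariant : ∀ (a : A) (y z : Y), ω (f a y) (f a z) = 1 ↔ ω y z = 1
  iso : ∀ U : Subgroup Y, (∀ a : A, ∀ y ∈ U, f a y ∈ U) → (∀ y ∈ U, ∀ z ∈ U, ω y z = 1) → U = ⊥

variable {K : Type u} [Field K] {A : Type u} [Group A] [Finite A] {V : Type u} [AddCommGroup V]
  [Module K V] [DistribMulAction A V] [FaithfulSMul A V] [Nontrivial V] {M : Subgroup A}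

namespace Quasi

variable (hQ : Quasi K V M)
include hQ

/-- The quotient with its pairing. -/
theorem exists_quot : ∃ (Y : Type u) (_ : CommGroup Y) (_ : Finite Y) (f : A →* MulAut Y)
    (ω : Y →* Y →* Kˣ) (π : M →* Y), QuotData (K := K) V M hQ.normal f ω π := by
  classical
  haveI := hQ.normal
  obtain ⟨x₀, hx₀⟩ := exists_ne (0 : V)
  have hc0 : ∀ x y : M, ∃ c : Kˣ, ∀ z : V, (x : A) • (y : A) • z = (c : K) • (y : A) • (x : A) • z := by
    intro x y
    obtain ⟨c, hc, h⟩ := hQ.comm x x.2 y y.2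
    exact ⟨Units.mk0 c hc, h⟩
  choose cc hcc using hc0
  have huniq : ∀ (x y : M) (c : K), (∀ z : V, (x : A) • (y : A) • z = c • (y : A) • (x : A) • z) →
      c = cc x y := by
    intro x y c h
    have hne : (y : A) • (x : A) • x₀ ≠ 0 := by rwa [ne_eq, smul_eq_zero_iff_eq, smul_eq_zero_iff_eq]
    exact smul_left_injective K hne ((h x₀).symm.trans (hcc x y x₀))
  have hlin : ∀ (m : M) (k : K) (z : V), (m : A) • k • z = k • (m : A) • z := fun m => hQ.lin _ m.2
  have hccl : ∀ x x' y : M, cc (x * x') y = cc x y * cc x' y := by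
    intro x x' y
    refine Units.ext (huniq (x * x') y _ fun z => ?_).symm
    rw [Subgroup.coe_mul, mul_smul, hcc x' y, hlin x, hcc x y, Units.val_mul, smul_smul, mul_comm (cc x' y : K),
      mul_smul (x : A)]
  have hccr : ∀ x y y' : M, cc x (y * y') = cc x y * cc x y' := by
    intro x y y'
    refine Units.ext (huniq x (y * y') _ fun z => ?_).symm
    rw [Subgroup.coe_mul, mul_smul, hcc x y, hcc x y', hlin y, Units.val_mul, smul_smul, mul_smul (y : A)]
  have hscal1 : ∀ x y : M, IsScal K V (x : A) → cc x y = 1 := by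
    intro x y ⟨k, hk⟩
    refine Units.ext (huniq x y 1 fun z => ?_).symm
    rw [one_smul, hk, hk, hlin]
  have hswap : ∀ x y : M, cc y x = (cc x y)⁻¹ := by
    intro x y
    refine Units.ext (huniq y x _ fun z => ?_).symm
    rw [hcc x y z, Units.val_inv_eq_inv_val, inv_smul_smul₀ (Units.ne_zero _)]
  set Z : Subgroup M := (scalSub K V M).subgroupOf M with hZ
  have hZmem : ∀ m : M, m ∈ Z ↔ IsScal K V (m : A) := fun m => ⟨fun h => h.2, fun h => ⟨m.2, h⟩⟩
  haveI hZn : Z.Normal := ⟨fun z hz g => by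
    rw [hZmem] at hz ⊢
    obtain ⟨k, hk⟩ := hz
    exact ⟨k, fun v => by
      rw [Subgroup.coe_mul, Subgroup.coe_mul, mul_smul, mul_smul, hk, hlin, Subgroup.coe_inv, smul_inv_smul]⟩⟩
  letI : CommGroup (M ⧸ Z) :=
    { (inferInstance : Group (M ⧸ Z)) with
      mul_comm := fun a b => by
        induction a using QuotientGroup.induction_on with
        | _ a =>
        induction b using QuotientGroup.induction_on with
        | _ b =>
        rw [← QuotientGroup.mk_mul, ← QuotientGroup.mk_mul, QuotientGroup.eq, hZmem]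
        refine ⟨(cc b a : K)⁻¹⁻¹, fun z => ?_⟩
        rw [inv_inv, Subgroup.coe_mul, Subgroup.coe_inv, mul_smul, inv_smul_eq_iff, Subgroup.coe_mul,
          Subgroup.coe_mul, mul_smul (b : A), mul_smul (a : A), hlin, hlin, hcc b a] }
  let Ω : M →* M →* Kˣ :=
    { toFun := fun x =>
        { toFun := cc x
          map_one' := by rw [hswap 1 x, hscal1 1 x IsScal.one, inv_one]
          map_mul' := hccr x }
      map_one' := MonoidHom.ext fun y => hscal1 1 y IsScal.one
      map_mul' := fun x x' => MonoidHom.ext fun y => hccl x x' y }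
  let ω₁ : M →* (M ⧸ Z) →* Kˣ :=
    { toFun := fun x => QuotientGroup.lift Z (Ω x) (fun y hy => by
        rw [MonoidHom.mem_ker]
        show cc x y = 1
        rw [hswap y x, hscal1 y x ((hZmem y).mp hy), inv_one])
      map_one' := QuotientGroup.monoidHom_ext _ (MonoidHom.ext fun y => hscal1 1 y IsScal.one)
      map_mul' := fun a b => QuotientGroup.monoidHom_ext _ (MonoidHom.ext fun y => hccl a b y) }
  let ω : (M ⧸ Z) →* (M ⧸ Z) →* Kˣ := QuotientGroup.lift Z ω₁ (fun x hx => by
    rw [MonoidHom.mem_ker]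
    exact QuotientGroup.monoidHom_ext _ (MonoidHom.ext fun y => hscal1 x y ((hZmem x).mp hx)))
  have hconjZ : ∀ g : A, Z.map ((MulAut.conjNormal (H := M) g : MulAut M) : M →* M) = Z := by
    intro g
    have key : ∀ (g : A) (x : M), x ∈ Z → MulAut.conjNormal (H := M) g x ∈ Z := by
      intro g x hx
      rw [hZmem] at hx ⊢
      obtain ⟨k, hk⟩ := hx
      obtain ⟨σ, hσ⟩ := hQ.semi g
      exact ⟨σ k, fun v => by rw [MulAut.conjNormal_apply, mul_smul, mul_smul, hk, hσ, smul_inv_smul]⟩
    refine le_antisymm ?_ ?_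
    · rintro _ ⟨x, hx, rfl⟩
      exact key g x hx
    · intro x hx
      refine ⟨MulAut.conjNormal (H := M) g⁻¹ x, key g⁻¹ x hx, Subtype.ext ?_⟩
      show ((MulAut.conjNormal (H := M) g) (MulAut.conjNormal (H := M) g⁻¹ x) : A) = x
      rw [MulAut.conjNormal_apply, MulAut.conjNormal_apply]
      group
  let f : A →* MulAut (M ⧸ Z) :=
    { toFun := fun g => QuotientGroup.congr Z Z (MulAut.conjNormal (H := M) g) (hconjZ g)
      map_one' := MulEquiv.ext fun x => by
        induction x using QuotientGroup.induction_on with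
        | _ x => simp
      map_mul' := fun g h => MulEquiv.ext fun x => by
        induction x using QuotientGroup.induction_on with
        | _ x => simp }
  have hωmk : ∀ x y : M, ω x y = cc x y := fun x y => rfl
  refine ⟨M ⧸ Z, inferInstance, inferInstance, f, ω, QuotientGroup.mk' Z, QuotientGroup.mk'_surjective Z,
    fun m => (QuotientGroup.eq_one_iff m).trans (hZmem m), fun a m => ?_, fun x y z => hcc x y z,
    fun y => ?_, fun y => ?_, fun a y z => ?_, fun U hU hU1 => ?_⟩
  · show ((MulAut.conjNormal (H := M) a m : M) : M ⧸ Z) = _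
    congr 1
  · induction y using QuotientGroup.induction_on with
    | _ y =>
    rw [hωmk]
    refine Units.ext (huniq y y 1 fun z => ?_).symm
    rw [one_smul]
  · induction y using QuotientGroup.induction_on with
    | _ y =>
    intro h
    refine (QuotientGroup.eq_one_iff y).mpr ((hZmem y).mpr (hQ.cent y (hlin y) fun w hw z => ?_).2)
    have h' : cc y ⟨w, hw⟩ = 1 := (hωmk y ⟨w, hw⟩).symm.trans (h _)
    simpa [h'] using hcc y ⟨w, hw⟩ z
  · induction y using QuotientGroup.induction_on with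
    | _ y =>
    induction z using QuotientGroup.induction_on with
    | _ z =>
    show cc (MulAut.conjNormal (H := M) a y) (MulAut.conjNormal (H := M) a z) = 1 ↔ cc y z = 1
    obtain ⟨σ, hσ⟩ := hQ.semi a
    have key : cc (MulAut.conjNormal (H := M) a y) (MulAut.conjNormal (H := M) a z) =
        Units.map σ.toRingHom.toMonoidHom (cc y z) := by
      refine Units.ext (huniq _ _ _ fun v => ?_).symm
      simp only [MulAut.conjNormal_apply, mul_smul, inv_smul_smul]
      rw [hcc y z, hσ]
      rfl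
    rw [key]
    exact map_eq_one_iff _ (Units.map_injective σ.injective)
  · rw [eq_bot_iff]
    intro y hy
    induction y using QuotientGroup.induction_on with
    | _ y =>
    rw [Subgroup.mem_bot, QuotientGroup.eq_one_iff, hZmem]
    refine hQ.iso ((U.comap (QuotientGroup.mk' Z)).map M.subtype) ⟨?_⟩ (Subgroup.map_subtype_le _) ?_ y
      ⟨y, hy, rfl⟩
    · rintro _ ⟨x, hx, rfl⟩ g
      exact ⟨MulAut.conjNormal (H := M) g x, hU g _ hx, by simp⟩
    · rintro _ ⟨x, hx, rfl⟩ _ ⟨z, hz, rfl⟩
      have h : cc x z = 1 := (hωmk x z).symm.trans (hU1 _ hx _ hz)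
      refine eq_of_smul_eq_smul fun v : V => ?_
      simp only [Subgroup.coe_subtype, mul_smul]
      simpa [h] using hcc x z v

/-- Squares of `M` over five elements. -/
theorem sqCond [Finite K] : SqCond K V hQ.bigM := by
  intro h5
  haveI : Fintype K := Fintype.ofFinite K
  have hq : Fintype.card K = 5 := by rw [← Nat.card_eq_fintype_card, h5]
  obtain ⟨x₀, hx₀⟩ := exists_ne (0 : V)
  obtain ⟨Y, _, _, f, ω, π, hD⟩ := hQ.exists_quot
  have hscale : ∀ (k : K) (m : A), (∀ x : V, m • x = k • x) → k ≠ 0 := by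
    intro k m h hk
    have h' := h x₀
    rw [hk, zero_smul, smul_eq_zero_iff_eq] at h'
    exact hx₀ h'
  -- every square is scalar
  have hsq : ∀ m : M, IsScal K V ((m : A) ^ 2) := by
    intro m
    refine hQ.expo m.2 (s := 2) (hQ.cent _ (hQ.lin _ (M.pow_mem m.2 _)) fun y hy x => ?_).2
    have h := hD.comm (m ^ 4) ⟨y, hy⟩ x
    rw [map_pow, map_pow, MonoidHom.pow_apply, Units.val_pow_eq_pow_val,
      show (4 : ℕ) = Fintype.card K - 1 by omega, FiniteField.pow_card_sub_one_eq_one _ (Units.ne_zero _),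
      one_smul, hq] at h
    simpa using h
  choose κ hκ using hsq
  have hκ0 : ∀ m : M, κ m ≠ 0 := fun m => hscale _ _ (hκ m)
  have hκuniq : ∀ (m : M) (k : K), (∀ x : V, (m : A) ^ 2 • x = k • x) → k = κ m := fun m k h =>
    smul_left_injective K hx₀ ((h x₀).symm.trans (hκ m x₀))
  -- the character
  have hmul : ∀ m n : M, κ (m * n) ^ 2 = κ m ^ 2 * κ n ^ 2 := by
    intro m n
    set c : K := (ω (π n) (π m) : K) with hc
    have hc2 : c ^ 2 = 1 := by
      have h := hD.comm (n ^ 2) m x₀
      rw [map_pow, map_pow, MonoidHom.pow_apply, Units.val_pow_eq_pow_val, ← hc, Subgroup.coe_pow, hκ, hκ,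
        hQ.lin _ m.2] at h
      have hne : κ n • (m : A) • x₀ ≠ 0 := smul_ne_zero (hκ0 n) (by rwa [ne_eq, smul_eq_zero_iff_eq])
      have h' : (c ^ 2 - 1) • (κ n • (m : A) • x₀) = 0 := by rw [sub_smul, one_smul, ← h, sub_self]
      exact sub_eq_zero.mp ((smul_eq_zero.mp h').resolve_right hne)
    have hk : κ (m * n) = c * (κ m * κ n) := (hκuniq _ _ fun x => by
      rw [Subgroup.coe_mul, sq, mul_smul, mul_smul, mul_smul (m : A), hD.comm n m, hQ.lin _ m.2, ← hc,
        ← mul_smul (α := A) (m : A), ← sq, ← mul_smul (α := A) (n : A), ← sq, hκ, hκ, smul_smul,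
        smul_smul, mul_assoc]).symm
    rw [hk, mul_pow, hc2, one_mul, mul_pow]
  have hone : ∀ m : M, π m = 1 → κ m ^ 2 = 1 := by
    intro m hm
    obtain ⟨k, hk⟩ := (hD.one_iff m).mp hm
    rw [← hκuniq m (k * k) fun x => by rw [sq, mul_smul, hk, hk, smul_smul]]
    rw [show (k * k) ^ 2 = k ^ (Fintype.card K - 1) by rw [hq]; ring,
      FiniteField.pow_card_sub_one_eq_one _ (hscale _ _ hk)]
  let χ : M →* Kˣ :=
    { toFun := fun m => Units.mk0 (κ m ^ 2) (pow_ne_zero 2 (hκ0 m))
      map_one' := Units.ext (hone 1 (map_one π))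
      map_mul' := fun m n => Units.ext (hmul m n) }
  have hker : π.ker ≤ χ.ker := fun m hm => Units.ext (hone m hm)
  set χY : Y →* Kˣ := π.liftOfSurjective hD.surj ⟨χ, hker⟩ with hχY
  have hχ : ∀ m : M, χY (π m) = χ m := fun m => π.liftOfRightInverse_comp_apply _ _ ⟨χ, hker⟩ m
  obtain ⟨w, hw⟩ := OddBase.Pairing.exists_eq ω hD.nondeg χY
  have hfix : ∀ a : A, f a w = w := by
    intro a
    refine inv_mul_eq_one.mp (hD.nondeg _ fun z => ?_) |>.symm
    obtain ⟨m, rfl⟩ := hD.surj z
    obtain ⟨w', rfl⟩ := hD.surj w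
    -- the value at `f a w` is the conjugate of the value at `w`
    set n : M := ⟨a⁻¹ * m * a⁻¹⁻¹, hQ.normal.conj_mem _ m.2 a⁻¹⟩ with hn
    have hfn : π m = f a (π n) := by
      rw [hn, hD.equivariant]
      congr 1
      exact Subtype.ext (by simp [mul_assoc])
    have hval : (ω (π w') (π n) : K) = ω (π w') (π m) := by
      rw [hw, hχ, hχ]
      show κ n ^ 2 = κ m ^ 2
      obtain ⟨σ, hσ⟩ := hQ.semi a⁻¹
      have h2 : κ n = σ (κ m) := (hκuniq _ _ fun x => by
        rw [hn]
        show (a⁻¹ * (m : A) * a⁻¹⁻¹) ^ 2 • x = _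
        rw [conj_pow, mul_smul, mul_smul, hκ, hσ, smul_inv_smul]).symm
      have hσ1 : σ (κ m) = κ m := by
        haveI := Fact.mk (show Nat.Prime 5 by norm_num)
        haveI : CharP K 5 := charP_of_card_eq_prime hq
        have hbij : Function.Bijective (ZMod.castHom (dvd_refl 5) K) :=
          (Nat.bijective_iff_injective_and_card _).mpr ⟨RingHom.injective _, by rw [Nat.card_zmod, h5]⟩
        obtain ⟨b, hb⟩ := hbij.2 (κ m)
        rw [← hb]
        exact RingHom.congr_fun (RingHom.ext_zmod (σ.toRingHom.comp _) (ZMod.castHom (dvd_refl 5) K)) b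
      rw [h2, hσ1]
    rw [map_mul, map_inv, MonoidHom.mul_apply, MonoidHom.inv_apply, inv_mul_eq_one]
    rw [hfn]
    refine Units.ext ?_
    have hσv : (ω (f a (π w')) (f a (π n)) : K) = ω (π w') (π n) := by
      set w'' : M := ⟨a * (w' : A) * a⁻¹, hQ.normal.conj_mem _ w'.2 a⟩ with hw''
      set n'' : M := ⟨a * (n : A) * a⁻¹, hQ.normal.conj_mem _ n.2 a⟩ with hn''
      obtain ⟨σ, hσ⟩ := hQ.semi a
      have e2 := hD.comm w'' n'' (a • x₀)
      rw [← hD.equivariant, ← hD.equivariant, hw'', hn''] at e2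
      simp only [mul_smul, inv_smul_smul] at e2
      rw [hD.comm w' n, hσ] at e2
      have hne : a • (n : A) • (w' : A) • x₀ ≠ 0 := by
        rwa [ne_eq, smul_eq_zero_iff_eq, smul_eq_zero_iff_eq, smul_eq_zero_iff_eq]
      rw [← smul_left_injective K hne e2]
      haveI := Fact.mk (show Nat.Prime 5 by norm_num)
      haveI : CharP K 5 := charP_of_card_eq_prime hq
      have hbij : Function.Bijective (ZMod.castHom (dvd_refl 5) K) :=
        (Nat.bijective_iff_injective_and_card _).mpr ⟨RingHom.injective _, by rw [Nat.card_zmod, h5]⟩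
      obtain ⟨b, hb⟩ := hbij.2 (ω (π w') (π n) : K)
      rw [← hb]
      exact RingHom.congr_fun (RingHom.ext_zmod (σ.toRingHom.comp _) (ZMod.castHom (dvd_refl 5) K)) b
    rw [← hfn, ← hval, ← hσv, ← hfn]
  have hbot := hD.iso (Subgroup.zpowers w) (fun a y hy => by
    obtain ⟨j, rfl⟩ := hy
    exact ⟨j, by simp only [map_zpow, hfix a]⟩) (fun y hy z hz => by
    obtain ⟨i, rfl⟩ := hy
    obtain ⟨j, rfl⟩ := hz
    simp [map_zpow, hD.alt])
  rw [Subgroup.zpowers_eq_bot] at hbot
  rintro g ⟨m, hm, k, hg⟩ -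
  have hχ1 : κ ⟨m, hm⟩ ^ 2 = 1 := by
    have h := hχ ⟨m, hm⟩
    rw [← hw, hbot, map_one, MonoidHom.one_apply] at h
    exact (congrArg Units.val h).symm
  obtain ⟨r, hr⟩ : IsSquare (κ ⟨m, hm⟩) := by
    rw [FiniteField.isSquare_iff (by
      intro h2
      have h := FiniteField.even_card_iff_char_two.mp h2
      omega) (hκ0 _), hq]
    simpa using hχ1
  exact ⟨(k : K) * r, fun x => by
    rw [hQ.pow_bigM hm hg, hκ ⟨m, hm⟩, hr, smul_smul, mul_pow, sq r]⟩

end Quasi

end Cfsg.Agent.GStructB.CoprimeBase
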