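import Cfsg.Agent.GStructB.CoprimeBase.Classes

/-!
# The semiregular case

A semiregular `M` consists of scalars or of four classes; counting above one vector gives enough
pairs, given either pairs for the whole module or that only scalars centralize `M`.
-/

set_option autoImplicit false
set_option linter.style.haveILetI false
set_option linter.unusedSectionVars false

open MulAction

namespace Cfsg.Agent.GStructB.CoprimeBase

universe u v w

variable {K : Type u} [Field K] [Finite K] {G : Type v} [Group G] {V : Type w} [AddCommGroup V]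
  [Finite V] [Module K V] [DistribMulAction G V] {M A : Subgroup G}

theorem two_ne_zero_of_char {p : ℕ} [Fact p.Prime] [CharP K p] (hp : p ≠ 2) : (2 : K) ≠ 0 := by
  intro e
  apply hp
  have := (CharP.cast_eq_zero_iff K p 2).mp (by exact_mod_cast e)
  exact (Nat.prime_dvd_prime_iff_eq Fact.out Nat.prime_two).mp this

theorem three_le_card {p : ℕ} [Fact p.Prime] [CharP K p] (hp : p ≠ 2) : 3 ≤ Nat.card K := by
  have := three_mul_ringHom_le (K := K) hp
  have := ringHom_card_pos (K := K)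
  omega

/-- Two dimensions give a square. -/
theorem card_sq_le (hdim : 2 ≤ Module.finrank K V) : Nat.card K ^ 2 ≤ Nat.card V := by
  rw [Module.natCard_eq_pow_finrank (K := K) (V := V)]
  exact Nat.pow_le_pow_right Nat.card_pos hdim

theorem range_smul_ncard (v : V) : (Set.range fun k : K => k • v).ncard ≤ Nat.card K := by
  rw [← Nat.card_coe_set_eq]
  exact Nat.card_le_card_of_surjective (Set.rangeFactorization fun k : K => k • v) Set.rangeFactorization_surjective

/-- Only scalars, linear stabilizing elements trivial. -/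
theorem qq_scalar [Nontrivial V] {p : ℕ} [Fact p.Prime] [CharP K p] (hp : p ≠ 2) {c : ℕ} (hc : c ≤ 5)
    (hF : Frame K V M A) (hscal : ∀ z ∈ M, IsScal K V z) (hdim : 2 ≤ Module.finrank K V) {v : V}
    (hv : Free V M v)
    (htriv : ∀ a ∈ A, a • v = v → (∀ (k : K) (x : V), a • k • x = k • a • x) → ∀ x : V, a • x = x) :
    QQ V c M A := by
  haveI : Finite (K →+* K) := Finite.of_injective _ DFunLike.coe_injective
  have hL : (stabMaps V A v).ncard ≤ Nat.card (K →+* K) := by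
    rw [stabMaps_eq]
    refine maps_le (fun _ => True) hF.sig fun a ha b hb hav hbv _ _ e x => ?_
    have h := htriv _ (A.mul_mem (A.inv_mem hb) ha) (by rw [mul_smul, hav, inv_smul_eq_iff, hbv])
      (hF.lin_of_sig_eq e) x
    rwa [mul_smul, inv_smul_eq_iff] at h
  refine qq_of_fibre hv (Set.range fun k : K => k • v) ⟨0, zero_smul K v⟩ (fun z hz => ?_) hL
    (nontrivMaps_le v _ hL) (r := Nat.sqrt (Nat.card V)) (fun a ha hav hne => ?_) ?_
  · obtain ⟨k, hk⟩ := hscal z hz
    exact ⟨k, (hk v).symm⟩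
  · refine le_trans (Set.ncard_le_ncard (fun u hu => hu.1) (Set.toFinite _)) (Nat.le_sqrt'.mpr ?_)
    refine fix_sq_semilinear (hF.sig_spec a) ?_
    by_contra h
    push Not at h
    obtain ⟨x, hx⟩ := hne
    exact hx (htriv a ha hav (fun k y => by rw [hF.sig_spec, h]) x)
  · have hZ := range_smul_ncard (K := K) v
    have hf := three_mul_ringHom_le (K := K) hp
    have hf0 := ringHom_card_pos (K := K)
    have hq := three_le_card (K := K) hp
    have hN := card_sq_le (K := K) (V := V) hdim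
    have hR : Nat.card K ≤ Nat.sqrt (Nat.card V) := Nat.le_sqrt'.mpr hN
    have hR2 : Nat.sqrt (Nat.card V) ^ 2 ≤ Nat.card V := Nat.sqrt_le' _
    obtain ⟨f, hfe⟩ : ∃ f, Nat.card (K →+* K) = f + 1 := ⟨_, (Nat.succ_pred_eq_of_pos hf0).symm⟩
    rw [hfe] at hf ⊢
    have hc' : (c - 1) * (f + 1) ≤ 4 * (f + 1) := Nat.mul_le_mul_right _ (by omega)
    rw [Nat.add_sub_cancel]
    nlinarith

/-- Four classes in dimension at least four. -/
theorem qq_four [Nontrivial V] {p : ℕ} [Fact p.Prime] [CharP K p] (hp : p ≠ 2) {c : ℕ} (hc : c ≤ 5)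
    (hF : Frame K V M A) (hsr : Semireg V M) {m y : G} (hQ : Four K V M m y)
    (hdim : 2 ≤ Module.finrank K V) (hdim2 : Module.finrank K V ≠ 2) {v : V} (hv : Free V M v)
    (hL : (stabMaps V A v).ncard ≤ 6 * Nat.card (K →+* K))
    (hnc : ∀ a ∈ A, a • v = v → (∀ (k : K) (x : V), a • k • x = k • a • x) → (∃ x : V, a • x ≠ x) →
      ∃ z ∈ M, ∃ x : V, a • z • x ≠ z • a • x) :
    QQ V c M A := by
  haveI : Finite (K →+* K) := Finite.of_injective _ DFunLike.coe_injective
  let Z : Set V := insert 0 (Set.range fun p : Option (Fin 3) × Kˣ =>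
    (p.2 : K) • (p.1.elim v fun i => word m y i • v))
  refine qq_of_fibre hv Z (Set.mem_insert _ _) (fun z hz => ?_) hL
    (nontrivMaps_le v _ hL) (r := Nat.sqrt (Nat.card V)) (fun a ha hav hne => ?_) ?_
  · have hne' : ∀ (k : K) (w : V), z • v = k • w → k = 0 → False := fun k w e e0 => by
      rw [e0, zero_smul, smul_eq_zero_iff_eq] at e
      subst e
      obtain ⟨x, hx⟩ := exists_ne (0 : V)
      obtain ⟨n, hn, hnk⟩ := hF.scal (-1 : K) (neg_ne_zero.mpr one_ne_zero)
      have h := hv n hn (smul_zero n) x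
      rw [hnk, neg_one_smul] at h
      have h' : (2 : K) • x = 0 := by rw [two_smul]; exact (neg_eq_iff_add_eq_zero).mp h
      exact hx ((smul_eq_zero.mp h').resolve_left (two_ne_zero_of_char hp))
    rcases hQ.cover z hz with ⟨k, hk⟩ | ⟨k, i, hk⟩
    · exact Or.inr ⟨(none, Units.mk0 k fun e => hne' k v (hk v) e), (hk v).symm⟩
    · exact Or.inr ⟨(some i, Units.mk0 k fun e => hne' k _ (hk v) e), (hk v).symm⟩
  · refine le_trans (Set.ncard_le_ncard (fun u hu => hu.1) (Set.toFinite _)) (Nat.le_sqrt'.mpr ?_)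
    by_cases hσ : ∃ k : K, hF.sig a k ≠ k
    · exact fix_sq_semilinear (hF.sig_spec a) hσ
    push Not at hσ
    obtain ⟨z, hz, x, hzx⟩ := hnc a ha hav (fun k x => by rw [hF.sig_spec, hσ]) hne
    show {u : V | a • u = u}.ncard ^ 2 ≤ Nat.card V
    rw [sq, ← Nat.card_coe_set_eq, ← Nat.card_prod]
    refine Nat.card_le_card_of_injective
      (fun p : {u : V | a • u = u} × {u : V | a • u = u} => p.1.1 + z • p.2.1) ?_
    intro p q e
    simp only at e
    have e1 : z • (p.2.1 - q.2.1) = q.1.1 - p.1.1 := by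
      rw [smul_sub, sub_eq_sub_iff_add_eq_add, add_comm, e]
    have h2 : p.2.1 = q.2.1 := by
      by_contra h
      have hu : a • (p.2.1 - q.2.1) = p.2.1 - q.2.1 := by
        rw [smul_sub, show a • p.2.1 = p.2.1 from p.2.2, show a • q.2.1 = q.2.1 from q.2.2]
      have heq : (a * z * a⁻¹) • (p.2.1 - q.2.1) = z • (p.2.1 - q.2.1) := by
        rw [mul_smul, mul_smul, show a⁻¹ • (p.2.1 - q.2.1) = p.2.1 - q.2.1 by rw [inv_smul_eq_iff, hu], e1,
          smul_sub, show a • q.1.1 = q.1.1 from q.1.2, show a • p.1.1 = p.1.1 from p.1.2]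
      refine hzx ?_
      have h' := hsr.eq_of (hF.norm a ha z hz) hz (sub_ne_zero.mpr h) heq (a • x)
      rwa [mul_smul, mul_smul, inv_smul_smul] at h'
    rw [h2] at e
    exact Prod.ext (Subtype.ext (add_right_cancel e)) (Subtype.ext h2)
  · have hZ : Z.ncard ≤ 4 * (Nat.card K - 1) + 1 := by
      refine (Set.ncard_insert_le _ _).trans (Nat.add_le_add_right ?_ 1)
      rw [← Nat.card_coe_set_eq]
      refine (Nat.card_le_card_of_surjective _ Set.rangeFactorization_surjective).trans (le_of_eq ?_)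
      rw [Nat.card_prod, Nat.card_units, Nat.card_eq_fintype_card (α := Option (Fin 3))]
      simp
    have hf := three_mul_ringHom_le (K := K) hp
    have hf0 := ringHom_card_pos (K := K)
    have hq := three_le_card (K := K) hp
    have hn4 : 4 ≤ Module.finrank K V := by
      obtain ⟨t, ht⟩ := hQ.finrank_even hF (two_ne_zero_of_char hp)
      omega
    have hN : (Nat.card K ^ 2) ^ 2 ≤ Nat.card V := by
      rw [← pow_mul, Module.natCard_eq_pow_finrank (K := K) (V := V)]
      exact Nat.pow_le_pow_right Nat.card_pos hn4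
    have hR : Nat.card K ^ 2 ≤ Nat.sqrt (Nat.card V) := Nat.le_sqrt'.mpr hN
    have hR2 : Nat.sqrt (Nat.card V) ^ 2 ≤ Nat.card V := Nat.sqrt_le' _
    obtain ⟨f, hfe⟩ : ∃ f, 6 * Nat.card (K →+* K) = f + 1 :=
      ⟨_, (Nat.succ_pred_eq_of_pos (by omega)).symm⟩
    rw [hfe, Nat.add_sub_cancel]
    have hc' : (c - 1) * (f + 1) ≤ 4 * (f + 1) := Nat.mul_le_mul_right _ (by omega)
    have hf2 : f + 1 ≤ 2 * Nat.card K := by omega
    obtain ⟨q, hqe⟩ : ∃ q, Nat.card K = q + 1 := ⟨_, (Nat.succ_pred_eq_of_pos (by omega)).symm⟩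
    rw [hqe] at hZ hq hR hf2
    rw [Nat.add_sub_cancel] at hZ
    set R := Nat.sqrt (Nat.card V) with hRdef
    have h1 : R * (q + 1) ^ 2 ≤ R * R := Nat.mul_le_mul_left R hR
    have h4 : 4 ≤ q ^ 2 := by nlinarith
    have h5 : (q + 1) ^ 2 * 4 ≤ R * q ^ 2 := Nat.mul_le_mul hR h4
    nlinarith [Nat.mul_le_mul_right R hf2]

/-- Only scalars centralize `M`. -/
theorem qq_semireg_cent [Finite G] [Nontrivial V] {p : ℕ} [Fact p.Prime] [CharP K p] (hp : p ≠ 2)
    {c : ℕ} (hc : c ≤ 5) (hF : Frame K V M A) (hsr : Semireg V M) (hdim : 2 ≤ Module.finrank K V)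
    (hcase : (∀ z ∈ M, IsScal K V z) ∨ Module.finrank K V ≠ 2)
    (hcent : ∀ a ∈ A, (∀ (k : K) (x : V), a • k • x = k • a • x) → ∀ w ∈ M,
      (∀ z ∈ M, ∀ x : V, (a * w) • z • x = z • (a * w) • x) → IsScal K V (a * w)) :
    QQ V c M A := by
  have h2 := two_ne_zero_of_char (K := K) hp
  obtain ⟨v, hv0⟩ := exists_ne (0 : V)
  have htriv1 : ∀ a ∈ A, a • v = v → ∀ w ∈ M, IsScal K V (a * w) → ∀ x : V, a • x = x := by
    intro a ha hav w hw hs x
    obtain ⟨k, hk⟩ := hs
    obtain ⟨n, hn, hnk⟩ := hF.scal k (scal_ne_zero hk)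
    have hax : ∀ x : V, a • x = (n * w⁻¹) • x := fun x => by
      rw [mul_smul, hnk, ← hk, mul_smul, smul_inv_smul]
    rw [hax]
    exact hsr v hv0 _ (M.mul_mem hn (M.inv_mem hw)) (by rw [← hax, hav]) x
  by_cases hscal : ∀ z ∈ M, IsScal K V z
  · refine qq_scalar hp hc hF hscal hdim (hsr v hv0) fun a ha hav hlin =>
      htriv1 a ha hav 1 M.one_mem (hcent a ha hlin 1 M.one_mem fun z hz x => ?_)
    obtain ⟨k, hk⟩ := hscal z hz
    rw [hk, hk, mul_smul, mul_smul, one_smul, one_smul, hlin]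
  have hdim2 := hcase.resolve_left hscal
  push Not at hscal
  obtain ⟨m, hm, hns⟩ := hscal
  obtain ⟨⟨y, hQ⟩, -⟩ := hsr.four hF h2 hm hns
  refine qq_four hp hc hF hsr hQ hdim hdim2 (hsr v hv0)
    (hQ.stab_le_classes hF h2 fun a ha hav hlin hfix => ?_) fun a ha hav hlin hne => ?_
  · obtain ⟨w, hw, hcw⟩ := hQ.exists_twist hF h2 ha hlin hfix
    exact htriv1 a ha hav w hw (hcent a ha hlin w hw hcw)
  · by_contra h
    push Not at h
    obtain ⟨x, hx⟩ := hne
    refine hx (htriv1 a ha hav 1 M.one_mem (hcent a ha hlin 1 M.one_mem fun z hz y => ?_) x)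
    rw [mul_one]; exact h z hz y

/-- Pairs for the whole module. -/
theorem qq_semireg_good [Finite G] [Nontrivial V] {p : ℕ} [Fact p.Prime] [CharP K p] (hp : p ≠ 2)
    {c : ℕ} (hc : c ≤ 5) (hc0 : 0 < c) (hF : Frame K V M A) (hsr : Semireg V M)
    (hdim : 2 ≤ Module.finrank K V) (hcase : (∀ z ∈ M, IsScal K V z) ∨ Module.finrank K V ≠ 2)
    (hgood : Good c A V) : QQ V c M A := by
  have h2 := two_ne_zero_of_char (K := K) hp
  obtain ⟨f, hf1, hfs, hfi⟩ := hgood
  by_cases hall : ∀ i, (f i).2 ≠ 0 ∧ ∀ z ∈ M, z • (f i).1 ≠ (f i).2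
  · exact ⟨fun i => (f i).1, fun i => (f i).2, fun i => ⟨hsr _ (hf1 i), hall i⟩,
      fun i a ha e1 e2 => hfs i ⟨a, ha⟩ (Prod.ext e1 e2),
      fun i j a ha e1 e2 => hfi i j ⟨a, ha⟩ (Prod.ext e1 e2)⟩
  obtain ⟨v, hv0, z, hz, hkey⟩ : ∃ v : V, v ≠ 0 ∧ ∃ z ∈ M, ∀ a ∈ A, a • v = v →
      (∀ x : V, a • z • x = z • a • x) → ∀ x : V, a • x = x := by
    push Not at hall
    obtain ⟨i, hi⟩ := hall
    refine ⟨(f i).1, hf1 i, ?_⟩
    by_cases h : (f i).2 = 0
    · exact ⟨1, M.one_mem, fun a ha hav _ => hfs i ⟨a, ha⟩ (Prod.ext hav (by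
        show a • (f i).2 = (f i).2
        rw [h, smul_zero]))⟩
    · obtain ⟨z, hz, e⟩ := hi h
      exact ⟨z, hz, fun a ha hav hcomm => hfs i ⟨a, ha⟩ (Prod.ext hav (by
        show a • (f i).2 = (f i).2
        rw [← e, hcomm, hav]))⟩
  have hkey' : IsScal K V z → ∀ a ∈ A, a • v = v → (∀ (k : K) (x : V), a • k • x = k • a • x) →
      ∀ x : V, a • x = x := fun ⟨k, hk⟩ a ha hav hlin =>
    hkey a ha hav fun x => by rw [hk, hk, hlin]
  by_cases hscal : ∀ w ∈ M, IsScal K V w
  · exact qq_scalar hp hc hF hscal hdim (hsr v hv0) (hkey' (hscal z hz))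
  have hdim2 := hcase.resolve_left hscal
  push Not at hscal
  obtain ⟨m, hm, hns, hkm⟩ : ∃ m ∈ M, ¬ IsScal K V m ∧ ∀ a ∈ A, a • v = v →
      (∀ (k : K) (x : V), a • k • x = k • a • x) → (∀ x : V, a • m • x = m • a • x) →
      ∀ x : V, a • x = x := by
    by_cases hzs : IsScal K V z
    · obtain ⟨m, hm, hns⟩ := hscal
      exact ⟨m, hm, hns, fun a ha hav hlin _ => hkey' hzs a ha hav hlin⟩
    · exact ⟨z, hz, hzs, fun a ha hav _ hcomm => hkey a ha hav hcomm⟩
  obtain ⟨⟨y, hQ⟩, -⟩ := hsr.four hF h2 hm hns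
  refine qq_four hp hc hF hsr hQ hdim hdim2 (hsr v hv0) (hQ.stab_le_key hF h2 hkm)
    fun a ha hav hlin hne => ⟨m, hm, ?_⟩
  by_contra h
  push Not at h
  obtain ⟨x, hx⟩ := hne
  exact hx (hkm a ha hav hlin h x)

end Cfsg.Agent.GStructB.CoprimeBase
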