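import Cfsg.Agent.GStructB.CoprimeBase.Quasi
import Cfsg.Agent.GStructB.CoprimeBase.Greedy
import Cfsg.Agent.GStructB.CoprimeBase.Semireg

/-!
# Dimension one, and dimension two over a small prime field
-/

set_option autoImplicit false
set_option linter.style.haveILetI false
set_option linter.unusedSectionVars false

open MulAction

namespace Cfsg.Agent.GStructB.CoprimeBase

universe u v w

/-- Points in different classes of a small group, outside a small set. -/
theorem choose_inequiv {A : Type v} [Group A] [Finite A] {Z : Type w} [Finite Z] [MulAction A Z]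
    (S : Subgroup A) (P : Set Z) (c : ℕ) (hcount : (c - 1) * Nat.card S < P.ncard) :
    ∃ u : Fin c → Z, (∀ i, u i ∈ P) ∧ ∀ i j, ∀ a ∈ S, a • u i = u j → i = j := by
  classical
  suffices h : ∀ k ≤ c, ∃ u : Fin k → Z, (∀ i, u i ∈ P) ∧ ∀ i j, ∀ a ∈ S, a • u i = u j → i = j from
    h c le_rfl
  intro k
  induction k with
  | zero => exact fun _ => ⟨Fin.elim0, fun i => i.elim0, fun i => i.elim0⟩
  | succ k ih =>
    intro hk
    obtain ⟨u, hu, hu'⟩ := ih (by omega)
    let used : Set Z := Set.range fun q : Fin k × S => (q.2 : A) • u q.1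
    have hused : used.ncard ≤ k * Nat.card S := by
      rw [← Nat.card_coe_set_eq]
      refine (Nat.card_le_card_of_surjective _ Set.rangeFactorization_surjective).trans (le_of_eq ?_)
      rw [Nat.card_prod, Nat.card_eq_fintype_card (α := Fin k), Fintype.card_fin]
    have hlt : used.ncard < P.ncard :=
      lt_of_le_of_lt (hused.trans (Nat.mul_le_mul_right _ (by omega))) hcount
    obtain ⟨w, hw, hw'⟩ := Set.exists_mem_notMem_of_ncard_lt_ncard hlt
    have hne : ∀ (i : Fin k) (a : A), a ∈ S → a • u i ≠ w := fun i a ha e => hw' ⟨(i, ⟨a, ha⟩), e⟩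
    refine ⟨Fin.snoc u w, fun i => ?_, fun i j a ha => ?_⟩
    · refine Fin.lastCases ?_ (fun i => ?_) i
      · rw [Fin.snoc_last]; exact hw
      · rw [Fin.snoc_castSucc]; exact hu i
    · refine Fin.lastCases ?_ (fun i => ?_) i <;> refine Fin.lastCases ?_ (fun j => ?_) j
      · exact fun _ => rfl
      · rw [Fin.snoc_last, Fin.snoc_castSucc]
        intro e
        exact absurd (inv_smul_eq_iff.mpr e.symm) (hne j a⁻¹ (S.inv_mem ha))
      · rw [Fin.snoc_last, Fin.snoc_castSucc]
        exact fun e => absurd e (hne i a ha)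
      · rw [Fin.snoc_castSucc, Fin.snoc_castSucc]
        exact fun e => congrArg Fin.castSucc (hu' i j a ha e)

/-- Pairs above one vector. -/
theorem good_above {A : Type v} [Group A] [Finite A] {V : Type w} [AddCommGroup V] [Finite V]
    [DistribMulAction A V] {c : ℕ} {v : V} (hv : v ≠ 0) (bad : Set V)
    (hbad : ∀ u ∉ bad, ∀ a : A, a • v = v → a • u = u → ∀ x : V, a • x = x)
    (hcount : bad.ncard + (c - 1) * Nat.card (stabilizer A v) < Nat.card V) : Good c A V := by
  obtain ⟨u, hu, hu'⟩ := choose_inequiv (stabilizer A v) badᶜ c (by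
    have := Set.ncard_add_ncard_compl bad
    omega)
  exact ⟨fun i => (v, u i), fun _ => hv,
    fun i a ha => hbad _ (hu i) a (congrArg Prod.fst ha) (congrArg Prod.snd ha),
    fun i j a ha => hu' i j a (congrArg Prod.fst ha) (congrArg Prod.snd ha)⟩

/-- The count in dimension one. -/
theorem count_one {p : ℕ} (hp : p.Prime) (hp2 : p ≠ 2) {q f L R : ℕ} (hq : p ^ f ≤ q) (hf : 0 < f)
    (hL : L ≤ f) (hR : Nat.sqrt q = R) : (L - 1) * R + (cnum p - 1) * L < q := by
  have hp3 : 3 ≤ p := by have := hp.two_le; omega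
  have hpq : p ≤ q := le_trans (Nat.le_self_pow hf.ne' p) hq
  have hR2 : R * R ≤ q := by rw [← hR]; exact Nat.sqrt_le q
  have hc : cnum p ≤ 5 := by rcases cnum_cases p with h | h <;> omega
  have hc' : cnum p ≤ p := by
    rcases cnum_cases p with h | h
    · unfold cnum at h; split_ifs at h with h'
      · unfold cnum; rw [if_pos h']; omega
      · unfold cnum; rw [if_neg h']
        by_contra hlt
        interval_cases p <;> simp_all (config := {decide := true})
    · omega
  refine lt_of_le_of_lt (Nat.add_le_add (Nat.mul_le_mul_right R (Nat.sub_le_sub_right hL 1))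
    (Nat.mul_le_mul_left _ hL)) ?_
  rcases Nat.lt_or_ge f 3 with hf3 | hf3
  · interval_cases f
    · omega
    · have h9 : p * p ≤ q := by rw [← sq]; exact hq
      have hpR : p ≤ R := by rw [← hR]; exact Nat.le_sqrt.mpr h9
      rcases cnum_cases p with h | h
      · have : p ≠ 3 := fun e => by unfold cnum at h; simp [e] at h
        have h5 : 4 ≤ p := by omega
        rw [h]
        nlinarith
      · rw [h]
        nlinarith
  · have key : ∀ f : ℕ, 3 ≤ f → (2 * f - 1) * (2 * f - 1) ≤ 3 ^ f := by
      intro f hf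
      induction f, hf using Nat.le_induction with
      | base => norm_num
      | succ f hf ih =>
        obtain ⟨g, rfl⟩ : ∃ g, f = g + 3 := ⟨f - 3, by omega⟩
        rw [pow_succ]
        rw [show 2 * (g + 3) - 1 = 2 * g + 5 by omega] at ih
        rw [show 2 * (g + 3 + 1) - 1 = 2 * g + 7 by omega]
        nlinarith
    have h2f : 2 * f - 1 ≤ R := by
      rw [← hR]
      exact Nat.le_sqrt.mpr ((key f hf3).trans ((Nat.pow_le_pow_left hp3 f).trans hq))
    obtain ⟨g, rfl⟩ : ∃ g, f = g + 1 := ⟨f - 1, by omega⟩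
    rw [Nat.add_sub_cancel]
    have hg : 2 * g + 1 ≤ R := by omega
    have h4 : (cnum p - 1) * (g + 1) ≤ 4 * (g + 1) := Nat.mul_le_mul_right _ (by omega)
    have hR5 : 5 ≤ R := by omega
    nlinarith [Nat.mul_le_mul_right R hg, Nat.mul_le_mul_right R hR5]

variable {K : Type u} [Field K] [Finite K] {A : Type v} [Group A] [Finite A] {V : Type w}
  [AddCommGroup V] [Finite V] [Module K V] [DistribMulAction A V] [FaithfulSMul A V]

/-- Dimension one. -/
theorem good_dim_one {p : ℕ} [Fact p.Prime] [CharP K p] (hp : p ≠ 2)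
    (hsemi : ∀ a : A, ∃ σ : K →+* K, ∀ (k : K) (x : V), a • k • x = σ k • a • x)
    (h1 : Module.finrank K V = 1) : Good (cnum p) A V := by
  classical
  haveI : Module.Finite K V := Module.Finite.of_finite
  haveI : Finite (K →+* K) := Finite.of_injective _ DFunLike.coe_injective
  obtain ⟨v, hv, hspan⟩ := finrank_eq_one_iff'.mp h1
  choose σ hσ using hsemi
  have hid : ∀ a : A, a • v = v → σ a = RingHom.id K → a = 1 := fun a hav e =>
    eq_of_smul_eq_smul fun x : V => by
      obtain ⟨k, rfl⟩ := hspan x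
      rw [hσ, e, hav, one_smul, RingHom.id_apply]
  have hL : Nat.card (stabilizer A v) ≤ Nat.card (K →+* K) := by
    refine Nat.card_le_card_of_injective (fun a => σ (a : A)) fun a b e => Subtype.ext ?_
    refine eq_of_smul_eq_smul fun x : V => ?_
    obtain ⟨k, rfl⟩ := hspan x
    simp only at e
    rw [hσ, hσ, show (a : A) • v = v from a.2, show (b : A) • v = v from b.2, e]
  have hV : Nat.card V = Nat.card K := by
    rw [Module.natCard_eq_pow_finrank (K := K) (V := V), h1, pow_one]
  let T : Finset A := (Set.toFinite {a : A | a • v = v ∧ a ≠ 1}).toFinset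
  let bad : Finset V := T.biUnion fun a => (Set.toFinite {u : V | a • u = u}).toFinset
  have hT : T.card ≤ Nat.card (stabilizer A v) - 1 := by
    haveI : Fintype (stabilizer A v) := Fintype.ofFinite _
    rw [Nat.card_eq_fintype_card, ← Finset.card_univ,
      ← Finset.card_erase_of_mem (Finset.mem_univ (1 : stabilizer A v))]
    refine Finset.card_le_card_of_surjOn (fun a : stabilizer A v => (a : A)) ?_
    intro a ha
    obtain ⟨hav, ha1⟩ := (Set.Finite.mem_toFinset _).mp ha
    exact ⟨⟨a, hav⟩, Finset.mem_coe.mpr (Finset.mem_erase.mpr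
      ⟨fun e => ha1 (congrArg Subtype.val e), Finset.mem_univ _⟩), rfl⟩
  refine good_above hv (bad : Set V) (fun u hu a hav hau x => ?_) ?_
  · by_contra hx
    refine hu (Finset.mem_coe.mpr (Finset.mem_biUnion.mpr
      ⟨a, (Set.Finite.mem_toFinset _).mpr ⟨hav, fun e => hx (by rw [e, one_smul])⟩,
        (Set.Finite.mem_toFinset _).mpr hau⟩))
  · rw [Set.ncard_coe_finset, hV]
    refine lt_of_le_of_lt (Nat.add_le_add_right ((Finset.card_biUnion_le_card_mul _ _
      (Nat.sqrt (Nat.card K)) fun a ha => ?_).trans (Nat.mul_le_mul_right _ hT)) _) ?_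
    · obtain ⟨hav, ha1⟩ := (Set.Finite.mem_toFinset _).mp ha
      rw [← Set.ncard_eq_toFinset_card]
      refine Nat.le_sqrt'.mpr (hV ▸ fix_sq_semilinear (hσ a) ?_)
      by_contra h
      push Not at h
      exact ha1 (hid a hav (RingHom.ext h))
    · exact count_one Fact.out hp (pow_ringHom_le (K := K) p) (ringHom_card_pos (K := K)) hL rfl

/-- Dimension two over a field with three or five elements. -/
theorem good_dim_two {p : ℕ} [Fact p.Prime] (hK : Nat.card K = p) (hp : p = 3 ∨ p = 5)
    (hcop : (Nat.card A).Coprime p) (h2 : Module.finrank K V = 2) : Good (cnum p) A V := by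
  classical
  haveI := Fintype.ofFinite K
  haveI : CharP K p := charP_of_card_eq_prime (by rw [← Nat.card_eq_fintype_card, hK])
  haveI : Module.Finite K V := Module.Finite.of_finite
  have hbij : Function.Bijective (ZMod.castHom (dvd_refl p) K) :=
    (Nat.bijective_iff_injective_and_card _).mpr ⟨RingHom.injective _, by rw [Nat.card_zmod, hK]⟩
  have hlin : ∀ (a : A) (k : K) (x : V), a • k • x = k • a • x := by
    intro a k x
    obtain ⟨b, rfl⟩ := hbij.2 k
    rw [ZMod.castHom_apply, ← ZMod.natCast_zmod_val b, ZMod.cast_natCast (dvd_refl p), Nat.cast_smul_eq_nsmul,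
      Nat.cast_smul_eq_nsmul, smul_comm]
  let P : Set (V × V) := {z | z.1 ≠ 0 ∧ ∀ k : K, z.2 ≠ k • z.1}
  have hfree : ∀ z ∈ P, ∀ a : A, a • z = z → a = 1 := by
    intro z hz a ha
    have hli : LinearIndependent K ![z.1, z.2] := by
      rw [LinearIndependent.pair_iff]
      intro s t hst
      by_cases ht : t = 0
      · subst ht
        rw [zero_smul, add_zero, smul_eq_zero] at hst
        exact ⟨hst.resolve_right hz.1, rfl⟩
      · refine absurd ?_ (hz.2 (-(t⁻¹ * s)))
        have h : t⁻¹ • (s • z.1 + t • z.2) = 0 := by rw [hst, smul_zero]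
        rw [smul_add, smul_smul, smul_smul, inv_mul_cancel₀ ht, one_smul, add_eq_zero_iff_neg_eq] at h
        rw [← h, neg_smul]
    let b := basisOfLinearIndependentOfCardEqFinrank hli (by rw [Fintype.card_fin, h2])
    let L : V →ₗ[K] V :=
      { toFun := fun x => a • x
        map_add' := smul_add a
        map_smul' := fun k x => hlin a k x }
    have hL : L = LinearMap.id := b.ext fun i => by
      rw [coe_basisOfLinearIndependentOfCardEqFinrank]
      fin_cases i
      · exact congrArg Prod.fst ha
      · exact congrArg Prod.snd ha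
    exact eq_of_smul_eq_smul fun x : V => (LinearMap.congr_fun hL x).trans (one_smul A x).symm
  have hPmem : ∀ (a : A) (z : V × V), z ∈ P → a • z ∈ P := by
    intro a z hz
    refine ⟨fun h => hz.1 ((smul_eq_zero_iff_eq a).mp h), fun k h => hz.2 k (MulAction.injective a ?_)⟩
    show a • z.2 = a • k • z.1
    rw [hlin]; exact h
  let PA : SubMulAction A (V × V) := { carrier := P, smul_mem' := fun a z hz => hPmem a z hz }
  have hdvd : Nat.card A ∣ P.ncard := by
    have hfr : ∀ z : PA, stabilizer A z = ⊥ := fun z => (Subgroup.eq_bot_iff_forall _).mpr fun a ha =>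
      hfree z.1 z.2 a (congrArg Subtype.val ha)
    rw [← Nat.card_coe_set_eq]
    show Nat.card A ∣ Nat.card PA
    haveI : Fintype (orbitRel.Quotient A PA) := Fintype.ofFinite _
    rw [Nat.card_congr (MulAction.selfEquivSigmaOrbits A PA), Nat.card_sigma]
    refine Finset.dvd_sum fun o _ => ?_
    rw [Nat.card_congr (MulAction.orbitEquivQuotientStabilizer A o.out), ← Subgroup.index, hfr,
      Subgroup.index_bot]
  have hV : Nat.card V = p ^ 2 := by
    rw [Module.natCard_eq_pow_finrank (K := K) (V := V), h2, hK]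
  have hP : P.ncard = (p ^ 2 - 1) * (p ^ 2 - p) := by
    have e : P = ⋃ x ∈ ({0} : Set V)ᶜ, (fun y => (x, y)) '' (Set.range fun k : K => k • x)ᶜ := by
      ext ⟨x, y⟩
      simp only [P, Set.mem_setOf_eq, Set.mem_iUnion, Set.mem_image, Set.mem_compl_iff,
        Set.mem_singleton_iff, Set.mem_range, not_exists, Prod.mk.injEq]
      exact ⟨fun h => ⟨x, h.1, y, fun k e => h.2 k e.symm, rfl, rfl⟩,
        fun ⟨x', hx', y', hy', e1, e2⟩ => by subst e1 e2; exact ⟨hx', fun k e => hy' k e.symm⟩⟩
    have hcard : ∀ x ∈ ({0} : Set V)ᶜ,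
        ((fun y => (x, y)) '' (Set.range fun k : K => k • x)ᶜ).ncard = p ^ 2 - p := by
      intro x hx
      rw [Set.ncard_image_of_injective _ (fun y y' h => congrArg Prod.snd h), Set.ncard_compl, hV,
        Set.ncard_range_of_injective (smul_left_injective K hx), hK]
    rw [e, Set.Finite.ncard_biUnion (Set.toFinite _) (fun _ _ => Set.toFinite _) ?_,
      finsum_mem_congr rfl hcard, finsum_mem_eq_finite_toFinset_sum _ (Set.toFinite _), Finset.sum_const,
      smul_eq_mul, ← Set.ncard_eq_toFinset_card, Set.ncard_compl, hV, Set.ncard_singleton]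
    intro x _ x' _ hne
    rw [Function.onFun, Set.disjoint_left]
    rintro _ ⟨y, -, rfl⟩ ⟨y', -, e'⟩
    exact hne (congrArg Prod.fst e').symm
  have hle : p * Nat.card A ≤ P.ncard := by
    have hA0 : 0 < Nat.card A := Nat.card_pos
    obtain ⟨t, ht⟩ := hdvd
    have hpdvd : p ∣ P.ncard := hP ▸ Dvd.dvd.mul_left (Nat.dvd_sub (dvd_pow_self p two_ne_zero) dvd_rfl) _
    rw [ht] at hpdvd
    have hpt : p ∣ t := (Nat.Coprime.dvd_mul_left hcop.symm).mp hpdvd
    have ht0 : 0 < t := by
      rcases Nat.eq_zero_or_pos t with h | h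
      · exfalso
        rw [h, mul_zero, hP] at ht
        rcases hp with rfl | rfl <;> simp at ht
      · exact h
    rw [ht, mul_comm (Nat.card A)]
    exact Nat.mul_le_mul_right _ (Nat.le_of_dvd ht0 hpt)
  obtain ⟨u, hu, hu'⟩ := choose_inequiv (A := A) (⊤ : Subgroup A) P (cnum p) (by
    rw [Subgroup.card_top]
    refine lt_of_lt_of_le ?_ hle
    refine Nat.mul_lt_mul_of_pos_right ?_ Nat.card_pos
    rcases hp with rfl | rfl <;> simp [cnum])
  exact ⟨u, fun i => (hu i).1, fun i a ha x => by rw [hfree _ (hu i) a ha, one_smul],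
    fun i j a ha => hu' i j a (Subgroup.mem_top a) ha⟩

end Cfsg.Agent.GStructB.CoprimeBase
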