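import Cfsg.Agent.GStructB.CoprimeBase.Base
import Cfsg.Agent.GStructB.CoprimeBase.Quot
import Cfsg.Agent.GStructB.CoprimeBase.Image
import Cfsg.Agent.GStructB.CoprimeBase.Small

/-!
# The exceptional dimensions over three elements

The classes of `M` modulo scalars are the products of generators of a model. In dimension four this
rules out the plus type, and in dimension eight it bounds the stabilizer of a free vector.
-/

set_option autoImplicit false
set_option linter.style.haveILetI false
set_option linter.unusedSectionVars false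

open MulAction

namespace Cfsg.Agent.GStructB.CoprimeBase

universe u v w

section gprod

variable {G : Type v} [Group G] {γ : ℕ → G}

theorem gprod_congr {z z' : ℕ} : ∀ {bs : List ℕ}, (∀ b ∈ bs, z.testBit b = z'.testBit b) →
    gprod γ z bs = gprod γ z' bs
  | [], _ => rfl
  | b :: bs, h => by
    have ih := gprod_congr (bs := bs) fun c hc => h c (List.mem_cons_of_mem b hc)
    show (if z.testBit b then γ b * gprod γ z bs else gprod γ z bs) =
      if z'.testBit b then γ b * gprod γ z' bs else gprod γ z' bs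
    rw [ih, h b List.mem_cons_self]

theorem gprod_append (z : ℕ) (bs' : List ℕ) : ∀ bs : List ℕ,
    gprod γ z (bs ++ bs') = gprod γ z bs * gprod γ z bs'
  | [] => (one_mul _).symm
  | b :: bs => by
    show (if z.testBit b then γ b * gprod γ z (bs ++ bs') else gprod γ z (bs ++ bs')) =
      (if z.testBit b then γ b * gprod γ z bs else gprod γ z bs) * gprod γ z bs'
    rw [gprod_append z bs' bs]
    split_ifs
    · rw [mul_assoc]
    · rfl

theorem gprod_range_succ (z n : ℕ) : gprod γ z (List.range (n + 1)) =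
    gprod γ z (List.range n) * if z.testBit n then γ n else 1 := by
  rw [List.range_succ, gprod_append]
  congr 1
  show (if z.testBit n then γ n * 1 else 1) = _
  rw [mul_one]

theorem gprod_mod (z L : ℕ) : gprod γ (z % 2 ^ L) (List.range L) = gprod γ z (List.range L) := by
  refine gprod_congr fun b hb => ?_
  rw [Nat.testBit_mod_two_pow]
  simp [List.mem_range.mp hb]

end gprod

section sign

variable {K : Type u} [Field K] {G : Type v} [Group G] {V : Type w} [AddCommGroup V] [Module K V]
  [DistribMulAction G V] {M A : Subgroup G} {q n : ℕ} {gs : List Rows} {γ : ℕ → G} {e : ℕ → V}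

/-- The commutator of a product of generators with the partner of the bit `b`. -/
theorem Model.gprod_sign (hM : Model K V M q n gs γ e) {b c : ℕ} (hc : c < gs.length)
    (hbc : ∀ t < gs.length, (t ≠ c ∧ t / 2 = c / 2) ↔ t = b) (z : ℕ) :
    ∀ k ≤ gs.length, ∀ x : V, gprod γ z (List.range k) • γ c • x =
      (if z.testBit b = true ∧ b < k then (-1 : K) else 1) • γ c • gprod γ z (List.range k) • x := by
  intro k
  induction k with
  | zero => intro _ x; simp [gprod]
  | succ k ih =>
    intro hk x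
    have hkL : k < gs.length := by omega
    rw [gprod_range_succ, mul_smul, mul_smul]
    by_cases hz : z.testBit k = true
    · rw [if_pos hz, hM.pairs k hkL c hc]
      by_cases hkb : k = b
      · subst hkb
        rw [if_pos ((hbc k hkL).mpr rfl), if_pos ⟨hz, Nat.lt_succ_self k⟩, smul_neg, ih (by omega),
          if_neg (fun h => absurd h.2 (lt_irrefl k)), one_smul, neg_one_smul]
      · rw [if_neg (fun h => hkb ((hbc k hkL).mp h)), ih (by omega)]
        congr 1
        exact if_congr (and_congr_right fun _ => ⟨fun h => by omega, fun h => by omega⟩) rfl rfl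
    · rw [if_neg hz, one_smul, one_smul, ih (by omega)]
      congr 1
      refine if_congr (and_congr_right fun hb => ⟨fun h => by omega, fun h => ?_⟩) rfl rfl
      rcases Nat.lt_or_ge b k with h' | h'
      · exact h'
      · exact absurd (show b = k by omega) fun e => hz (e ▸ hb)

/-- Squares of products of generators can be read on the basis. -/
theorem Model.gprod_sq_iff (hM : Model K V M q n gs γ e) (hF : Frame K V M A) [CharP K q] {z : ℕ}
    (hz : z < 2 ^ gs.length) :
    (∀ x : V, gprod γ z (List.range gs.length) • gprod γ z (List.range gs.length) • x = x) ↔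
      ∀ i < n, wApp q gs z (wApp q gs z (unitL n i)) = unitL n i := by
  set P := gprod γ z (List.range gs.length) with hP
  have hPev : ∀ l, P • ev K n e l = ev K n e (wApp q gs z l) := fun l => by
    rw [wApp, ev_scale hM.q_zero, Nat.div_eq_of_lt hz, zero_add, Nat.cast_one, one_smul, hP,
      gprod_ev (fun b hb => hM.gen_ev hF hb) z _ fun b hb => List.mem_range.mp hb]
  have hlin : ∀ (k : K) (x : V), P • k • x = k • P • x :=
    hF.lin _ (gprod_mem M z _ fun b hb => hM.gen_mem b (List.mem_range.mp hb))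
  constructor
  · intro h i hi
    have hu := isVec_unitL (q := q) hM.q_two n i
    refine hM.inj _ _ (isVec_wApp hM.q_pos hM.rows z (isVec_wApp hM.q_pos hM.rows z hu)) hu ?_
    rw [← hPev, ← hPev, h]
  · intro h x
    obtain ⟨l, -, rfl⟩ := hM.span x
    rw [ev, Finset.smul_sum, Finset.smul_sum]
    refine Finset.sum_congr rfl fun i hi => ?_
    have hi' := Finset.mem_range.mp hi
    rw [hlin, hlin, ← ev_unitL (K := K) n e hi', hPev, hPev, h i hi']

end sign

/-- The fixed vectors of an element. -/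
def fixVec {A : Type v} [Group A] (V : Type w) [AddCommGroup V] [DistribMulAction A V] (a : A) :
    AddSubgroup V where
  carrier := {x | a • x = x}
  zero_mem' := smul_zero a
  add_mem' {x y} (hx : a • x = x) (hy : a • y = y) := by
    show a • (x + y) = x + y
    rw [smul_add, hx, hy]
  neg_mem' {x} (hx : a • x = x) := by
    show a • (-x) = -x
    rw [smul_neg, hx]

/-- An anticommuting partner bounds the fixed vectors. -/
theorem fixVec_sq_le {A : Type v} [Group A] {V : Type w} [AddCommGroup V] [Finite V] [DistribMulAction A V]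
    {g y : A} (hanti : ∀ x : V, g • y • x = -(y • g • x)) (h2 : ∀ x : V, x + x = 0 → x = 0) :
    Nat.card (fixVec V g) * Nat.card (fixVec V g) ≤ Nat.card V := by
  rw [← Nat.card_prod]
  refine Nat.card_le_card_of_injective (fun p : fixVec V g × fixVec V g => (p.1 : V) + y • (p.2 : V))
    fun p r e => ?_
  simp only at e
  have e' := congrArg (g • ·) e
  simp only [smul_add, hanti, show g • (p.1 : V) = p.1 from p.1.2, show g • (p.2 : V) = p.2 from p.2.2,
    show g • (r.1 : V) = r.1 from r.1.2, show g • (r.2 : V) = r.2 from r.2.2] at e'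
  have h1 : ((p.1 : V) - r.1) + ((p.1 : V) - r.1) = 0 := by
    calc ((p.1 : V) - r.1) + ((p.1 : V) - r.1)
        = ((p.1 : V) + y • (p.2 : V) - ((r.1 : V) + y • (r.2 : V))) +
          ((p.1 : V) + -(y • (p.2 : V)) - ((r.1 : V) + -(y • (r.2 : V)))) := by abel
      _ = 0 := by rw [e, e', sub_self, sub_self, add_zero]
  have h1' : (p.1 : V) = r.1 := sub_eq_zero.mp (h2 _ h1)
  rw [h1'] at e
  exact Prod.ext (Subtype.ext h1') (Subtype.ext (MulAction.injective y (add_left_cancel e)))

section quasi

variable {K : Type u} [Field K] [Finite K] {A : Type u} [Group A] [Finite A] {V : Type u} [AddCommGroup V]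
  [Finite V] [Module K V] [DistribMulAction A V] [FaithfulSMul A V] [Nontrivial V] {M : Subgroup A}

theorem sq_one_three (hK : Nat.card K = 3) {k : K} (hk : k ≠ 0) : k * k = 1 := by
  haveI := Fintype.ofFinite K
  have h := FiniteField.pow_card_sub_one_eq_one k hk
  rw [← Nat.card_eq_fintype_card, hK] at h
  rwa [← sq]

theorem smul_comm_three (hK : Nat.card K = 3) (a : A) (k : K) (x : V) : a • k • x = k • a • x := by
  haveI := card_eq_char Nat.prime_three hK
  obtain ⟨b, -, rfl⟩ := exists_natCast Nat.prime_three hK k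
  rw [Nat.cast_smul_eq_nsmul, Nat.cast_smul_eq_nsmul, smul_comm]

namespace Quasi

variable (hQ : Quasi K V M) {Y : Type u} [CommGroup Y] [Finite Y] {f : A →* MulAut Y} {ω : Y →* Y →* Kˣ}
  {π : M →* Y} (hD : QuotData V M hQ.normal f ω π)
include hQ

/-- Same class means proportional. -/
theorem scal_of_pi_eq (hD : QuotData V M hQ.normal f ω π) {m m' : M} (h : π m = π m') :
    ∃ l : K, l ≠ 0 ∧ ∀ x : V, (m : A) • x = l • (m' : A) • x := by
  have h1 : π (m'⁻¹ * m) = 1 := by rw [map_mul, map_inv, h, inv_mul_cancel]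
  obtain ⟨l, hl⟩ := (hD.one_iff _).mp h1
  refine ⟨l, scal_ne_zero hl, fun x => ?_⟩
  rw [← hQ.lin _ m'.2, ← hl, Subgroup.coe_mul, Subgroup.coe_inv, mul_smul, smul_inv_smul]

/-- The symplectic hypotheses over three elements. -/
theorem sympl (hK : Nat.card K = 3) (hs : Group.IsSolvable A) (hcop : (Nat.card A).Coprime 3)
    (hD : QuotData V M hQ.normal f ω π) : Sympl f ω where
  solvable := hs
  coprime := hcop
  sq y := hD.nondeg _ fun z => by
    rw [map_mul, MonoidHom.mul_apply]
    exact Units.ext (sq_one_three hK (Units.ne_zero _))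
  alt := hD.alt
  nondeg := hD.nondeg
  invariant := hD.invariant
  iso := hD.iso

/-- The classes are the products of generators. -/
theorem exists_classes (hK : Nat.card K = 3) (hD : QuotData V M hQ.normal f ω π) {n : ℕ} {gs : List Rows}
    {γ : ℕ → semiUnits K V} {e : ℕ → V} (hM : Model K V hQ.bigM 3 n gs γ e) (hL : 2 ∣ gs.length) :
    ∃ φ : Fin (2 ^ gs.length) → Y, Function.Bijective φ ∧ ∀ z : Fin (2 ^ gs.length), ∃ (m : M) (k : Kˣ),
      π m = φ z ∧ ∀ x : V, gprod γ z (List.range gs.length) • x = (k : K) • (m : A) • x := by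
  haveI : Finite (AddMonoid.End V) :=
    Finite.of_injective (fun f : AddMonoid.End V => (f : V → V)) DFunLike.coe_injective
  haveI := card_eq_char Nat.prime_three hK
  have hP : ∀ z : ℕ, gprod γ z (List.range gs.length) ∈ hQ.bigM := fun z =>
    gprod_mem hQ.bigM z _ fun b hb => hM.gen_mem b (List.mem_range.mp hb)
  choose m hm k hk using fun z : ℕ => hQ.mem_bigM.mp (hP z)
  refine ⟨fun z => π ⟨m z, hm z⟩, ⟨fun z w hzw => ?_, fun y => ?_⟩,
    fun z => ⟨⟨m z, hm z⟩, k z, rfl, hk z⟩⟩
  · obtain ⟨l, -, hl⟩ := hQ.scal_of_pi_eq hD hzw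
    have ha : ∀ x : V, gprod γ z (List.range gs.length) • x =
        ((k z : K) * l * (k w : K)⁻¹) • gprod γ w (List.range gs.length) • x := fun x => by
      rw [hk, hk, hl, smul_smul, smul_smul, mul_assoc ((k z : K) * l), inv_mul_cancel₀ (Units.ne_zero _),
        mul_one]
    refine Fin.ext (Nat.eq_of_testBit_eq fun b => ?_)
    rcases Nat.lt_or_ge b gs.length with hb | hb
    · obtain ⟨c, hc, hbc⟩ : ∃ c < gs.length, ∀ t < gs.length, (t ≠ c ∧ t / 2 = c / 2) ↔ t = b := by
        refine ⟨if b % 2 = 0 then b + 1 else b - 1, ?_, fun t _ => ?_⟩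
        · split_ifs <;> omega
        · split_ifs <;> omega
      obtain ⟨x₀, hx₀⟩ := exists_ne (0 : V)
      have hγl := hQ.frame.lin _ (hM.gen_mem c hc)
      have h1 := hM.gprod_sign hc hbc z gs.length le_rfl x₀
      have h2 := hM.gprod_sign hc hbc w gs.length le_rfl x₀
      rw [ha (γ c • x₀), h2, ha x₀, hγl, smul_comm] at h1
      have hne : ((k z : K) * l * (k w : K)⁻¹) • γ c • gprod γ w (List.range gs.length) • x₀ ≠ 0 := by
        rw [← hγl, ← ha]
        rwa [ne_eq, smul_eq_zero_iff_eq, smul_eq_zero_iff_eq]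
      have h3 := smul_left_injective K hne h1
      have h2K : (2 : K) ≠ 0 := by
        haveI : Fact (Nat.Prime 3) := ⟨Nat.prime_three⟩
        exact two_ne_zero_of_char (p := 3) (by norm_num)
      by_contra hne'
      simp only [hb, and_true] at h3
      cases hzb : (z : ℕ).testBit b <;> cases hwb : (w : ℕ).testBit b <;>
        simp [hzb, hwb] at h3 hne' <;> exact h2K (by first | linear_combination h3 | linear_combination -h3)
    · rw [Nat.testBit_eq_false_of_lt (lt_of_lt_of_le z.2 (Nat.pow_le_pow_right (by norm_num) hb)),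
        Nat.testBit_eq_false_of_lt (lt_of_lt_of_le w.2 (Nat.pow_le_pow_right (by norm_num) hb))]
  · obtain ⟨m', rfl⟩ := hD.surj y
    obtain ⟨z, hz, hzx⟩ := hM.cover' hQ.frame (hQ.toSemi_mem m'.2)
    refine ⟨⟨z % 2 ^ gs.length, Nat.mod_lt _ (by positivity)⟩, ?_⟩
    refine inv_mul_eq_one.mp ?_
    rw [← map_inv, ← map_mul, hD.one_iff]
    refine ⟨((z / 2 ^ gs.length + 1 : ℕ) : K) * (k (z % 2 ^ gs.length) : K), fun x => ?_⟩
    rw [Subgroup.coe_mul, Subgroup.coe_inv, mul_smul, inv_smul_eq_iff, ← hQ.toSemi_smul, hzx,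
      ← gprod_mod, hk, smul_smul, hQ.lin _ (hm _)]

/-- No plus type in dimension four. -/
theorem not_plus_four (hK : Nat.card K = 3) (hs : Group.IsSolvable A) (hcop : (Nat.card A).Coprime 3)
    {γ : ℕ → semiUnits K V} {e : ℕ → V} (hM : Model K V hQ.bigM 3 4 (liftRows 3 2 (plusTwo 3)) γ e) :
    False := by
  obtain ⟨Y, _, _, f, ω, π, hD⟩ := hQ.exists_quot
  haveI := card_eq_char Nat.prime_three hK
  obtain ⟨φ, hφ, hrep⟩ := hQ.exists_classes hK hD hM (by decide)
  let T : Finset (Fin (2 ^ (liftRows 3 2 (plusTwo 3)).length)) := Finset.univ.filter fun z =>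
    ((z : ℕ) != 0 && (List.range 4).all fun i =>
      wApp 3 (liftRows 3 2 (plusTwo 3)) z (wApp 3 (liftRows 3 2 (plusTwo 3)) z (unitL 4 i)) == unitL 4 i) = true
  have hT : ∀ z, z ∈ T ↔ (z : ℕ) ≠ 0 ∧ ∀ i < 4,
      wApp 3 (liftRows 3 2 (plusTwo 3)) z (wApp 3 (liftRows 3 2 (plusTwo 3)) z (unitL 4 i)) = unitL 4 i :=
    fun z => by simp [T, List.all_eq_true]
  have hcard : T.card = 9 := by decide +kernel
  have h16 : Nat.card Y = 16 := by rw [← Nat.card_eq_of_bijective φ hφ, Nat.card_fin]; rfl
  have hQsq : ∀ z, (∃ m : M, π m = φ z ∧ ∀ x : V, (m : A) • (m : A) • x = x) ↔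
      ∀ i < 4, wApp 3 (liftRows 3 2 (plusTwo 3)) z (wApp 3 (liftRows 3 2 (plusTwo 3)) z (unitL 4 i)) =
        unitL 4 i := by
    intro z
    rw [← hM.gprod_sq_iff hQ.frame z.2]
    obtain ⟨m₀, k, hm₀, hk⟩ := hrep z
    have h1 : ∀ x : V, gprod γ z (List.range (liftRows 3 2 (plusTwo 3)).length) • gprod γ z (List.range (liftRows 3 2 (plusTwo 3)).length) • x = (m₀ : A) • (m₀ : A) • x :=
      fun x => by
        rw [hk, hk, hQ.lin _ m₀.2, smul_smul, sq_one_three hK (Units.ne_zero k), one_smul]
    constructor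
    · rintro ⟨m, hm, hmx⟩ x
      obtain ⟨l, hl0, hl⟩ := hQ.scal_of_pi_eq hD (hm₀.trans hm.symm)
      rw [h1, hl, hl, hQ.lin _ m.2, hmx, smul_smul, sq_one_three hK hl0, one_smul]
    · exact fun h => ⟨m₀, hm₀, fun x => (h1 x).symm.trans (h x)⟩
  have hφ0 : ∀ z : Fin (2 ^ (liftRows 3 2 (plusTwo 3)).length), φ z = 1 ↔ (z : ℕ) = 0 := by
    have h0 : φ ⟨0, by positivity⟩ = 1 := by
      obtain ⟨m, k, hm, hk⟩ := hrep ⟨0, by positivity⟩
      rw [← hm, hD.one_iff]
      refine ⟨(k : K)⁻¹, fun x => ?_⟩
      have h := hk x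
      rw [show gprod γ ((⟨0, by positivity⟩ : Fin (2 ^ (liftRows 3 2 (plusTwo 3)).length)) : ℕ) (List.range (liftRows 3 2 (plusTwo 3)).length) = 1 by
        simp [gprod], one_smul] at h
      conv_rhs => rw [h]
      rw [smul_smul, inv_mul_cancel₀ (Units.ne_zero k), one_smul]
    intro z
    rw [← h0, hφ.1.eq_iff, Fin.ext_iff]
  have h5 := (hQ.sympl hK hs hcop hD).five_dvd h16 (φ '' (T : Set (Fin (2 ^ (liftRows 3 2 (plusTwo 3)).length)))) (fun a y hy => ?_) ?_
  · rw [Set.ncard_image_of_injective _ hφ.1, Set.ncard_coe_finset, hcard] at h5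
    norm_num at h5
  · obtain ⟨z, hz, rfl⟩ := hy
    obtain ⟨z', hz'⟩ := hφ.2 (f a (φ z))
    refine ⟨z', ?_, hz'⟩
    obtain ⟨hz0, hzsq⟩ := (hT z).mp hz
    refine (hT z').mpr ⟨fun h => ?_, (hQsq z').mp ?_⟩
    · exact hz0 ((hφ0 z).mp ((MulEquiv.map_eq_one_iff (f a)).mp (hz'.symm.trans ((hφ0 z').mpr h))))
    · obtain ⟨m, hm, hmx⟩ := (hQsq z).mpr hzsq
      refine ⟨⟨a * m * a⁻¹, hQ.normal.conj_mem _ m.2 a⟩, by rw [hz', ← hm, hD.equivariant], fun x => ?_⟩
      simp only [mul_smul, inv_smul_smul, hmx, smul_inv_smul]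
  · rintro ⟨z, hz, hz1⟩
    exact ((hT z).mp hz).1 ((hφ0 z).mp hz1)

/-- An element fixing a free vector and centralizing the classes is trivial. -/
theorem eq_one_of_trivial (hK : Nat.card K = 3) (hD : QuotData V M hQ.normal f ω π) {v : V}
    (hfree : Free V hQ.bigM v) {a : A} (hav : a • v = v) (hfa : f a = 1) : a = 1 := by
  obtain ⟨x₀, hx₀⟩ := exists_ne (0 : V)
  have hlin := smul_comm_three (A := A) (V := V) hK
  have hex : ∀ m : M, ∃ c : Kˣ, ∀ x : V, a • (m : A) • x = (c : K) • (m : A) • a • x := by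
    intro m
    obtain ⟨l, hl0, hl⟩ := hQ.scal_of_pi_eq hD (m := ⟨a * m * a⁻¹, hQ.normal.conj_mem _ m.2 a⟩) (m' := m)
      (by rw [← hD.equivariant, hfa]; rfl)
    refine ⟨Units.mk0 l hl0, fun x => ?_⟩
    have h := hl (a • x)
    simp only [mul_smul, inv_smul_smul] at h
    exact h
  choose c hc using hex
  have huniq : ∀ (m : M) (l : K), (∀ x : V, a • (m : A) • x = l • (m : A) • a • x) → l = c m := fun m l h =>
    smul_left_injective K (by rwa [ne_eq, smul_eq_zero_iff_eq, smul_eq_zero_iff_eq])
      ((h x₀).symm.trans (hc m x₀))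
  let χ : M →* Kˣ :=
    { toFun := c
      map_one' := Units.ext (huniq 1 1 fun x => by rw [OneMemClass.coe_one, one_smul, one_smul, one_smul]).symm
      map_mul' := fun m m' => Units.ext (huniq _ _ fun x => by
        rw [Subgroup.coe_mul, mul_smul, hc, hc, hQ.lin _ m.2, smul_smul, Units.val_mul,
          mul_smul (m : A) (m' : A)]).symm }
  have hker : π.ker ≤ χ.ker := fun m hm => by
    obtain ⟨l, hl⟩ := (hD.one_iff m).mp hm
    exact Units.ext (huniq m 1 fun x => by rw [one_smul, hl, hl, hlin]).symm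
  obtain ⟨w, hw⟩ := OddBase.Pairing.exists_eq ω hD.nondeg (π.liftOfSurjective hD.surj ⟨χ, hker⟩)
  obtain ⟨w', rfl⟩ := hD.surj w
  have hwc : ∀ (m : M) (x : V), (w' : A) • (m : A) • x = (c m : K) • (m : A) • (w' : A) • x := fun m x => by
    rw [hD.comm, hw, show π.liftOfSurjective hD.surj ⟨χ, hker⟩ (π m) = χ m from
      π.liftOfRightInverse_comp_apply _ _ ⟨χ, hker⟩ m]
    rfl
  obtain ⟨hgM, -⟩ := hQ.cent ((w' : A)⁻¹ * a) (fun k x => hlin _ k x) fun y hy x => by
    refine MulAction.injective (w' : A) ?_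
    show (w' : A) • ((w' : A)⁻¹ * a) • y • x = (w' : A) • y • ((w' : A)⁻¹ * a) • x
    rw [hwc ⟨y, hy⟩, mul_smul, smul_inv_smul, mul_smul, smul_inv_smul]
    exact hc ⟨y, hy⟩ x
  have haM : a ∈ M := by
    have := M.mul_mem w'.2 hgM
    rwa [mul_inv_cancel_left] at this
  have hall := hfree _ (hQ.toSemi_mem haM) (by rw [hQ.toSemi_smul]; exact hav)
  exact eq_of_smul_eq_smul fun x : V => by rw [← hQ.toSemi_smul, hall x, one_smul]

/-- Pairs in dimension eight. -/
theorem good_eight (hK : Nat.card K = 3) (hs : Group.IsSolvable A) (hcop : (Nat.card A).Coprime 3)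
    (h8 : Module.finrank K V = 8) {gs : List Rows} {γ : ℕ → semiUnits K V} {e : ℕ → V}
    (hM : Model K V hQ.bigM 3 8 gs γ e) (hL : gs.length = 6) {v : V} (hfree : Free V hQ.bigM v) :
    Good 3 A V := by
  classical
  haveI : Finite (AddMonoid.End V) :=
    Finite.of_injective (fun f : AddMonoid.End V => (f : V → V)) DFunLike.coe_injective
  haveI : Fact (Nat.Prime 3) := ⟨Nat.prime_three⟩
  haveI := card_eq_char Nat.prime_three hK
  have h2K : (2 : K) ≠ 0 := two_ne_zero_of_char (p := 3) (by norm_num)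
  have hv : v ≠ 0 := hQ.frame.ne_zero_of_free (k := (-1 : K)) (neg_ne_zero.mpr one_ne_zero)
    (fun h => h2K (by linear_combination -h)) hfree
  have hV : Nat.card V = 6561 := by rw [Module.natCard_eq_pow_finrank (K := K) (V := V), h8, hK]; norm_num
  obtain ⟨Y, _, _, f, ω, π, hD⟩ := hQ.exists_quot
  obtain ⟨φ, hφ, -⟩ := hQ.exists_classes hK hD hM (by omega)
  have h64 : Nat.card Y = 64 := by
    rw [← Nat.card_eq_of_bijective φ hφ, Nat.card_fin, hL]; norm_num
  have hY := hQ.sympl hK hs hcop hD
  have hS : Nat.card (stabilizer A v) ∣ 14 := by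
    haveI : Finite f.range := Finite.of_surjective f.rangeRestrict f.rangeRestrict_surjective
    refine (Subgroup.card_dvd_of_injective (f.rangeRestrict.comp (stabilizer A v).subtype) ?_).trans
      (hY.card_range_dvd h64)
    exact (injective_iff_map_eq_one _).mpr fun a ha =>
      Subtype.ext (hQ.eq_one_of_trivial hK hD hfree a.2 (congrArg Subtype.val ha))
  have hfix : ∀ a : A, a • v = v → a ≠ 1 → Nat.card (fixVec V a) ≤ 729 := by
    intro a hav ha1
    obtain ⟨m, hm⟩ : ∃ m : M, f a (π m) ≠ π m := by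
      by_contra h
      push Not at h
      exact ha1 (hQ.eq_one_of_trivial hK hD hfree hav (MulEquiv.ext fun y => by
        obtain ⟨m, rfl⟩ := hD.surj y
        exact h m))
    set w : M := m⁻¹ * ⟨a * m * a⁻¹, hQ.normal.conj_mem _ m.2 a⟩ with hw
    have hw1 : π w ≠ 1 := by
      rw [hw, map_mul, map_inv, ← hD.equivariant, ne_eq, inv_mul_eq_one]
      exact Ne.symm hm
    obtain ⟨y, hy⟩ : ∃ y : M, ω (π w) (π y) ≠ 1 := by
      by_contra h
      push Not at h
      exact hw1 (hD.nondeg _ fun z => by obtain ⟨y, rfl⟩ := hD.surj z; exact h y)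
    have hwle : Nat.card (fixVec V (w : A)) ≤ 81 := by
      have h := fixVec_sq_le (V := V) (g := (w : A)) (y := (y : A)) (fun x => by
        rw [hD.comm, (hY.sign _ _).resolve_left hy, Units.val_neg, Units.val_one, neg_one_smul])
        fun x hx => by
          rw [← two_smul K, smul_eq_zero] at hx
          exact hx.resolve_left h2K
      rw [hV] at h
      nlinarith
    let ψ : fixVec V a × fixVec V a →+ V :=
      (fixVec V a).subtype.coprod
        ((DistribSMul.toAddMonoidHom V (m : A)).comp (fixVec V a).subtype)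
    have hψ : ∀ p, ψ p = (p.1 : V) + (m : A) • (p.2 : V) := fun p => rfl
    have hk : Nat.card ψ.ker ≤ Nat.card (fixVec V (w : A)) := by
      refine Nat.card_le_card_of_injective (fun p => ⟨((p.1.2 : fixVec V a) : V), ?_⟩) fun p r e => ?_
      · have h0 : ((p.1.1 : fixVec V a) : V) + (m : A) • (p.1.2 : V) = 0 := (hψ _).symm.trans p.2
        have h1 := congrArg (a • ·) h0
        simp only [smul_add, smul_zero, show a • (p.1.1 : V) = p.1.1 from p.1.1.2] at h1
        show (w : A) • (p.1.2 : V) = p.1.2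
        rw [hw, Subgroup.coe_mul, Subgroup.coe_inv]
        show ((m : A)⁻¹ * (a * m * a⁻¹)) • (p.1.2 : V) = p.1.2
        rw [mul_smul, inv_smul_eq_iff, mul_smul, mul_smul,
          inv_smul_eq_iff.mpr (show (p.1.2 : V) = a • (p.1.2 : V) from p.1.2.2.symm)]
        exact add_left_cancel (h1.trans h0.symm)
      · have e2 : p.1.2 = r.1.2 := Subtype.ext (congrArg (fun t : fixVec V (w : A) => (t : V)) e :)
        have h0 : ((p.1.1 : fixVec V a) : V) + (m : A) • (p.1.2 : V) = 0 := (hψ _).symm.trans p.2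
        have h0' : ((r.1.1 : fixVec V a) : V) + (m : A) • (r.1.2 : V) = 0 := (hψ _).symm.trans r.2
        rw [e2, ← h0'] at h0
        exact Subtype.ext (Prod.ext (Subtype.ext (add_right_cancel h0)) e2)
    have hsq := ψ.ker.card_mul_index
    rw [AddSubgroup.index_ker, Nat.card_prod] at hsq
    have hrange : Nat.card ψ.range ≤ 6561 :=
      hV ▸ Nat.card_le_card_of_injective _ ψ.range.subtype_injective
    have := Nat.mul_le_mul (hk.trans hwle) hrange
    rw [hsq] at this
    nlinarith
  -- a set of elements reaching every fixed point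
  obtain ⟨T, hTcard, hT1, hTcov⟩ : ∃ T : Set (stabilizer A v), T.ncard ≤ 8 ∧ (∀ t ∈ T, t ≠ 1) ∧
      ∀ a : stabilizer A v, a ≠ 1 → ∃ t ∈ T, t ∈ Subgroup.zpowers a := by
    by_cases h14 : Nat.card (stabilizer A v) = 14
    · haveI : Fact (Nat.Prime 7) := ⟨by norm_num⟩
      obtain ⟨g, hg⟩ := exists_prime_orderOf_dvd_card' (G := stabilizer A v) 7 (by rw [h14]; norm_num)
      refine ⟨insert g ((Subgroup.zpowers g : Set (stabilizer A v))ᶜ), ?_, ?_, fun a ha => ?_⟩
      · refine (Set.ncard_insert_le _ _).trans ?_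
        have h7 : (Subgroup.zpowers g : Set (stabilizer A v)).ncard = 7 := by
          rw [← Nat.card_coe_set_eq]; exact (Nat.card_zpowers g).trans hg
        rw [Set.ncard_compl, h14, h7]
      · rintro t (rfl | ht) rfl
        · rw [orderOf_one] at hg; omega
        · exact ht (Subgroup.one_mem _)
      · by_cases hag : a ∈ Subgroup.zpowers g
        · refine ⟨g, Set.mem_insert g _, ?_⟩
          have hd := orderOf_dvd_of_mem_zpowers hag
          rw [hg] at hd
          have ha7 : orderOf a = 7 := (Nat.Prime.eq_one_or_self_of_dvd (by norm_num) _ hd).resolve_left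
            fun h => ha (orderOf_eq_one_iff.mp h)
          have := Subgroup.eq_of_le_of_card_ge (Subgroup.zpowers_le.mpr hag)
            (by rw [Nat.card_zpowers, Nat.card_zpowers, hg, ha7])
          rw [this]
          exact Subgroup.mem_zpowers g
        · exact ⟨a, Set.mem_insert_of_mem _ hag, Subgroup.mem_zpowers a⟩
    · refine ⟨{t | t ≠ 1}, ?_, fun t ht => ht, fun a ha => ⟨a, ha, Subgroup.mem_zpowers a⟩⟩
      refine (Set.ncard_le_ncard (Set.subset_univ _) (Set.toFinite _)).trans ?_
      rw [Set.ncard_univ]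
      have hle := Nat.le_of_dvd (by norm_num) hS
      obtain ⟨d, hd⟩ := hS
      have hd2 : 2 ≤ d := by
        rcases Nat.lt_or_ge d 2 with h | h
        · interval_cases d <;> omega
        · exact h
      nlinarith
  let bad : Finset V := (Set.toFinite T).toFinset.biUnion fun t =>
    (Set.toFinite (fixVec V (t : A) : Set V)).toFinset
  refine good_above hv (bad : Set V) (fun u hu a hav hau x => ?_) ?_
  · by_contra hx
    obtain ⟨t, ht, htz⟩ := hTcov ⟨a, hav⟩ fun h => hx (by
      rw [show a = 1 from congrArg Subtype.val h, one_smul])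
    refine hu (Finset.mem_coe.mpr (Finset.mem_biUnion.mpr ⟨t, (Set.Finite.mem_toFinset _).mpr ht,
      (Set.Finite.mem_toFinset _).mpr ?_⟩))
    have hle : Subgroup.zpowers (⟨a, hav⟩ : stabilizer A v) ≤
        (stabilizer A u).comap (stabilizer A v).subtype := Subgroup.zpowers_le.mpr hau
    exact hle htz
  · rw [Set.ncard_coe_finset, hV]
    have h8' : bad.card ≤ 8 * 729 := by
      refine (Finset.card_biUnion_le_card_mul _ _ 729 fun t ht => ?_).trans (Nat.mul_le_mul_right _ ?_)
      · rw [← Set.ncard_eq_toFinset_card, ← Nat.card_coe_set_eq]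
        exact hfix t t.2 fun h => hT1 t ((Set.Finite.mem_toFinset _).mp ht) (Subtype.ext h)
      · rwa [← Set.ncard_eq_toFinset_card]
    have hle := Nat.le_of_dvd (by norm_num) hS
    omega

end Quasi

end quasi

end Cfsg.Agent.GStructB.CoprimeBase
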