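import Cfsg.Agent.GStructB.CoprimeBase.Colour
import Cfsg.Agent.Lib.Hall.MinimalNormal
import Cfsg.Prelude.Def_Transfer

/-!
# Colourings for primitive solvable permutation groups
-/

set_option autoImplicit false
set_option linter.style.haveILetI false
set_option linter.unusedSectionVars false

open MulAction

namespace Cfsg.Agent.GStructB.CoprimeBase

universe u v

/-- A linear map of `𝔽₂³` coded by the numbers of the images of the coordinate vectors. -/
def app8 (L : ℕ × ℕ × ℕ) (x : ℕ) : ℕ :=
  (if x.testBit 0 then L.1 else 0) ^^^ (if x.testBit 1 then L.2.1 else 0) ^^^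
    (if x.testBit 2 then L.2.2 else 0)

/-- The product of two coded maps. -/
def comp8 (L M : ℕ × ℕ × ℕ) : ℕ × ℕ × ℕ := (app8 L M.1, app8 L M.2.1, app8 L M.2.2)

/-- Powers of a coded map. -/
def pow8 (L : ℕ × ℕ × ℕ) : ℕ → ℕ × ℕ × ℕ
  | 0 => (1, 2, 4)
  | n + 1 => comp8 L (pow8 L n)

/-- All coded maps. -/
def all8 : List (ℕ × ℕ × ℕ) :=
  (List.range 8).flatMap fun a => (List.range 8).flatMap fun b => (List.range 8).map fun c => (a, b, c)

theorem seven_involution : (all8.filter fun g => g != (1, 2, 4) && pow8 g 7 == (1, 2, 4)).all (fun g =>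
    (all8.filter fun h => h != (1, 2, 4) && pow8 h 2 == (1, 2, 4)).all fun h =>
      (List.range 7).any fun i => comp8 (pow8 g i) h != (1, 2, 4) &&
        pow8 (comp8 (pow8 g i) h) 3 == (1, 2, 4)) = true := by
  decide +kernel

/-- The number of a vector of `𝔽₂³`. -/
def enc8 (w : Fin 3 → ZMod 2) : ℕ := (w 0).val + 2 * (w 1).val + 4 * (w 2).val

/-- The code of a linear map. -/
def code8 (L : (Fin 3 → ZMod 2) →+ (Fin 3 → ZMod 2)) : ℕ × ℕ × ℕ :=
  (enc8 (L (unit 0)), enc8 (L (unit 1)), enc8 (L (unit 2)))

theorem enc8_app (L : (Fin 3 → ZMod 2) →+ (Fin 3 → ZMod 2)) (w : Fin 3 → ZMod 2) :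
    enc8 (L w) = app8 (code8 L) (enc8 w) := by
  have key : ∀ (z w A B C : Fin 3 → ZMod 2), z = w 0 • A + (w 1 • B + w 2 • C) →
      enc8 z = app8 (enc8 A, enc8 B, enc8 C) (enc8 w) := by
    intro z w A B C hz
    subst hz
    have hadd : ∀ x y : Fin 3 → ZMod 2, enc8 (x + y) = enc8 x ^^^ enc8 y := by decide +kernel
    have hbit : ∀ (w : Fin 3 → ZMod 2) (i : Fin 3),
        (enc8 w).testBit i = decide (w i = 1) := by decide +kernel
    have hsm : ∀ (i : Fin 3) (x : Fin 3 → ZMod 2),
        enc8 (w i • x) = if (enc8 w).testBit i then enc8 x else 0 := by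
      intro i x
      rw [hbit]
      rcases (show ∀ a : ZMod 2, a = 0 ∨ a = 1 by decide) (w i) with h | h <;> simp [h, enc8]
    rw [hadd, hadd, hsm, hsm, hsm, app8, Nat.xor_assoc]
    rfl
  refine key _ w _ _ _ ?_
  conv_lhs => rw [show w = w 0 • unit 0 + (w 1 • unit 1 + w 2 • unit 2) by
    funext i
    fin_cases i <;> simp [unit, Pi.single_apply]]
  rw [map_add, map_add, ZMod.map_smul L, ZMod.map_smul L, ZMod.map_smul L]

/-- A faithful irreducible-like linear `3'`-group on `𝔽₂³` is regular on nonzero vectors. -/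
theorem fix_trivial {H : Type u} [Group H] [Finite H] (ψ : H →* AddMonoid.End (Fin 3 → ZMod 2))
    (hψ : Function.Injective ψ) (h3 : ¬ 3 ∣ Nat.card H) (h7 : ∃ g : H, orderOf g = 7)
    (x : H) (hx : orderOf x = 2) : False := by
  obtain ⟨g, hg⟩ := h7
  have hcode : ∀ a b : H, code8 (ψ (a * b)) = comp8 (code8 (ψ a)) (code8 (ψ b)) := by
    intro a b
    simp only [code8, comp8, map_mul]
    exact Prod.ext (enc8_app (ψ a) _) (Prod.ext (enc8_app (ψ a) _) (enc8_app (ψ a) _))
  have hone : code8 (ψ 1) = (1, 2, 4) := by rw [map_one]; decide +kernel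
  have hinj : ∀ a : H, code8 (ψ a) = (1, 2, 4) → a = 1 := by
    intro a ha
    refine hψ ?_
    rw [map_one]
    refine AddMonoidHom.ext fun w => ?_
    have e := enc8_app (ψ a) w
    rw [ha, ← hone, ← enc8_app (ψ 1) w, map_one] at e
    exact (show ∀ x y : Fin 3 → ZMod 2, enc8 x = enc8 y → x = y by decide +kernel) _ _ e
  have hpow : ∀ (a : H) (n : ℕ), code8 (ψ (a ^ n)) = pow8 (code8 (ψ a)) n := by
    intro a n
    induction n with
    | zero => rw [pow_zero, hone]; rfl
    | succ n ih => rw [pow_succ', hcode, ih]; rfl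
  have hmem : ∀ L : (Fin 3 → ZMod 2) →+ (Fin 3 → ZMod 2), code8 L ∈ all8 := by
    intro L
    have hlt : ∀ w : Fin 3 → ZMod 2, enc8 w < 8 := by decide +kernel
    simp only [all8, List.mem_flatMap, List.mem_map, List.mem_range, code8]
    exact ⟨_, hlt _, _, hlt _, _, hlt _, rfl⟩
  have hne : ∀ a : H, orderOf a ≠ 1 → code8 (ψ a) ≠ (1, 2, 4) := fun a ha e =>
    ha (orderOf_eq_one_iff.mpr (hinj a e))
  have hc := seven_involution
  rw [List.all_eq_true] at hc
  have h1 := hc (code8 (ψ g)) (List.mem_filter.mpr ⟨hmem _, by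
    rw [← hpow, show g ^ 7 = 1 by rw [← hg, pow_orderOf_eq_one], hone]; simp [hne g (by omega)]⟩)
  rw [List.all_eq_true] at h1
  have h2 := h1 (code8 (ψ x)) (List.mem_filter.mpr ⟨hmem _, by
    rw [← hpow, show x ^ 2 = 1 by rw [← hx, pow_orderOf_eq_one], hone]; simp [hne x (by omega)]⟩)
  simp only [List.any_eq_true, Bool.and_eq_true, bne_iff_ne, beq_iff_eq] at h2
  obtain ⟨i, -, hi1, hi3⟩ := h2
  rw [← hpow, ← hcode] at hi1 hi3
  rw [← hpow] at hi3
  have h31 : (g ^ i * x) ^ 3 = 1 := hinj _ hi3
  have hno : g ^ i * x ≠ 1 := fun e => hi1 (by rw [e]; exact hone)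
  haveI := Fact.mk Nat.prime_three
  exact h3 (orderOf_eq_prime h31 hno ▸ orderOf_dvd_natCard _)

variable {A : Type u} [Group A] [Finite A] {Ω : Type v} [Finite Ω] [MulAction A Ω]

/-- Coordinates on an elementary abelian group. -/
theorem exists_coords {N : Type u} [CommGroup N] [Finite N] (s : ℕ) [Fact s.Prime]
    (h : ∀ x : N, x ^ s = 1) : ∃ a : ℕ, Nonempty (Additive N ≃+ (Fin a → ZMod s)) := by
  letI hM : Module (ZMod s) (Additive N) := AddCommGroup.zmodModule (n := s) (G := Additive N)
    fun x => congrArg Additive.ofMul (h x.toMul)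
  exact ⟨_, ⟨(Module.finBasis (ZMod s) (Additive N)).equivFun.toAddEquiv⟩⟩

/-- Colourings for a primitive solvable group. -/
theorem prim_cols_faithful [FaithfulSMul A Ω] [IsPretransitive A Ω] (hs : Group.IsSolvable A) {c : ℕ}
    (hc : c = 5 ∨ c = 3) (hp : c = 3 → ¬ 3 ∣ Nat.card A) (x₀ : Ω) (hΩ : 1 < Nat.card Ω)
    (hmax : IsCoatom (stabilizer A x₀)) : Cols c A Ω := by
  classical
  set H := stabilizer A x₀ with hH
  have hA1 : (⊤ : Subgroup A) ≠ ⊥ := fun e => by
    refine hmax.1 (top_le_iff.mp ?_)
    rw [e]; exact bot_le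
  obtain ⟨N, hNn, -, hN, hmin⟩ := Hall.exists_minimal_normal (⊤ : Subgroup A) hA1
  haveI := hNn
  haveI : Group.IsSolvable N := Group.isSolvable_of_isSolvable_injective N.subtype_injective
  obtain ⟨s, hsp, -, hsg, hNc, hNs⟩ := Hall.minimal_normal_isElementaryAbelian hN hmin
  haveI := Fact.mk hsp
  letI : CommGroup N := { (inferInstance : Group N) with mul_comm := fun u v => hNc.is_comm.comm u v }
  have hNH : ¬ N ≤ H := by
    intro hle
    apply hN
    rw [Subgroup.eq_bot_iff_forall]
    intro n hn
    refine eq_of_smul_eq_smul fun x : Ω => ?_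
    obtain ⟨g, rfl⟩ := exists_smul_eq A x₀ x
    have h := hle (hNn.conj_mem n hn g⁻¹)
    rw [hH, mem_stabilizer_iff, inv_inv, mul_smul, mul_smul, inv_smul_eq_iff] at h
    rw [h, one_smul]
  have hsup : H ⊔ N = ⊤ := hmax.2 _ (lt_of_le_of_ne le_sup_left fun e => hNH (e ▸ le_sup_right))
  have htr : ∀ x : Ω, ∃ m : N, (m : A) • x₀ = x := by
    intro x
    obtain ⟨g, rfl⟩ := exists_smul_eq A x₀ x
    have hg : g ∈ (N ⊔ H : Subgroup A) := by rw [sup_comm, hsup]; exact Subgroup.mem_top g
    rw [← SetLike.mem_coe, Subgroup.normal_mul] at hg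
    obtain ⟨n, hn, h, hh, rfl⟩ := hg
    exact ⟨⟨n, hn⟩, by rw [mul_smul, mem_stabilizer_iff.mp hh]⟩
  have hbij : Function.Bijective fun m : N => (m : A) • x₀ := by
    refine ⟨fun u v huv => ?_, htr⟩
    have hone : (v⁻¹ * u : N) = 1 := by
      refine Subtype.ext (eq_of_smul_eq_smul fun x : Ω => ?_)
      obtain ⟨w, rfl⟩ := htr x
      rw [OneMemClass.coe_one, one_smul, ← mul_smul, ← Subgroup.coe_mul, mul_comm, Subgroup.coe_mul,
        mul_smul]
      congr 1
      rw [Subgroup.coe_mul, mul_smul, InvMemClass.coe_inv, inv_smul_eq_iff]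
      exact huv
    exact (inv_mul_eq_one.mp hone).symm
  obtain ⟨a, ⟨b⟩⟩ := exists_coords (N := N) s fun x => Subtype.ext (hNs _ x.2)
  have hcardN : Nat.card N = s ^ a := by
    rw [Nat.card_congr (Additive.ofMul.trans b.toEquiv), Nat.card_pi]
    simp
  have hcardΩ : Nat.card Ω = s ^ a := (Nat.card_eq_of_bijective _ hbij).symm.trans hcardN
  have ha : 0 < a := Nat.pos_of_ne_zero fun h => by rw [hcardΩ, h, pow_zero] at hΩ; omega
  let e : Ω ≃ (Fin a → ZMod s) :=
    (Equiv.ofBijective _ hbij).symm.trans (Additive.ofMul.trans b.toEquiv)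
  have heN : ∀ m : N, e ((m : A) • x₀) = b (Additive.ofMul m) := fun m => by
    show b (Additive.ofMul ((Equiv.ofBijective _ hbij).symm ((m : A) • x₀))) = _
    rw [show ((m : A) • x₀) = Equiv.ofBijective _ hbij m from rfl, Equiv.symm_apply_apply]
  let Lh : A → (Fin a → ZMod s) →+ (Fin a → ZMod s) := fun h =>
    (b.toAddMonoidHom.comp (MonoidHom.toAdditive (MulAut.conjNormal (H := N) h).toMonoidHom)).comp
      b.symm.toAddMonoidHom
  have hLh : ∀ (h : A) (m : N), Lh h (b (Additive.ofMul m)) =
      b (Additive.ofMul (MulAut.conjNormal h m)) := fun h m => by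
    show b (Additive.ofMul (MulAut.conjNormal h (b.symm (b (Additive.ofMul m))).toMul)) = _
    rw [AddEquiv.symm_apply_apply, toMul_ofMul]
  have hLinj : ∀ h : A, Function.Injective (Lh h) := fun h x y hxy =>
    b.symm.injective (Additive.toMul.injective ((MulAut.conjNormal h).injective
      (Additive.ofMul.injective (b.injective hxy))))
  have hact : ∀ (h : A), h ∈ H → ∀ m : N, h • (m : A) • x₀ = ((MulAut.conjNormal h m : N) : A) • x₀ := by
    intro h hh m
    rw [MulAut.conjNormal_apply, mul_smul, mul_smul, inv_smul_eq_iff.mpr (mem_stabilizer_iff.mp hh).symm]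
  have haff : Affine A e := by
    intro g
    obtain ⟨m, hm⟩ := htr (g • x₀)
    have hh : (m : A)⁻¹ * g ∈ H := by
      rw [hH, mem_stabilizer_iff, mul_smul, inv_smul_eq_iff]; exact hm.symm
    refine ⟨Lh ((m : A)⁻¹ * g), b (Additive.ofMul m), hLinj _, fun x => ?_⟩
    obtain ⟨u, rfl⟩ := htr x
    have h1 : g • (u : A) • x₀ = ((m * MulAut.conjNormal ((m : A)⁻¹ * g) u : N) : A) • x₀ := by
      rw [Subgroup.coe_mul, mul_smul, ← hact _ hh, mul_smul, smul_inv_smul]
    rw [h1, heN, heN, hLh, ofMul_mul, map_add, add_comm]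
  refine colourings hc (fun h3 e3 => hp h3 ?_) ha e haff (fun h3 h22 => ?_) (fun h3 hs2 ha3 => ?_)
  · subst e3
    exact (dvd_pow_self 3 ha.ne').trans (hcardN ▸ N.card_subgroup_dvd_card)
  · obtain ⟨rfl, ha2⟩ := h22
    have h4 : Nat.card Ω = 4 := by rw [hcardΩ, ha2]; norm_num
    have hdvd : Nat.card A ∣ 24 := by
      have := Subgroup.card_dvd_of_injective (MulAction.toPermHom A Ω) MulAction.toPerm_injective
      rw [Nat.card_perm, h4] at this
      exact this
    obtain ⟨j, -, hj⟩ := (Nat.dvd_prime_pow Nat.prime_two).mp (show Nat.card A ∣ 2 ^ 3 from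
      ((Nat.prime_three.coprime_iff_not_dvd.mpr (hp h3)).symm).dvd_of_dvd_mul_left
        (show Nat.card A ∣ 3 * 2 ^ 3 by norm_num; exact hdvd))
    haveI : Group.IsNilpotent A := (IsPGroup.of_card hj).isNilpotent
    haveI hHn : H.Normal := Subgroup.NormalizerCondition.normal_of_coatom H normalizerCondition_of_isNilpotent hmax
    have hHb : H = ⊥ := by
      rw [Subgroup.eq_bot_iff_forall]
      intro n hn
      refine eq_of_smul_eq_smul fun x : Ω => ?_
      obtain ⟨g, rfl⟩ := exists_smul_eq A x₀ x
      have h := hHn.conj_mem n hn g⁻¹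
      rw [hH, mem_stabilizer_iff, inv_inv, mul_smul, mul_smul, inv_smul_eq_iff] at h
      rw [h, one_smul]
    have hA4 : Nat.card A = 4 := by
      have := index_stabilizer_of_transitive A x₀
      rw [← hH, hHb, Subgroup.index_bot, h4] at this
      exact this
    obtain ⟨y, hy⟩ := exists_prime_orderOf_dvd_card' (G := A) 2 (by rw [hA4]; norm_num)
    have hlt : H < Subgroup.zpowers y := by
      rw [hHb, bot_lt_iff_ne_bot, ne_eq, Subgroup.zpowers_eq_bot]
      intro e1; rw [e1, orderOf_one] at hy; omega
    have := congrArg (fun K : Subgroup A => Nat.card K) (hmax.2 _ hlt)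
    simp only [Nat.card_zpowers, hy, Subgroup.card_top, hA4] at this
    omega
  · subst hs2
    have hmaxb : IsCoatom H := hmax
    have h8 : Nat.card Ω = 8 := by rw [hcardΩ, ha3]; norm_num
    -- the linear representation of the stabilizer
    let ψ : H →* AddMonoid.End (Fin a → ZMod 2) :=
      { toFun := fun h => Lh h
        map_one' := AddMonoidHom.ext fun w => by
          obtain ⟨m, rfl⟩ := b.surjective w
          show Lh (1 : A) (b (Additive.ofMul m.toMul)) = _
          rw [hLh, map_one]; rfl
        map_mul' := fun h k => AddMonoidHom.ext fun w => by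
          obtain ⟨m, rfl⟩ := b.surjective w
          show Lh ((h : A) * k) (b (Additive.ofMul m.toMul)) = Lh h (Lh k (b (Additive.ofMul m.toMul)))
          rw [hLh, hLh, hLh, map_mul]; rfl }
    have hψe : ∀ (h : H) (x : Ω), ψ h (e x) = e ((h : A) • x) := by
      intro h x
      obtain ⟨m, rfl⟩ := htr x
      show Lh h _ = _
      rw [hact h h.2, heN, heN, hLh]
    have hψ : Function.Injective ψ := fun h k hk => Subtype.ext (eq_of_smul_eq_smul fun x : Ω =>
      e.injective (by rw [← hψe, ← hψe, hk]))
    have h3H : ¬ 3 ∣ Nat.card H := fun h => hp h3 (h.trans H.card_subgroup_dvd_card)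
    have h7 : ∃ g : H, orderOf g = 7 := by
      haveI : Fact (Nat.Prime 7) := ⟨by norm_num⟩
      refine exists_prime_orderOf_dvd_card' 7 ?_
      by_contra hn7
      have hH2 : IsPGroup 2 H := by
        obtain ⟨ι, hι⟩ : ∃ ι : H →* Equiv.Perm Ω, Function.Injective ι :=
          ⟨(MulAction.toPermHom A Ω).comp H.subtype, MulAction.toPerm_injective.comp H.subtype_injective⟩
        have h := Subgroup.card_dvd_of_injective ι hι
        rw [Nat.card_perm, h8] at h
        have h5 : ¬ 5 ∣ Nat.card H := by
          intro h5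
          haveI := Fact.mk Nat.prime_five
          obtain ⟨g, hg⟩ := exists_prime_orderOf_dvd_card' (G := H) 5 h5
          have hZ : IsPGroup 5 (Subgroup.zpowers g) :=
            IsPGroup.of_card (n := 1) (by rw [Nat.card_zpowers, hg, pow_one])
          -- fixed points form a subgroup of order congruent to eight modulo five
          let F : AddSubgroup (Fin a → ZMod 2) :=
            { carrier := {w | ψ g w = w}
              zero_mem' := map_zero (ψ g)
              add_mem' := fun {x y} (hx : _ = x) (hy : _ = y) => by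
                show ψ g (x + y) = x + y
                rw [map_add, hx, hy]
              neg_mem' := fun {x} (hx : _ = x) => by
                show ψ g (-x) = -x
                rw [map_neg, hx] }
          have hmod := hZ.card_modEq_card_fixedPoints Ω
          have hfix : Nat.card (fixedPoints (Subgroup.zpowers g) Ω) = Nat.card F :=
            Nat.card_congr (Equiv.subtypeEquiv e fun x => by
              constructor
              · intro hx
                show ψ g (e x) = e x
                rw [hψe]
                exact congrArg e (hx ⟨g, Subgroup.mem_zpowers g⟩)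
              · intro hx
                rintro ⟨y, hy⟩
                have hgx : g • x = x := e.injective ((hψe g x).symm.trans hx)
                exact (Subgroup.zpowers_le (H := stabilizer H x)).mpr hgx hy)
          rw [hfix, h8] at hmod
          obtain ⟨j, hj, hj'⟩ := (Nat.dvd_prime_pow Nat.prime_two).mp (show Nat.card F ∣ 2 ^ 3 by
            refine (AddSubgroup.card_addSubgroup_dvd_card F).trans ?_
            simp [Nat.card_pi, ha3])
          rw [hj'] at hmod
          interval_cases j <;> simp [Nat.ModEq] at hmod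
          have htop : F = ⊤ := AddSubgroup.eq_top_of_card_eq _ (hj'.trans (by simp [Nat.card_pi, ha3]))
          have : g = 1 := hψ (by
            rw [map_one]
            exact AddMonoidHom.ext fun w => (show w ∈ F by rw [htop]; exact AddSubgroup.mem_top w))
          rw [this, orderOf_one] at hg
          omega
        have hd : Nat.card H ∣ 2 ^ 7 * (9 * (5 * 7)) := by
          refine h.trans ?_
          norm_num [Nat.factorial]
        have c3 : (Nat.card H).Coprime 9 :=
          Nat.Coprime.pow_right 2 ((Nat.prime_three.coprime_iff_not_dvd.mpr h3H).symm)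
        have c35 : (Nat.card H).Coprime (5 * 7) :=
          Nat.Coprime.mul_right ((Nat.prime_five.coprime_iff_not_dvd.mpr h5).symm)
            (((by norm_num : Nat.Prime 7).coprime_iff_not_dvd.mpr hn7).symm)
        obtain ⟨j, -, hj⟩ := (Nat.dvd_prime_pow Nat.prime_two).mp
          ((Nat.Coprime.mul_right c3 c35).dvd_of_dvd_mul_right hd)
        exact IsPGroup.of_card hj
      obtain ⟨x, hx, hxne⟩ := hH2.exists_fixed_point_of_prime_dvd_card_of_fixed_point Ω
        (by rw [h8]; norm_num) (a := x₀) (fun h => h.2)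
      -- a normal subgroup of order two
      obtain ⟨u, hu⟩ := htr x
      have hu1 : u ≠ 1 := fun e1 => hxne (by rw [← hu, e1, OneMemClass.coe_one, one_smul])
      have hcomm : ∀ g : A, MulAut.conjNormal g u = u := by
        intro g
        have hg : g ∈ (N ⊔ H : Subgroup A) := by rw [sup_comm, hsup]; exact Subgroup.mem_top g
        rw [← SetLike.mem_coe, Subgroup.normal_mul] at hg
        obtain ⟨n, hn, h, hh, rfl⟩ := hg
        have e1 : MulAut.conjNormal h u = u := hbij.1 (by
          show ((MulAut.conjNormal h u : N) : A) • x₀ = _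
          rw [← hact h hh, hu]
          have hfx : h • x = x := hx ⟨h, hh⟩
          rw [hfx]
          exact hu.symm)
        rw [map_mul, MulAut.mul_apply, e1]
        refine Subtype.ext ?_
        rw [MulAut.conjNormal_apply, show n * (u : A) = u * n from
          congrArg Subtype.val (mul_comm (⟨n, hn⟩ : N) u), mul_inv_cancel_right]
      have hn : (Subgroup.zpowers (u : A)).Normal := by
        refine ⟨fun y hy g => ?_⟩
        obtain ⟨i, rfl⟩ := Subgroup.mem_zpowers_iff.mp hy
        rw [← conj_zpow, ← MulAut.conjNormal_apply, hcomm]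
        exact zpow_mem (Subgroup.mem_zpowers _) i
      rcases hmin _ hn (Subgroup.zpowers_le.mpr u.2) with h | h
      · exact hu1 (Subtype.ext (Subgroup.zpowers_eq_bot.mp h))
      · have h2 := congrArg (fun K : Subgroup A => Nat.card K) h
        simp only [Nat.card_zpowers] at h2
        rw [hcardN, ha3] at h2
        have := orderOf_dvd_of_pow_eq_one (hNs _ u.2)
        rw [h2] at this
        exact absurd (Nat.le_of_dvd (by norm_num) this) (by norm_num)
    intro g x y hxy hgx hgy
    obtain ⟨k, hk⟩ := exists_smul_eq A x x₀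
    set g' : A := k * g * k⁻¹ with hg'
    have hg'H : g' ∈ H := by
      rw [hH, mem_stabilizer_iff, hg', mul_smul, mul_smul, ← hk, inv_smul_smul, hgx]
    suffices hone : g' = 1 by
      intro z
      rw [hg', conj_eq_one_iff] at hone
      rw [hone, one_smul]
    by_contra hne
    have hne' : orderOf (⟨g', hg'H⟩ : H) ≠ 1 := fun e1 =>
      hne (congrArg Subtype.val (orderOf_eq_one_iff.mp e1))
    obtain ⟨r, hr, hrd⟩ := Nat.exists_prime_and_dvd hne'
    set z := (⟨g', hg'H⟩ : H) ^ (orderOf (⟨g', hg'H⟩ : H) / r) with hz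
    have hzr : orderOf z = r := orderOf_pow_orderOf_div (orderOf_pos _).ne' hrd
    have hgy' : g' • k • y = k • y := by rw [hg', mul_smul, mul_smul, inv_smul_smul, hgy]
    have hzy : (z : A) • k • y = k • y := by
      rw [hz, SubgroupClass.coe_pow]
      exact (stabilizer A (k • y)).pow_mem hgy' _
    have hky : k • y ≠ x₀ := fun e1 => hxy (MulAction.injective k (hk.trans e1.symm))
    by_cases hr2 : r = 2
    · subst hr2
      subst ha3
      exact fix_trivial ψ hψ h3H h7 z hzr
    · haveI := Fact.mk hr
      have hZ : IsPGroup r (Subgroup.zpowers z) :=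
        IsPGroup.of_card (n := 1) (by rw [Nat.card_zpowers, hzr, pow_one])
      let F : AddSubgroup (Fin a → ZMod 2) :=
        { carrier := {w | ψ z w = w}
          zero_mem' := map_zero (ψ z)
          add_mem' := fun {x y} (hx : _ = x) (hy : _ = y) => by
            show ψ z (x + y) = x + y
            rw [map_add, hx, hy]
          neg_mem' := fun {x} (hx : _ = x) => by
            show ψ z (-x) = -x
            rw [map_neg, hx] }
      have hmod := hZ.card_modEq_card_fixedPoints Ω
      have hfix : Nat.card (fixedPoints (Subgroup.zpowers z) Ω) = Nat.card F :=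
        Nat.card_congr (Equiv.subtypeEquiv e fun x => by
          constructor
          · intro hx
            show ψ z (e x) = e x
            rw [hψe]
            exact congrArg e (hx ⟨z, Subgroup.mem_zpowers z⟩)
          · intro hx
            rintro ⟨w, hw⟩
            have hgx : z • x = x := e.injective ((hψe z x).symm.trans hx)
            exact (Subgroup.zpowers_le (H := stabilizer H x)).mpr hgx hw)
      rw [hfix, h8] at hmod
      obtain ⟨j, hj, hj'⟩ := (Nat.dvd_prime_pow Nat.prime_two).mp (show Nat.card F ∣ 2 ^ 3 by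
        refine (AddSubgroup.card_addSubgroup_dvd_card F).trans ?_
        simp [Nat.card_pi, ha3])
      have hFtop : F ≠ ⊤ := fun htop => by
        have : z = 1 := hψ (by
          rw [map_one]
          exact AddMonoidHom.ext fun w => (show w ∈ F by rw [htop]; exact AddSubgroup.mem_top w))
        rw [this, orderOf_one] at hzr
        exact hr.ne_one hzr.symm
      have hF2 : 1 < Nat.card F := by
        haveI : Nontrivial F := ⟨⟨⟨e (k • y), by
          show ψ z _ = _
          rw [hψe, hzy]⟩, 0, fun e1 => hky (e.injective ?_)⟩⟩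
        · exact Finite.one_lt_card
        · have e0 : e x₀ = 0 := by
            have := heN 1
            rw [OneMemClass.coe_one, one_smul, ofMul_one, map_zero] at this
            exact this
          rw [e0]
          exact congrArg Subtype.val e1
      have hj3 : j ≠ 3 := fun e1 => hFtop (AddSubgroup.eq_top_of_card_eq _ (by
        rw [hj', e1]; simp [Nat.card_pi, ha3]))
      rw [hj'] at hmod hF2
      have hr3 : r ≠ 3 := fun e1 => h3H (e1 ▸ hzr ▸ orderOf_dvd_natCard z)
      have hr5 : 5 ≤ r := by
        rcases (show r = 4 ∨ r < 2 ∨ r = 2 ∨ r = 3 ∨ 5 ≤ r by omega) with rfl | h | h | h | h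
        · norm_num at hr
        all_goals have := hr.two_le; omega
      have hle : 2 ^ j ≤ 4 := (Nat.pow_le_pow_right (by norm_num) (show j ≤ 2 by omega)).trans (by norm_num)
      have hd := (Nat.modEq_iff_dvd' (by omega)).mp hmod.symm
      have := Nat.le_of_dvd (by omega) hd
      rcases (show j = 1 ∨ j = 2 by
        rcases Nat.eq_zero_or_pos j with rfl | h
        · simp at hF2
        · omega) with rfl | rfl
      · have hr5' : r = 5 ∨ r = 6 := by omega
        rcases hr5' with rfl | rfl
        · norm_num at hd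
        · norm_num at hr
      · omega

/-- Colourings for a primitive action that need not be faithful. -/
theorem prim_cols [IsPretransitive A Ω] (hs : Group.IsSolvable A) {c : ℕ} (hc : c = 5 ∨ c = 3)
    (hp : c = 3 → ¬ 3 ∣ Nat.card A) (x₀ : Ω) (hΩ : 1 < Nat.card Ω)
    (hmax : IsCoatom (stabilizer A x₀)) : Cols c A Ω := by
  let f := MulAction.toPermHom A Ω
  haveI : Finite f.range := Finite.of_surjective f.rangeRestrict f.rangeRestrict_surjective
  haveI : Group.IsSolvable f.range := by
    haveI := hs
    exact Group.isSolvable_of_surjective f.rangeRestrict_surjective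
  have hfa : ∀ (a : A) (x : Ω), f.rangeRestrict a • x = a • x := fun a x => rfl
  haveI : IsPretransitive f.range Ω := ⟨fun x y => by
    obtain ⟨a, rfl⟩ := exists_smul_eq A x y
    exact ⟨f.rangeRestrict a, rfl⟩⟩
  have hst : stabilizer A x₀ = (stabilizer f.range x₀).comap f.rangeRestrict := rfl
  have hmax' : IsCoatom (stabilizer f.range x₀) := by
    refine ⟨fun e => hmax.1 (by rw [hst, e, Subgroup.comap_top]), fun L hL => ?_⟩
    have h := hmax.2 (L.comap f.rangeRestrict) (by
      rw [hst]
      exact (Subgroup.comap_lt_comap_of_surjective f.rangeRestrict_surjective).mpr hL)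
    exact Subgroup.comap_injective f.rangeRestrict_surjective (h.trans (Subgroup.comap_top _).symm)
  obtain ⟨col, h1, h2⟩ := prim_cols_faithful (A := f.range) inferInstance hc
    (fun h hd => hp h (hd.trans (Subgroup.card_range_dvd f))) x₀ hΩ hmax'
  exact ⟨col, fun i g hg => h1 i (f.rangeRestrict g) hg, fun i j g hg => h2 i j (f.rangeRestrict g) hg⟩

end Cfsg.Agent.GStructB.CoprimeBase
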