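import Cfsg.Agent.GStructB.CoprimeBase.Basic
import Cfsg.Agent.GStructB.CoprimeBase.Prim

/-!
# The imprimitive step

A system of imprimitivity with blocks of largest size has primitive action on the blocks, so the
colourings of a primitive solvable group glue pairs of a block to pairs of the whole module.
-/

set_option autoImplicit false
set_option linter.style.haveILetI false
set_option linter.unusedSectionVars false

open MulAction

namespace Cfsg.Agent.GStructB.CoprimeBase

universe u v w

open scoped Pointwise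
open OddBase (ComplRed Irred subAction fixedSub mem_fixedSub)

/-- A system of imprimitivity: a subgroup whose translates are independent and not all equal. -/
def Imprimitive (A : Type v) (V : Type w) [Group A] [AddCommGroup V] [DistribMulAction A V] : Prop :=
  ∃ T : AddSubgroup V, T ≠ ⊥ ∧ (iSupIndep fun U : MulAction.orbit A T => (U : AddSubgroup V)) ∧
    ∃ a : A, a • T ≠ T

section

variable {A : Type v} [Group A] [Finite A] {V : Type w} [AddCommGroup V] [Finite V]
  [DistribMulAction A V]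

/-- A largest block has maximal stabilizer. -/
theorem coatom_of_max (T : AddSubgroup V) (hT : T ≠ ⊥)
    (hind : iSupIndep fun U : MulAction.orbit A T => (U : AddSubgroup V)) (hmove : ∃ a : A, a • T ≠ T)
    (hmax : ∀ T' : AddSubgroup V, T' ≠ ⊥ →
      (iSupIndep fun U : MulAction.orbit A T' => (U : AddSubgroup V)) → (∃ a : A, a • T' ≠ T') →
      Nat.card T' ≤ Nat.card T) : IsCoatom (stabilizer A T) := by
  classical
  set H := stabilizer A T with hH
  refine ⟨fun e => ?_, fun L hL => ?_⟩
  · obtain ⟨a, ha⟩ := hmove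
    exact ha (e ▸ Subgroup.mem_top a : a ∈ H)
  by_contra hLtop
  set Q := MulAction.orbit A T
  haveI : WellFoundedGT (AddSubgroup V) := Finite.to_wellFoundedGT
  haveI : IsCompactlyGenerated (AddSubgroup V) := CompleteLattice.isCompactlyGenerated_of_wellFoundedGT
  -- the blocks met by a coset of `L`
  let S : A → Set Q := fun a => {U : Q | ∃ l ∈ L, (a * l) • T = (U : AddSubgroup V)}
  let J : A → AddSubgroup V := fun a => ⨆ U ∈ S a, (U : AddSubgroup V)
  have hSdisj : ∀ a b : A, a⁻¹ * b ∉ L → Disjoint (S a) (S b) := by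
    intro a b hab
    rw [Set.disjoint_left]
    rintro U ⟨l, hl, e⟩ ⟨l', hl', e'⟩
    apply hab
    have h : (a * l)⁻¹ * (b * l') ∈ H := by
      rw [hH, mem_stabilizer_iff, mul_smul, e', ← e, inv_smul_smul]
    have h2 := L.mul_mem (L.mul_mem hl (hL.le h)) (L.inv_mem hl')
    rwa [show l * ((a * l)⁻¹ * (b * l')) * l'⁻¹ = a⁻¹ * b by group] at h2
  have hJsmul : ∀ g a : A, g • J a = J (g * a) := by
    have hle : ∀ g a : A, g • J a ≤ J (g * a) := by
      intro g a
      rw [AddSubgroup.pointwise_smul_le_iff]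
      refine iSup₂_le fun U hU => ?_
      obtain ⟨l, hl, e⟩ := hU
      rw [← AddSubgroup.pointwise_smul_le_iff]
      refine le_iSup₂_of_le (g • U) ⟨l, hl, ?_⟩ le_rfl
      show (g * a * l) • T = g • (U : AddSubgroup V)
      rw [← e, mul_assoc, mul_smul]
    intro g a
    refine le_antisymm (hle g a) ?_
    have h := hle g⁻¹ (g * a)
    rw [inv_mul_cancel_left, AddSubgroup.pointwise_smul_le_iff, inv_inv] at h
    exact h
  have hTJ : ∀ l ∈ L, l • T ≤ J 1 := fun l hl =>
    le_iSup₂_of_le (⟨l • T, l, rfl⟩ : Q) ⟨l, hl, by rw [one_mul]⟩ le_rfl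
  have hJL : ∀ l ∈ L, J l = J 1 := by
    intro l hl
    show ⨆ U ∈ S l, (U : AddSubgroup V) = ⨆ U ∈ S 1, (U : AddSubgroup V)
    rw [show S l = S 1 from Set.ext fun U => ⟨fun ⟨l', hl', e⟩ => ⟨l * l', L.mul_mem hl hl', by
        rwa [one_mul]⟩, fun ⟨l', hl', e⟩ => ⟨l⁻¹ * l', L.mul_mem (L.inv_mem hl) hl', by
        rwa [mul_inv_cancel_left, ← one_mul l']⟩⟩]
  have hJdisj : ∀ a b : A, a⁻¹ * b ∉ L → Disjoint (J a) (J b) := fun a b h =>
    hind.disjoint_biSup_biSup (hSdisj a b h)
  have hT1 : T ≤ J 1 := by simpa using hTJ 1 L.one_mem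
  have hJ0 : J 1 ≠ ⊥ := fun e => hT (eq_bot_iff.mpr (hT1.trans e.le))
  have hind' : iSupIndep fun U : MulAction.orbit A (J 1) => (U : AddSubgroup V) := by
    intro U
    obtain ⟨a, ha⟩ := mem_orbit_iff.mp U.2
    rw [hJsmul, mul_one] at ha
    show Disjoint (U : AddSubgroup V) _
    rw [← ha]
    refine Disjoint.mono_right ?_ (hind.disjoint_biSup_biSup (disjoint_compl_right (a := S a)))
    refine iSup₂_le fun W hW => ?_
    obtain ⟨b, hb⟩ := mem_orbit_iff.mp W.2
    rw [hJsmul, mul_one] at hb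
    show (W : AddSubgroup V) ≤ _
    rw [← hb]
    refine iSup₂_le fun X hX => le_iSup₂_of_le X ?_ le_rfl
    have hab : a⁻¹ * b ∉ L := by
      intro h
      refine hW (Subtype.ext ?_)
      rw [← ha, ← hb, show b = a * (a⁻¹ * b) by group, ← hJsmul, hJL _ h, hJsmul, mul_one]
    exact fun hXa => Set.disjoint_left.mp (hSdisj a b hab) hXa hX
  have hmove' : ∃ a : A, a • J 1 ≠ J 1 := by
    obtain ⟨a, ha⟩ : ∃ a : A, a ∉ L := by
      by_contra h
      push Not at h
      exact hLtop (eq_top_iff.mpr fun a _ => h a)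
    refine ⟨a, fun e => hJ0 ?_⟩
    rw [hJsmul, mul_one] at e
    have hd := hJdisj 1 a (by simpa using ha)
    rw [e, disjoint_self] at hd
    exact hd
  have hle := hmax (J 1) hJ0 hind' hmove'
  have heq : T = J 1 := AddSubgroup.eq_of_le_of_card_ge hT1 hle
  obtain ⟨l, hlL, hlH⟩ := SetLike.exists_of_lt hL
  apply hlH
  rw [hH, mem_stabilizer_iff]
  refine le_antisymm (heq ▸ hTJ l hlL) ?_
  rw [← AddSubgroup.pointwise_smul_le_pointwise_smul_iff (a := l⁻¹), inv_smul_smul]
  exact heq ▸ hTJ l⁻¹ (L.inv_mem hlL)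

end

/-- The imprimitive step. -/
theorem good_of_imprimitive {p : ℕ} [Fact p.Prime] {A : Type u} [Group A] [Finite A] {V : Type u}
    [AddCommGroup V] [Finite V] [DistribMulAction A V] (hs : Group.IsSolvable A)
    (hcop : (Nat.card A).Coprime p) (hexp : ∀ x : V, p • x = 0)
    (ih : ∀ m < Nat.card V, MainOK.{u} p m) (hirr : Irred A V) (himp : Imprimitive A V) :
    Good (cnum p) A V := by
  classical
  obtain ⟨T, ⟨hT, hind, hmove⟩, hmax⟩ := Set.Finite.exists_maximalFor
    (fun T : AddSubgroup V => Nat.card T)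
    {T : AddSubgroup V | T ≠ ⊥ ∧ (iSupIndep fun U : MulAction.orbit A T => (U : AddSubgroup V)) ∧
      ∃ a : A, a • T ≠ T} (Set.toFinite _) himp
  have hmax' : ∀ T' : AddSubgroup V, T' ≠ ⊥ →
      (iSupIndep fun U : MulAction.orbit A T' => (U : AddSubgroup V)) → (∃ a : A, a • T' ≠ T') →
      Nat.card T' ≤ Nat.card T := fun T' h1 h2 h3 => by
    by_contra h
    push Not at h
    exact absurd (hmax (j := T') ⟨h1, h2, h3⟩ h.le) (not_le.mpr h)
  set Q := MulAction.orbit A T
  haveI : Fintype Q := Fintype.ofFinite Q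
  let q₀ : Q := ⟨T, mem_orbit_self T⟩
  have hq : ∀ U : Q, ∃ t : A, t • T = U := fun U => mem_orbit_iff.mp U.2
  choose t ht using hq
  have hact : ∀ (g : A) (U : Q), ((g • U : Q) : AddSubgroup V) = g • (U : AddSubgroup V) :=
    fun g U => rfl
  set H := stabilizer A T with hH
  have hco : IsCoatom (stabilizer A q₀) := by
    rw [show stabilizer A q₀ = stabilizer A T from Subgroup.ext fun a => by
      rw [mem_stabilizer_iff, mem_stabilizer_iff, Subtype.ext_iff]
      rfl]
    exact coatom_of_max T hT hind hmove hmax'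
  have hQ1 : 1 < Nat.card Q := by
    obtain ⟨a, ha⟩ := hmove
    haveI : Nontrivial Q := ⟨⟨a • q₀, q₀, fun e => ha (congrArg Subtype.val e)⟩⟩
    exact Finite.one_lt_card
  obtain ⟨col, hcol1, hcol2⟩ := prim_cols (A := A) (Ω := Q) hs (cnum_cases p)
    (fun h hd => by
      have := (cnum_three h)
      subst this
      exact Nat.prime_three.coprime_iff_not_dvd.mp hcop.symm hd) q₀ hQ1 hco
  -- pairs in a block
  letI : DistribMulAction H T :=
    { smul := fun h x => ⟨(h : A) • x.1, by
        have hx := AddSubgroup.smul_mem_pointwise_smul x.1 (h : A) T x.2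
        rwa [show (h : A) • T = T from h.2] at hx⟩
      one_smul := fun x => Subtype.ext (one_smul A x.1)
      mul_smul := fun g h x => Subtype.ext (mul_smul (g : A) (h : A) x.1)
      smul_zero := fun g => Subtype.ext (smul_zero (g : A))
      smul_add := fun g x y => Subtype.ext (smul_add (g : A) x.1 y.1) }
  have hT1 : 1 < Nat.card T := by
    haveI := (AddSubgroup.nontrivial_iff_ne_bot T).mpr hT
    exact Finite.one_lt_card
  have hTV : Nat.card T < Nat.card V := by
    refine lt_of_le_of_ne (Nat.card_le_card_of_injective _ T.subtype_injective) fun e => ?_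
    obtain ⟨a, ha⟩ := hmove
    have htop := AddSubgroup.eq_top_of_card_eq _ e
    have hd := hind q₀
    have hle : (⊤ : AddSubgroup V) ≤ ⨆ (W : Q) (_ : W ≠ q₀), (W : AddSubgroup V) := by
      refine le_iSup₂_of_le (a • q₀) (fun h => ha (congrArg Subtype.val h)) ?_
      intro x _
      refine ⟨a⁻¹ • x, ?_, smul_inv_smul _ _⟩
      show a⁻¹ • x ∈ T
      rw [htop]; exact AddSubgroup.mem_top _
    have h0 := hd le_rfl ((htop ▸ hle : T ≤ _))
    exact hT (eq_bot_iff.mpr h0)
  obtain ⟨f, hf1, hf2, hf3⟩ := ih _ hTV H T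
    (haveI := hs; Group.isSolvable_of_isSolvable_injective H.subtype_injective)
    (hcop.coprime_dvd_left H.card_subgroup_dvd_card) (fun x => Subtype.ext (hexp x.1)) rfl hT1
  -- the decomposition
  let σ : (∀ U : Q, ↥(U : AddSubgroup V)) → V := fun f => ∑ U : Q, (f U : V)
  have hσinj : ∀ f f' : (∀ U : Q, ↥(U : AddSubgroup V)), σ f = σ f' → f = f' := by
    intro f f' e
    funext U
    refine Subtype.ext (sub_eq_zero.mp ?_)
    have hsum : ∑ W : Q, ((f W : V) - f' W) = 0 := by
      rw [Finset.sum_sub_distrib]; exact sub_eq_zero.mpr e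
    have hd := hind U
    rw [AddSubgroup.disjoint_def] at hd
    refine hd (sub_mem (f U).2 (f' U).2) ?_
    rw [← Finset.add_sum_erase _ _ (Finset.mem_univ U)] at hsum
    rw [eq_neg_of_add_eq_zero_left hsum]
    refine neg_mem (sum_mem fun W hW => ?_)
    exact le_iSup₂ (f := fun (W : Q) (_ : W ≠ U) => (W : AddSubgroup V)) W
      (Finset.ne_of_mem_erase hW) (sub_mem (f W).2 (f' W).2)
  have hm : ∀ (x : T) (U : Q), t U • (x : V) ∈ (U : AddSubgroup V) := fun x U =>
    ht U ▸ AddSubgroup.smul_mem_pointwise_smul _ _ _ x.2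
  let F1 : Fin (cnum p) → V := fun i => ∑ U : Q, t U • (((f (col i U)).1 : T) : V)
  let F2 : Fin (cnum p) → V := fun i => ∑ U : Q, t U • (((f (col i U)).2 : T) : V)
  have hst : ∀ (g : A) (U : Q), (t (g • U))⁻¹ * g * t U ∈ H := fun g U => by
    rw [hH, mem_stabilizer_iff, mul_smul, mul_smul, ht, inv_smul_eq_iff, ht, hact]
  have key : ∀ (g : A) (i j : Fin (cnum p)), g • F1 i = F1 j → g • F2 i = F2 j →
      ∀ U : Q, (⟨_, hst g U⟩ : H) • f (col i U) = f (col j (g • U)) := by
    intro g i j e1 e2 U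
    have hcomp : ∀ x y : Q → T, g • (∑ U : Q, t U • (x U : V)) = ∑ U : Q, t U • (y U : V) →
        g • t U • (x U : V) = t (g • U) • (y (g • U) : V) := by
      intro x y e
      have hmem : ∀ W : Q, g • t (g⁻¹ • W) • (x (g⁻¹ • W) : V) ∈ (W : AddSubgroup V) := by
        intro W
        have := AddSubgroup.smul_mem_pointwise_smul _ g _ (hm (x (g⁻¹ • W)) (g⁻¹ • W))
        rwa [← hact, smul_inv_smul] at this
      have := hσinj (fun W => ⟨_, hmem W⟩) (fun W => ⟨_, hm (y W) W⟩) (by
        show ∑ W : Q, g • t (g⁻¹ • W) • (x (g⁻¹ • W) : V) = ∑ W : Q, t W • (y W : V)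
        rw [← e, Finset.smul_sum]
        exact Fintype.sum_equiv (MulAction.toPerm g⁻¹) _ _ fun W => rfl)
      have h := congrArg Subtype.val (congrFun this (g • U))
      simp only [inv_smul_smul] at h
      exact h
    refine Prod.ext (Subtype.ext ?_) (Subtype.ext ?_)
    · show ((t (g • U))⁻¹ * g * t U) • ((f (col i U)).1 : V) = _
      rw [mul_smul, mul_smul, hcomp (fun U => (f (col i U)).1) (fun U => (f (col j U)).1) e1, inv_smul_smul]
    · show ((t (g • U))⁻¹ * g * t U) • ((f (col i U)).2 : V) = _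
      rw [mul_smul, mul_smul, hcomp (fun U => (f (col i U)).2) (fun U => (f (col j U)).2) e2, inv_smul_smul]
  refine ⟨fun i => (F1 i, F2 i), fun i h => ?_, fun i g hg x => ?_, fun i j g hg => ?_⟩
  · have := hσinj (fun W => ⟨_, hm (f (col i W)).1 W⟩) 0 (by
      show ∑ W : Q, t W • ((f (col i W)).1 : V) = ∑ W : Q, ((0 : ∀ W : Q, ↥(W : AddSubgroup V)) W : V)
      exact h.trans (Finset.sum_eq_zero fun W _ => rfl).symm)
    have h' : t q₀ • ((f (col i q₀)).1 : V) = 0 := congrArg Subtype.val (congrFun this q₀)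
    rw [smul_eq_zero_iff_eq] at h'
    exact hf1 _ (Subtype.ext h')
  · have hk := key g i i (congrArg Prod.fst hg) (congrArg Prod.snd hg)
    have hfix : ∀ U : Q, g • U = U := hcol1 i g fun U => (hf3 _ _ _ (hk U)).symm
    suffices htop : fixedSub V g = ⊤ from mem_fixedSub.mp (htop ▸ AddSubgroup.mem_top x)
    have hsup : ⨆ U : Q, (U : AddSubgroup V) = ⊤ := by
      refine (hirr _ fun a x hx => ?_).resolve_left fun h => hT ?_
      · have h' : a • (⨆ U : Q, (U : AddSubgroup V)) ≤ ⨆ U : Q, (U : AddSubgroup V) := by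
          rw [AddSubgroup.pointwise_smul_le_iff]
          refine iSup_le fun U => ?_
          rw [← AddSubgroup.pointwise_smul_le_iff]
          exact le_iSup_of_le (a • U) le_rfl
        exact h' (AddSubgroup.smul_mem_pointwise_smul x a _ hx)
      · exact eq_bot_iff.mpr (le_iSup_of_le q₀ le_rfl |>.trans h.le)
    rw [eq_top_iff, ← hsup]
    refine iSup_le fun U y hy => ?_
    have hstab : (⟨_, hst g U⟩ : H) • f (col i U) = f (col i U) :=
      (hk U).trans (congrArg (fun W => f (col i W)) (hfix U))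
    rw [← ht U] at hy
    obtain ⟨x, hx, rfl⟩ := hy
    show g • t U • x = t U • x
    have h := congrArg Subtype.val (hf2 _ _ hstab ⟨x, hx⟩)
    change ((t (g • U))⁻¹ * g * t U) • x = x at h
    rwa [hfix U, mul_smul, mul_smul, inv_smul_eq_iff] at h
  · have hk := key g i j (congrArg Prod.fst hg) (congrArg Prod.snd hg)
    exact hcol2 i j g fun U => (hf3 _ _ _ (hk U)).symm

end Cfsg.Agent.GStructB.CoprimeBase
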