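import Cfsg.Agent.GStructB.OddBase.Field
import Cfsg.Agent.GStructB.CoprimeBase.Imprim

/-!
# Abelian normal subgroups of irreducible groups, in any order
-/

set_option autoImplicit false
set_option linter.style.haveILetI false
set_option linter.unusedSectionVars false

open MulAction

namespace Cfsg.Agent.GStructB.CoprimeBase

universe u

open scoped Pointwise
open OddBase (Irred genRing genRing_comm conjRing conjEnd_inv)

variable {A : Type u} [Group A] [Finite A] {V : Type u} [AddCommGroup V] [Finite V]
  [DistribMulAction A V] [FaithfulSMul A V]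

/-- The ring generated by an abelian normal subgroup is a field unless the group is imprimitive. -/
theorem field_or_imprimitive (hirr : Irred A V) (hV1 : 1 < Nat.card V) (B : Subgroup A) [B.Normal]
    (hB : ∀ x ∈ B, ∀ y ∈ B, x * y = y * x) : Imprimitive A V ∨ IsField (genRing V B) := by
  classical
  letI : CommRing (genRing V B) :=
    { (inferInstance : Ring (genRing V B)) with mul_comm := genRing_comm hB }
  haveI : Nontrivial V := Finite.one_lt_card_iff_nontrivial.mp hV1
  obtain ⟨x₀, hx₀⟩ := exists_ne (0 : V)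
  obtain ⟨v, hv0, hvmin⟩ := Set.Finite.exists_minimalFor
    (fun v : V => Nat.card (Set.range fun r : genRing V B => r.1 v)) {v : V | v ≠ 0} (Set.toFinite _)
    ⟨x₀, hx₀⟩
  let P : Ideal (genRing V B) :=
    { carrier := {r | r.1 v = 0}
      zero_mem' := rfl
      add_mem' := fun {r s} (hr : r.1 v = 0) (hs : s.1 v = 0) => by
        show r.1 v + s.1 v = 0
        rw [hr, hs, add_zero]
      smul_mem' := fun c r (hr : r.1 v = 0) => by
        show c.1 (r.1 v) = 0
        rw [hr, map_zero] }
  have hPmax : P.IsMaximal := by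
    refine Ideal.isMaximal_iff.mpr ⟨fun h => hv0 h, fun I r hPI hr hrI => ?_⟩
    set rv := r.1 v with hrv
    have hsub : (Set.range fun s : genRing V B => s.1 rv) ⊆ Set.range fun s : genRing V B => s.1 v := by
      rintro _ ⟨s, rfl⟩
      exact ⟨s * r, rfl⟩
    have hle := hvmin (j := rv) hr (Nat.card_mono (Set.toFinite _) hsub)
    have heq := Set.eq_of_subset_of_ncard_le hsub
      (by rw [← Nat.card_coe_set_eq, ← Nat.card_coe_set_eq]; exact hle) (Set.toFinite _)
    obtain ⟨s, hs⟩ := (heq ▸ ⟨1, rfl⟩ : v ∈ Set.range fun s : genRing V B => s.1 rv)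
    have hmem : 1 - s * r ∈ P := by
      show v - s.1 (r.1 v) = 0
      rw [sub_eq_zero]; exact hs.symm
    have := I.add_mem (hPI hmem) (I.mul_mem_left s hrI)
    rwa [sub_add_cancel] at this
  let T : AddSubgroup V :=
    { carrier := {x | ∀ r ∈ P, r.1 x = 0}
      zero_mem' := fun r _ => map_zero r.1
      add_mem' := fun {x y} hx hy r hr => by rw [map_add, hx r hr, hy r hr, add_zero]
      neg_mem' := fun {x} hx r hr => by rw [map_neg, hx r hr, neg_zero] }
  have hvT : v ∈ T := fun r hr => hr
  by_cases hmove : ∃ a : A, a • T ≠ T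
  · refine Or.inl ⟨T, fun h => hv0 ?_, ?_, hmove⟩
    · exact (AddSubgroup.mem_bot).mp (h ▸ hvT : v ∈ (⊥ : AddSubgroup V))
    -- independence of the translates
    intro U
    rw [AddSubgroup.disjoint_def]
    intro x hx hx'
    have hq : ∀ W : MulAction.orbit A T, ∃ g : A, g • T = W := fun W => mem_orbit_iff.mp W.2
    choose t ht using hq
    let Q : MulAction.orbit A T → Ideal (genRing V B) := fun W => P.comap (conjRing B (t W)⁻¹)
    have hkill : ∀ W : MulAction.orbit A T, ∀ y ∈ (W : AddSubgroup V), ∀ r ∈ Q W, r.1 y = 0 := by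
      intro W y hy r hr
      rw [← ht W] at hy
      obtain ⟨z, hz, rfl⟩ := hy
      have h := hz _ (show conjRing B (t W)⁻¹ r ∈ P from hr)
      change (t W)⁻¹ • r.1 ((t W)⁻¹⁻¹ • z) = 0 at h
      rw [inv_inv, inv_smul_eq_iff, smul_zero] at h
      exact h
    have hmem : ∀ W : MulAction.orbit A T, ∀ y : V, (∀ r ∈ Q W, r.1 y = 0) → y ∈ (W : AddSubgroup V) := by
      intro W y hy
      rw [← ht W]
      refine ⟨(t W)⁻¹ • y, fun r hr => ?_, smul_inv_smul _ _⟩
      have h := hy (conjRing B (t W) r) (by
        show conjRing B (t W)⁻¹ (conjRing B (t W) r) ∈ P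
        rwa [show conjRing B (t W)⁻¹ (conjRing B (t W) r) = r from Subtype.ext (conjEnd_inv _ _)])
      change t W • r.1 ((t W)⁻¹ • y) = 0 at h
      rwa [smul_eq_zero_iff_eq] at h
    haveI hQmax : ∀ W, (Q W).IsMaximal := fun W => by
      haveI := hPmax
      refine Ideal.comap_isMaximal_of_surjective _ fun r =>
        ⟨conjRing B (t W) r, Subtype.ext (conjEnd_inv _ _)⟩
    -- an element congruent to one on `U` killing all others
    have hsep : ∀ W : MulAction.orbit A T, W ≠ U → ∃ r ∈ Q W, (r : genRing V B).1 x = x := by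
      intro W hW
      have hne : ¬ Q W ≤ Q U := by
        intro h
        refine hW (Subtype.ext (le_antisymm ?_ ?_))
        · exact fun y hy => hmem U y fun r hr => hkill W y hy r
            ((hQmax W).eq_of_le (hQmax U).ne_top h ▸ hr)
        · exact fun y hy => hmem W y fun r hr => hkill U y hy r (h hr)
      obtain ⟨r, hrW, hrU⟩ := Set.not_subset.mp hne
      have h1 := (Ideal.isMaximal_iff.mp (hQmax U)).2 (Q U ⊔ Ideal.span {r}) r le_sup_left hrU
        (Ideal.mem_sup_right (Ideal.subset_span rfl))
      obtain ⟨q, hq, z, hz, e⟩ := Submodule.mem_sup.mp h1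
      refine ⟨z, (Ideal.span_singleton_le_iff_mem (Q W)).mpr hrW hz, ?_⟩
      have := congrArg (fun f : genRing V B => f.1 x) e
      change q.1 x + z.1 x = x at this
      rwa [hkill U x hx q hq, zero_add] at this
    choose r hr hrx using hsep
    haveI : Fintype (MulAction.orbit A T) := Fintype.ofFinite _
    let F : Finset (MulAction.orbit A T) := Finset.univ.erase U
    let f : MulAction.orbit A T → genRing V B := fun W => if h : W = U then 1 else r W h
    have hprod : ∀ G : Finset (MulAction.orbit A T), U ∉ G → (∏ W ∈ G, f W).1 x = x := by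
      intro G
      induction G using Finset.induction_on with
      | empty => intro; rfl
      | insert W G hW ihG =>
        intro hU
        rw [Finset.prod_insert hW]
        show (f W).1 ((∏ W ∈ G, f W).1 x) = x
        rw [ihG (fun h => hU (Finset.mem_insert_of_mem h))]
        have hWU : W ≠ U := fun h => hU (h ▸ Finset.mem_insert_self W G)
        simp only [f, dif_neg hWU]
        exact hrx W hWU
    have hker : (⨆ (W : MulAction.orbit A T) (_ : W ≠ U), (W : AddSubgroup V)) ≤
        (AddMonoidHom.ker (∏ W ∈ F, f W).1 : AddSubgroup V) := by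
      refine iSup₂_le fun W hW y hy => AddMonoidHom.mem_ker.mpr ?_
      rw [← Finset.prod_erase_mul F f (Finset.mem_erase.mpr ⟨hW, Finset.mem_univ W⟩)]
      show (∏ W' ∈ F.erase W, f W').1 ((f W).1 y) = 0
      rw [hkill W y hy (f W) (by simp only [f, dif_neg hW]; exact hr W hW), map_zero]
    rw [← hprod F (Finset.notMem_erase U _)]
    exact AddMonoidHom.mem_ker.mp (hker hx')
  · push Not at hmove
    have hTtop : T = ⊤ := by
      refine (hirr T fun a x hx => ?_).resolve_left fun h =>
        hv0 ((AddSubgroup.mem_bot).mp (h ▸ hvT : v ∈ (⊥ : AddSubgroup V)))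
      exact hmove a ▸ AddSubgroup.smul_mem_pointwise_smul x a T hx
    have hPbot : P = ⊥ := eq_bot_iff.mpr fun r hr => Subtype.ext (AddMonoidHom.ext fun x =>
      (show x ∈ T by rw [hTtop]; exact AddSubgroup.mem_top x) r hr)
    haveI : Nontrivial (genRing V B) := ⟨⟨1, 0, fun h => hv0 (congrArg (fun f : genRing V B => f.1 v) h)⟩⟩
    exact Or.inr (Ring.isField_iff_maximal_bot.mpr (hPbot ▸ hPmax))

end Cfsg.Agent.GStructB.CoprimeBase
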