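import Cfsg.Agent.GStructB.CoprimeBase.Split

/-!
# Groups with four classes modulo scalars

When all squares are scalar and the centralizer of a non-scalar class is that class alone, `M` modulo
scalars consists of four classes. This happens when `M` acts semiregularly.
-/

set_option autoImplicit false
set_option linter.style.haveILetI false
set_option linter.unusedSectionVars false

open MulAction

namespace Cfsg.Agent.GStructB.CoprimeBase

universe u v w

variable {K : Type u} [Field K] {G : Type v} [Group G] {V : Type w} [AddCommGroup V] [Module K V]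
  [DistribMulAction G V] {M A : Subgroup G}

/-- The three non-scalar classes. -/
def word (m y : G) : Fin 3 → G := ![m, y, m * y]

variable (K V) in
/-- `M` consists of four classes modulo scalars, given by two anticommuting elements. -/
structure Four (M : Subgroup G) (m y : G) : Prop where
  mM : m ∈ M
  yM : y ∈ M
  sq_m : IsScal K V (m * m)
  sq_y : IsScal K V (y * y)
  anti : ∀ x : V, m • y • x = -(y • m • x)
  cover : ∀ z ∈ M, IsScal K V z ∨ ∃ (k : K) (i : Fin 3), ∀ x : V, z • x = k • word m y i • x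

theorem scal_ne_zero [Nontrivial V] {g : G} {k : K} (h : ∀ x : V, g • x = k • x) : k ≠ 0 := by
  rintro rfl
  obtain ⟨x, hx⟩ := exists_ne (0 : V)
  have h' := h x
  rw [zero_smul, smul_eq_zero_iff_eq] at h'
  exact hx h'

/-- A commutator with an element whose power is scalar is a root of unity. -/
theorem comm_root [Nontrivial V] (hF : Frame K V M A) {x y : G} (hx : x ∈ M) (hy : y ∈ M) {c : K}
    (h : ∀ z : V, x • y • z = c • y • x • z) {n : ℕ} (hn : IsScal K V (x ^ n)) : c ^ n = 1 := by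
  obtain ⟨k, hk⟩ := hn
  obtain ⟨z, hz⟩ := exists_ne (0 : V)
  have hk0 := scal_ne_zero hk
  have h1 := comm_pow_left hF hx h n z
  rw [hk, hk, hF.lin y hy, smul_smul] at h1
  have hne : y • z ≠ 0 := by rwa [ne_eq, smul_eq_zero_iff_eq]
  have h' : (c ^ n * k - k) • (y • z) = 0 := by rw [sub_smul, ← h1, sub_self]
  exact mul_right_cancel₀ hk0 ((sub_eq_zero.mp ((smul_eq_zero.mp h').resolve_right hne)).trans (one_mul k).symm)

theorem neg_of_sq_one {c : K} (h : c * c = 1) (h1 : c ≠ 1) : c = -1 :=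
  (mul_self_eq_one_iff.mp h).resolve_left h1

/-- Powers of a product. -/
theorem mul_pow_smul (hF : Frame K V M A) {x y : G} (hx : x ∈ M) (hy : y ∈ M) {e : K}
    (h : ∀ z : V, y • x • z = e • x • y • z) :
    ∀ (n : ℕ) (z : V), (x * y) ^ n • z = e ^ n.choose 2 • x ^ n • y ^ n • z := by
  intro n
  induction n with
  | zero => intro z; simp
  | succ n ih =>
    intro z
    have h' := comm_pow_left hF hy h n
    rw [pow_succ, mul_smul, ih, mul_smul, h', hF.lin _ (M.pow_mem hx n), smul_smul, ← pow_add,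
      ← mul_smul (α := G) (y ^ n), ← pow_succ, ← mul_smul (α := G) (x ^ n), ← pow_succ,
      show (n + 1).choose 2 = n.choose 2 + n by rw [Nat.choose_succ_succ, Nat.choose_one_right]; ring]

/-- Four classes from the two basic properties. -/
theorem four_of_props [Nontrivial V] (hF : Frame K V M A) (hsq : ∀ z ∈ M, IsScal K V (z * z))
    (hcomm : ∀ y ∈ M, ∀ z ∈ M, ¬ IsScal K V y → (∀ x : V, y • z • x = z • y • x) →
      IsScal K V z ∨ ∃ k : K, ∀ x : V, z • x = k • y • x)
    {m : G} (hm : m ∈ M) (hns : ¬ IsScal K V m) : ∃ y, Four K V M m y := by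
  obtain ⟨y, hy, x₀, hxy⟩ : ∃ y ∈ M, ∃ x : V, m • y • x ≠ y • m • x := by
    by_contra h
    push Not at h
    exact hns (hF.centre m hm h)
  obtain ⟨c, hc0, hc⟩ := hF.comm m hm y hy
  have hc1 : c = -1 := by
    refine neg_of_sq_one ?_ fun e => hxy (by rw [hc, e, one_smul])
    rw [← sq]
    exact comm_root hF hm hy hc (by rw [sq]; exact hsq m hm)
  have hanti : ∀ x : V, m • y • x = -(y • m • x) := fun x => by rw [hc, hc1, neg_one_smul]
  refine ⟨y, hm, hy, hsq m hm, hsq y hy, hanti, fun z hz => ?_⟩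
  obtain ⟨e, he0, he⟩ := hF.comm m hm z hz
  by_cases he1 : e = 1
  · rcases hcomm m hm z hz hns fun x => by rw [he, he1, one_smul] with h | ⟨k, hk⟩
    · exact Or.inl h
    · exact Or.inr ⟨k, 0, hk⟩
  have he' : e = -1 := by
    refine neg_of_sq_one ?_ he1
    rw [← sq]
    exact comm_root hF hm hz he (by rw [sq]; exact hsq m hm)
  obtain ⟨b, hb⟩ := hsq y hy
  have hb0 := scal_ne_zero hb
  have hz' : ∀ x : V, m • (z * y) • x = (z * y) • m • x := fun x => by
    rw [mul_smul, mul_smul, he, hanti, he', smul_neg, neg_one_smul, neg_neg]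
  have hzy : ∀ x : V, z • x = b⁻¹ • (z * y) • y • x := fun x => by
    rw [mul_smul, ← mul_smul (α := G) y y, hb, hF.lin z hz, smul_smul, inv_mul_cancel₀ hb0, one_smul]
  rcases hcomm m hm (z * y) (M.mul_mem hz hy) hns hz' with ⟨k, hk⟩ | ⟨k, hk⟩
  · exact Or.inr ⟨b⁻¹ * k, 1, fun x => by rw [hzy, hk, smul_smul]; rfl⟩
  · exact Or.inr ⟨b⁻¹ * k, 2, fun x => by rw [hzy, hk, smul_smul, ← mul_smul (α := G)]; rfl⟩

namespace Four

variable {m y : G} (hQ : Four K V M m y) (hF : Frame K V M A) [Nontrivial V] (h2 : (2 : K) ≠ 0)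
include hQ

omit [Nontrivial V] in
theorem word_mem : ∀ i, word m y i ∈ M
  | 0 => hQ.mM
  | 1 => hQ.yM
  | 2 => M.mul_mem hQ.mM hQ.yM

include hF

theorem word_sq : ∀ i, IsScal K V (word m y i * word m y i)
  | 0 => hQ.sq_m
  | 1 => hQ.sq_y
  | 2 => by
    obtain ⟨a, ha⟩ := hQ.sq_m
    obtain ⟨b, hb⟩ := hQ.sq_y
    refine ⟨-(a * b), fun x => ?_⟩
    show (m * y * (m * y)) • x = _
    rw [mul_smul, mul_smul, mul_smul, show y • m • y • x = -(m • y • y • x) by rw [hQ.anti (y • x), neg_neg],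
      smul_neg, ← mul_smul (α := G) m m, ha, ← mul_smul (α := G) y y, hb, neg_smul, smul_smul]

/-- Distinct classes anticommute. -/
theorem word_anti : ∀ i j, i ≠ j → ∀ x : V, word m y i • word m y j • x = -(word m y j • word m y i • x) := by
  have h01 := hQ.anti
  have h10 : ∀ x : V, y • m • x = -(m • y • x) := fun x => by rw [h01, neg_neg]
  intro i j hij x
  fin_cases i <;> fin_cases j <;> simp_all [word, mul_smul, smul_neg]

include h2

theorem word_not_scal : ∀ i, ¬ IsScal K V (word m y i) := by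
  intro i
  rintro ⟨k, hk⟩
  obtain ⟨x, hx⟩ := exists_ne (0 : V)
  obtain ⟨j, hj⟩ := exists_ne i
  have h := hQ.word_anti hF i j hj.symm x
  rw [hk, hk, hF.lin _ (hQ.word_mem j), ← sub_eq_zero, sub_neg_eq_add, ← add_smul] at h
  have hk0 := scal_ne_zero hk
  rw [smul_eq_zero, smul_eq_zero_iff_eq] at h
  rcases h with h | h
  · exact mul_ne_zero h2 hk0 (by rw [two_mul]; exact h)
  · exact hx h

/-- The class of an element is unique. -/
theorem class_unique {z : G} {k k' : K} {i j : Fin 3} (hi : ∀ x : V, z • x = k • word m y i • x)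
    (hj : ∀ x : V, z • x = k' • word m y j • x) : i = j := by
  by_contra hij
  obtain ⟨x, hx⟩ := exists_ne (0 : V)
  have hk : k ≠ 0 := by
    rintro rfl
    have h := hi x
    rw [zero_smul, smul_eq_zero_iff_eq] at h
    exact hx h
  have hprop : ∀ x : V, word m y i • x = (k⁻¹ * k') • word m y j • x := fun x => by
    rw [mul_smul, ← hj, hi, smul_smul, inv_mul_cancel₀ hk, one_smul]
  have h := hQ.word_anti hF i j hij x
  rw [hprop, hprop, hF.lin _ (hQ.word_mem j), ← sub_eq_zero, sub_neg_eq_add, ← add_smul] at h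
  have hne : word m y j • word m y j • x ≠ 0 := by rwa [ne_eq, smul_eq_zero_iff_eq, smul_eq_zero_iff_eq]
  have h' := (smul_eq_zero.mp h).resolve_right hne
  have hk' : k' ≠ 0 := by
    rintro rfl
    have h := hj x
    rw [zero_smul, smul_eq_zero_iff_eq] at h
    exact hx h
  exact mul_ne_zero h2 (mul_ne_zero (inv_ne_zero hk) hk') (by rw [two_mul]; exact h')

/-- An element commuting with both generators centralizes `M`. -/
theorem central_of_comm {g : G} (hlin : ∀ (k : K) (x : V), g • k • x = k • g • x)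
    (hm : ∀ x : V, g • m • x = m • g • x) (hy : ∀ x : V, g • y • x = y • g • x) :
    ∀ z ∈ M, ∀ x : V, g • z • x = z • g • x := by
  intro z hz x
  rcases hQ.cover z hz with ⟨k, hk⟩ | ⟨k, i, hk⟩
  · rw [hk, hk, hlin]
  · rw [hk, hk, hlin]
    congr 1
    fin_cases i
    · exact hm x
    · exact hy x
    · show g • (m * y) • x = (m * y) • g • x
      rw [mul_smul, mul_smul, hm, hy]

theorem finrank_even : Even (Module.finrank K V) := by
  let Lm : V →ₗ[K] V :=
    { toFun := fun x => m • x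
      map_add' := fun a b => smul_add m a b
      map_smul' := fun k x => hF.lin m hQ.mM k x }
  let Ly : V →ₗ[K] V :=
    { toFun := fun x => y • x
      map_add' := fun a b => smul_add y a b
      map_smul' := fun k x => hF.lin y hQ.yM k x }
  have h : Lm * Ly = (-1 : K) • (Ly * Lm) := LinearMap.ext fun x => by
    show m • y • x = (-1 : K) • (y • m • x)
    rw [hQ.anti, neg_one_smul]
  by_cases hfd : FiniteDimensional K V
  · have hd := congrArg LinearMap.det h
    rw [map_mul, LinearMap.det_smul, map_mul, mul_comm (LinearMap.det Ly)] at hd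
    have hm0 : LinearMap.det Lm ≠ 0 := (LinearMap.isUnit_det Lm ((Module.End.isUnit_iff Lm).mpr
      ⟨MulAction.injective m, MulAction.surjective m⟩)).ne_zero
    have hy0 : LinearMap.det Ly ≠ 0 := (LinearMap.isUnit_det Ly ((Module.End.isUnit_iff Ly).mpr
      ⟨MulAction.injective y, MulAction.surjective y⟩)).ne_zero
    have h1 : (-1 : K) ^ Module.finrank K V = 1 :=
      (mul_eq_right₀ (mul_ne_zero hm0 hy0)).mp hd.symm
    by_contra hodd
    rw [(Nat.not_even_iff_odd.mp hodd).neg_one_pow] at h1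
    exact h2 (by linear_combination -h1)
  · rw [Module.finrank_of_not_finite hfd]
    exact ⟨0, rfl⟩

end Four

section semireg

theorem Semireg.trivial (hsr : Semireg V M) {z : G} (hz : z ∈ M) {x₀ : V} (hx₀ : x₀ ≠ 0)
    (h : z • x₀ = x₀) (x : V) : z • x = x := hsr x₀ hx₀ z hz h x

theorem Semireg.eq_of (hsr : Semireg V M) {z z' : G} (hz : z ∈ M) (hz' : z' ∈ M) {x₀ : V}
    (hx₀ : x₀ ≠ 0) (h : z • x₀ = z' • x₀) (x : V) : z • x = z' • x := by
  have := hsr.trivial (M.mul_mem (M.inv_mem hz') hz) hx₀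
    (by rw [mul_smul, h, inv_smul_smul]) x
  rw [mul_smul, inv_smul_eq_iff] at this
  exact this

/-- In a semiregular group an element whose `s`-th power is the `s`-th power of a scalar is scalar. -/
theorem Semireg.scal_of_root [Nontrivial V] (hsr : Semireg V M) (hF : Frame K V M A) {s : ℕ}
    (hs : s.Prime) (hsK : (s : K) ≠ 0) {ζ : K} (hζ : ζ ^ s = 1) (hζ1 : ζ ≠ 1) {z : G} (hz : z ∈ M)
    {k : K} (h : ∀ x : V, z ^ s • x = k ^ s • x) : IsScal K V z := by
  have hk0 : k ≠ 0 := by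
    intro e
    have := scal_ne_zero h
    rw [e, zero_pow hs.ne_zero] at this
    exact this rfl
  by_contra hns
  haveI := Fact.mk hs
  have hprim : IsPrimitiveRoot ζ s := IsPrimitiveRoot.iff_orderOf.mpr (orderOf_eq_prime hζ hζ1)
  obtain ⟨x, hx⟩ := exists_ne (0 : V)
  have hzero : ∀ i : ℕ, ∑ j ∈ Finset.range s, (ζ ^ i * k⁻¹) ^ j • z ^ j • x = 0 := by
    intro i
    set S := ∑ j ∈ Finset.range s, (ζ ^ i * k⁻¹) ^ j • z ^ j • x with hS
    by_contra hS0
    obtain ⟨n, hn, hnk⟩ := hF.scal (ζ ^ i * k⁻¹)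
      (mul_ne_zero (pow_ne_zero _ fun e => by simp [e, hs.ne_zero] at hζ) (inv_ne_zero hk0))
    have hfix : (n * z) • S = S := by
      have h1 := Finset.sum_range_succ' (fun j => (ζ ^ i * k⁻¹) ^ j • z ^ j • x) s
      have h2 := Finset.sum_range_succ (fun j => (ζ ^ i * k⁻¹) ^ j • z ^ j • x) s
      rw [h1, pow_zero, pow_zero, one_smul, one_smul, h, smul_smul, mul_pow, ← pow_mul, mul_comm i,
        pow_mul, hζ, one_pow, one_mul, inv_pow, inv_mul_cancel₀ (pow_ne_zero s hk0), one_smul] at h2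
      rw [hS, mul_smul, hnk, Finset.smul_sum, Finset.smul_sum]
      refine Eq.trans (Finset.sum_congr rfl fun j _ => ?_) (add_right_cancel h2)
      rw [hF.lin z hz, smul_smul, ← pow_succ', ← mul_smul (α := G), ← pow_succ']
    refine hns ⟨(ζ ^ i * k⁻¹)⁻¹, fun w => ?_⟩
    have h' := hsr.trivial (M.mul_mem hn hz) hS0 hfix w
    rw [mul_smul, hnk] at h'
    conv_rhs => rw [← h']
    rw [smul_smul, inv_mul_cancel₀ (mul_ne_zero (pow_ne_zero _ fun e => by simp [e, hs.ne_zero] at hζ)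
      (inv_ne_zero hk0)), one_smul]
  have hsum : ∑ i ∈ Finset.range s, ∑ j ∈ Finset.range s, (ζ ^ i * k⁻¹) ^ j • z ^ j • x = 0 :=
    Finset.sum_eq_zero fun i _ => hzero i
  rw [Finset.sum_comm, Finset.sum_eq_single 0] at hsum
  · simp only [pow_zero, one_smul, Finset.sum_const, Finset.card_range] at hsum
    rw [← Nat.cast_smul_eq_nsmul K, smul_eq_zero] at hsum
    exact hsum.elim hsK hx
  · intro j hj hj0
    rw [← Finset.sum_smul, show ∑ i ∈ Finset.range s, (ζ ^ i * k⁻¹) ^ j = 0 by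
      have he : ∀ i, (ζ ^ i * k⁻¹) ^ j = (ζ ^ j) ^ i * k⁻¹ ^ j := fun i => by rw [mul_pow, pow_right_comm]
      rw [Finset.sum_congr rfl fun i _ => he i, ← Finset.sum_mul]
      have hne : ζ ^ j - 1 ≠ 0 := fun e => hj0 (by
        rw [sub_eq_zero, ← pow_zero ζ] at e
        exact hprim.pow_inj (Finset.mem_range.mp hj) hs.pos e)
      have hg := geom_sum_mul (ζ ^ j) s
      rw [← pow_mul, mul_comm j, pow_mul, hζ, one_pow, sub_self] at hg
      rw [(mul_eq_zero.mp hg).resolve_right hne, zero_mul], zero_smul]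
  · exact fun h => absurd (Finset.mem_range.mpr hs.pos) h

/-- In a semiregular group all squares are scalar. -/
theorem Semireg.sq_scal [Finite G] [Finite K] [Nontrivial V] (hsr : Semireg V M)
    (hF : Frame K V M A) {z : G} (hz : z ∈ M) : IsScal K V (z * z) := by
  classical
  obtain ⟨a, r, hr, har⟩ := Nat.exists_eq_pow_mul_and_not_dvd (orderOf_pos z).ne' 2 (by norm_num)
  obtain ⟨o, ho⟩ : ∃ o, o = z ^ 2 ^ a := ⟨_, rfl⟩
  by_cases hos : IsScal K V o
  · rw [← sq]; exact hF.pow_prime_scal hz Nat.prime_two a (ho ▸ hos)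
  exfalso
  have hoM : o ∈ M := ho ▸ M.pow_mem hz _
  have hor : o ^ r = 1 := by rw [ho, ← pow_mul, ← har, pow_orderOf_eq_one]
  have hex : ∃ n, 0 < n ∧ IsScal K V (o ^ n) :=
    ⟨orderOf o, orderOf_pos o, by rw [pow_orderOf_eq_one]; exact IsScal.one⟩
  set n := Nat.find hex
  obtain ⟨hn, hon⟩ := Nat.find_spec hex
  have hnr : n ∣ r := by
    refine Nat.dvd_of_mod_eq_zero (Nat.eq_zero_of_not_pos fun hpos => ?_)
    refine Nat.find_min hex (Nat.mod_lt r hn) ⟨hpos, ?_⟩
    have h : o ^ (r % n) = o ^ r * ((o ^ n) ^ (r / n))⁻¹ := by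
      rw [eq_mul_inv_iff_mul_eq, ← pow_mul, ← pow_add, Nat.mod_add_div]
    rw [h, hor, one_mul]
    exact (hon.pow _).inv
  have hn1 : n ≠ 1 := fun e => hos (by rw [← pow_one o, ← e]; exact hon)
  obtain ⟨s, hs, k, hk⟩ := Nat.exists_prime_and_dvd hn1
  haveI := Fact.mk hs
  have hs2 : s ≠ 2 := fun e => hr (e ▸ (dvd_mul_right s k).trans (hk ▸ hnr))
  have hk0 : 0 < k := Nat.pos_of_ne_zero fun e => by rw [e, mul_zero] at hk; omega
  obtain ⟨t, ht⟩ : ∃ t, t = o ^ k := ⟨_, rfl⟩
  have htM : t ∈ M := ht ▸ M.pow_mem hoM _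
  have htns : ¬ IsScal K V t := fun h =>
    Nat.find_min hex (show k < n by rw [hk]; exact lt_mul_left hk0 hs.one_lt) ⟨hk0, ht ▸ h⟩
  obtain ⟨α, hα⟩ : IsScal K V (t ^ s) := by rw [ht, ← pow_mul, mul_comm, ← hk]; exact hon
  obtain ⟨y, hy, x₀, hxy⟩ : ∃ y ∈ M, ∃ x : V, t • y • x ≠ y • t • x := by
    by_contra h
    push Not at h
    exact htns (hF.centre t htM h)
  obtain ⟨c, hc0, hc⟩ := hF.comm t htM y hy
  have hcs : c ^ s = 1 := comm_root hF htM hy hc ⟨α, hα⟩
  have hc1 : c ≠ 1 := fun e => hxy (by rw [hc, e, one_smul])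
  have hsK : (s : K) ≠ 0 := by
    intro h
    haveI : CharP K s := (CharP.charP_iff_prime_eq_zero hs).mpr h
    have h0 : (c - 1) ^ s = 0 := by rw [sub_pow_char, hcs, one_pow, sub_self]
    exact hc1 (sub_eq_zero.mp (pow_eq_zero_iff hs.ne_zero |>.mp h0))
  obtain ⟨b, r', hr', hbr⟩ := Nat.exists_eq_pow_mul_and_not_dvd (orderOf_pos y).ne' s hs.ne_one
  obtain ⟨w, hw⟩ : ∃ w, w = y ^ r' := ⟨_, rfl⟩
  have hwM : w ∈ M := hw ▸ M.pow_mem hy _
  obtain ⟨β, hβ⟩ : IsScal K V (w ^ s) := hF.pow_prime_scal hwM hs b (by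
    rw [hw, ← pow_mul, mul_comm, ← hbr, pow_orderOf_eq_one]
    exact IsScal.one)
  have hcw : ∀ x : V, t • w • x = c ^ r' • w • t • x := hw ▸ comm_pow_right hF hy hc r'
  have hcr : c ^ r' ≠ 1 := fun e => hr' ((orderOf_eq_prime hcs hc1) ▸ orderOf_dvd_of_pow_eq_one e)
  have hcrs : (c ^ r') ^ s = 1 := by rw [← pow_mul, mul_comm, pow_mul, hcs, one_pow]
  have hα0 := scal_ne_zero hα
  have hβ0 := scal_ne_zero hβ
  -- some product is an `s`-th power
  obtain ⟨g, hg⟩ := IsCyclic.exists_monoid_generator (α := Kˣ)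
  obtain ⟨i, γ, hiγ⟩ : ∃ (i : ℕ) (γ : K), α ^ i * β = γ ^ s := by
    obtain ⟨la, hla⟩ := hg (Units.mk0 α hα0)
    obtain ⟨lb, hlb⟩ := hg (Units.mk0 β hβ0)
    have hla' : (g : K) ^ la = α := by
      have := congrArg Units.val hla
      simpa using this
    have hlb' : (g : K) ^ lb = β := by
      have := congrArg Units.val hlb
      simpa using this
    have hnd : ¬ s ∣ la := by
      rintro ⟨e, rfl⟩
      refine htns (hsr.scal_of_root hF hs hsK hcrs hcr htM (k := (g : K) ^ e) fun x => ?_)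
      rw [hα, ← hla', ← pow_mul, mul_comm]
    obtain ⟨e, -, he⟩ := Nat.exists_mul_mod_eq_one_of_coprime (k := s) (n := la)
      ((hs.coprime_iff_not_dvd.mpr hnd).symm) hs.one_lt
    refine ⟨e * ((s - 1) * lb), (g : K) ^ (la * e / s * ((s - 1) * lb) + lb), ?_⟩
    rw [← hla', ← hlb', ← pow_mul, ← pow_add, ← pow_mul]
    congr 1
    have h1 := Nat.mod_add_div (la * e) s
    rw [he] at h1
    obtain ⟨s', rfl⟩ : ∃ s', s = s' + 1 := ⟨s - 1, by have := hs.pos; omega⟩
    rw [Nat.add_sub_cancel]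
    calc la * (e * (s' * lb)) + lb = la * e * (s' * lb) + lb := by ring
      _ = (1 + (s' + 1) * (la * e / (s' + 1))) * (s' * lb) + lb := by rw [h1]
      _ = _ := by ring
  have hsc : IsScal K V (t ^ i * w) := by
    refine hsr.scal_of_root hF hs hsK hcrs hcr (M.mul_mem (M.pow_mem htM i) hwM) (k := γ) fun x => ?_
    have hd : ∀ z : V, w • t ^ i • z = ((c ^ r') ^ i)⁻¹ • t ^ i • w • z := fun z => by
      rw [comm_pow_left hF htM hcw i, ← mul_smul (α := K), inv_mul_cancel₀ (pow_ne_zero _ (pow_ne_zero _ hc0)),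
        one_smul]
    obtain ⟨e, he⟩ : s ∣ s.choose 2 := hs.dvd_choose_self two_ne_zero (by have := hs.two_le; omega)
    have hexp1 : (((c ^ r') ^ i)⁻¹) ^ s.choose 2 = 1 := by
      rw [he, pow_mul, inv_pow, show ((c ^ r') ^ i) ^ s = 1 by rw [pow_right_comm, hcrs, one_pow], inv_one,
        one_pow]
    rw [mul_pow_smul hF (M.pow_mem htM i) hwM hd, hexp1, one_smul, hβ, hF.lin _ (M.pow_mem (M.pow_mem htM i) s),
      ← pow_mul t, mul_comm i s, pow_mul t, show (t ^ s) ^ i • x = α ^ i • x from ?_, ← mul_smul (α := K),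
      mul_comm, hiγ]
    clear hiγ hd hexp1
    induction i with
    | zero => simp
    | succ i ih =>
      rw [pow_succ, mul_smul, hα, hF.lin _ (M.pow_mem (M.pow_mem htM s) i), ih, smul_smul, ← pow_succ']
  obtain ⟨l, hl⟩ := hsc
  obtain ⟨x, hx⟩ := exists_ne (0 : V)
  have hl' : ∀ x : V, w • x = l • (t ^ i)⁻¹ • x := fun x => by
    rw [← hF.lin _ (M.inv_mem (M.pow_mem htM i)), ← hl, mul_smul, inv_smul_smul]
  have h := hcw x
  rw [hl', hl', hF.lin t htM, show t • (t ^ i)⁻¹ • x = (t ^ i)⁻¹ • t • x by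
    rw [← mul_smul, ← mul_smul, (Commute.self_pow t i).inv_right.eq]] at h
  have hne : l • (t ^ i)⁻¹ • t • x ≠ 0 := by
    refine smul_ne_zero ?_ (by rwa [ne_eq, smul_eq_zero_iff_eq, smul_eq_zero_iff_eq])
    intro e
    have := hl x
    rw [e, zero_smul, smul_eq_zero_iff_eq] at this
    exact hx this
  have h' : (c ^ r' - 1) • (l • (t ^ i)⁻¹ • t • x) = 0 := by rw [sub_smul, one_smul, ← h, sub_self]
  exact hcr (sub_eq_zero.mp ((smul_eq_zero.mp h').resolve_right hne))

/-- In a semiregular group squares of non-scalar elements are not squares of scalars. -/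
theorem Semireg.nonsquare [Nontrivial V] (hsr : Semireg V M) (hF : Frame K V M A) (h2 : (2 : K) ≠ 0)
    {z : G} (hz : z ∈ M) (hns : ¬ IsScal K V z) {a : K} (ha : ∀ x : V, (z * z) • x = a • x) :
    ¬ IsSquare a := by
  rintro ⟨k, rfl⟩
  refine hns (hsr.scal_of_root hF Nat.prime_two (by exact_mod_cast h2) (ζ := -1) (by norm_num)
    (fun e => h2 (by linear_combination -e)) hz (k := k) fun x => ?_)
  rw [sq, sq, ha]

theorem isSquare_mul_of_not [Finite K] (h2 : (2 : K) ≠ 0) {a b : K} (ha : ¬ IsSquare a)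
    (hb : ¬ IsSquare b) : IsSquare (a * b) := by
  classical
  haveI := Fintype.ofFinite K
  have hchar : ringChar K ≠ 2 := fun h => h2 (by
    haveI := ringChar.of_eq h
    exact CharP.cast_eq_zero K 2)
  have ha0 : a ≠ 0 := fun e => ha (e ▸ ⟨0, (mul_zero 0).symm⟩)
  have hb0 : b ≠ 0 := fun e => hb (e ▸ ⟨0, (mul_zero 0).symm⟩)
  rw [← quadraticChar_one_iff_isSquare (mul_ne_zero ha0 hb0), map_mul,
    quadraticChar_neg_one_iff_not_isSquare.mpr ha, quadraticChar_neg_one_iff_not_isSquare.mpr hb]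
  norm_num

/-- A semiregular group has four classes unless it is scalar. -/
theorem Semireg.four [Finite G] [Finite K] [Nontrivial V] (hsr : Semireg V M) (hF : Frame K V M A)
    (h2 : (2 : K) ≠ 0) {m : G} (hm : m ∈ M) (hns : ¬ IsScal K V m) :
    (∃ y, Four K V M m y) ∧ ¬ IsSquare (-1 : K) := by
  have hcomm : ∀ y ∈ M, ∀ z ∈ M, ¬ IsScal K V y → (∀ x : V, y • z • x = z • y • x) →
      IsScal K V z ∨ ∃ k : K, ∀ x : V, z • x = k • y • x := by
    intro y hy z hz hyns hyz
    by_cases hzs : IsScal K V z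
    · exact Or.inl hzs
    obtain ⟨a, ha⟩ := hsr.sq_scal hF hy
    obtain ⟨b, hb⟩ := hsr.sq_scal hF hz
    have hyzs : IsScal K V (y * z) := by
      by_contra h
      refine hsr.nonsquare hF h2 (M.mul_mem hy hz) h (a := a * b) (fun x => ?_)
        (isSquare_mul_of_not h2 (hsr.nonsquare hF h2 hy hyns ha) (hsr.nonsquare hF h2 hz hzs hb))
      rw [mul_smul, mul_smul, mul_smul, ← hyz, ← mul_smul (α := G) z z, hb, hF.lin y hy, hF.lin y hy,
        ← mul_smul (α := G) y y, ha, smul_smul, mul_comm]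
    obtain ⟨k, hk⟩ := hyzs
    have ha0 := scal_ne_zero ha
    refine Or.inr ⟨a⁻¹ * k, fun x => ?_⟩
    have h := congrArg (fun w => a⁻¹ • w) (congrArg (y • ·) (hk x))
    simp only [mul_smul] at h
    rw [← mul_smul (α := G) y y, ha, smul_smul, inv_mul_cancel₀ ha0, one_smul, hF.lin y hy, smul_smul] at h
    exact h
  obtain ⟨y, hQ⟩ := four_of_props hF (fun z hz => hsr.sq_scal hF hz) hcomm hm hns
  refine ⟨⟨y, hQ⟩, fun hneg => ?_⟩
  obtain ⟨a, ha⟩ := hQ.sq_m
  obtain ⟨b, hb⟩ := hQ.sq_y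
  refine hsr.nonsquare hF h2 (hQ.word_mem 2) (hQ.word_not_scal hF h2 2) (a := -1 * (a * b)) (fun x => ?_)
    (hneg.mul (isSquare_mul_of_not h2 (hsr.nonsquare hF h2 hm hns ha)
      (hsr.nonsquare hF h2 hQ.yM (hQ.word_not_scal hF h2 1) hb)))
  show (m * y * (m * y)) • x = _
  rw [mul_smul, mul_smul, mul_smul, show y • m • y • x = -(m • y • y • x) by rw [hQ.anti (y • x), neg_neg],
    smul_neg, ← mul_smul (α := G) m m, ha, ← mul_smul (α := G) y y, hb, neg_one_mul, neg_smul, smul_smul]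

end semireg

end Cfsg.Agent.GStructB.CoprimeBase
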