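import Cfsg.Agent.GStructB.CoprimeBase.Basic

/-!
# Semilinear groups normalising a group of class two

`Frame` collects the properties of a group `M` of linear maps with scalar commutators that is
normalised by a group `A` of semilinear maps. `QQ`, `TT` and `WW` are the kinds of tuples of vectors
that the recursion on the eigenspaces of elements of `M` produces and consumes.
-/

set_option autoImplicit false
set_option linter.style.haveILetI false
set_option linter.unusedSectionVars false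

open MulAction

namespace Cfsg.Agent.GStructB.CoprimeBase

universe u v w

variable (K : Type u) [Field K] {G : Type v} [Group G] (V : Type w) [AddCommGroup V] [Module K V]
  [DistribMulAction G V]

/-- `g` acts as a scalar. -/
def IsScal (g : G) : Prop := ∃ k : K, ∀ x : V, g • x = k • x

/-- A group `M` of linear maps containing the scalars, with scalar commutators and scalar centre,
normalised by a group `A` of semilinear maps. -/
structure Frame (M A : Subgroup G) : Prop where
  semi : ∀ g : G, ∃ σ : K →+* K, ∀ (k : K) (x : V), g • k • x = σ k • g • x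
  lin : ∀ m ∈ M, ∀ (k : K) (x : V), m • k • x = k • m • x
  scal : ∀ k : K, k ≠ 0 → ∃ m ∈ M, ∀ x : V, m • x = k • x
  comm : ∀ x ∈ M, ∀ y ∈ M, ∃ c : K, c ≠ 0 ∧ ∀ z : V, x • y • z = c • y • x • z
  centre : ∀ m ∈ M, (∀ y ∈ M, ∀ x : V, m • y • x = y • m • x) → IsScal K V m
  expo : ∀ m ∈ M, ∀ s : ℕ, s.Prime → IsScal K V (m ^ (s * s)) → IsScal K V (m ^ s)
  norm : ∀ a ∈ A, ∀ m ∈ M, a * m * a⁻¹ ∈ M

variable {K}

/-- A vector fixed by no non-trivial element of `M`. -/
def Free (M : Subgroup G) (v : V) : Prop := ∀ m ∈ M, m • v = v → ∀ x : V, m • x = x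

/-- All non-zero vectors are free. -/
def Semireg (M : Subgroup G) : Prop := ∀ v : V, v ≠ 0 → Free V M v

/-- Inequivalent pairs: the first entry free, the second outside its orbit, trivial stabilizers. -/
def QQ (c : ℕ) (M A : Subgroup G) : Prop :=
  ∃ v u : Fin c → V, (∀ i, Free V M (v i) ∧ u i ≠ 0 ∧ ∀ m ∈ M, m • v i ≠ u i) ∧
    (∀ i, ∀ a ∈ A, a • v i = v i → a • u i = u i → ∀ x : V, a • x = x) ∧
    ∀ i j, ∀ a ∈ A, a • v i = v j → a • u i = u j → i = j

/-- Inequivalent triples, the last entry counted up to `M`. -/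
def TT (c : ℕ) (M A : Subgroup G) : Prop :=
  ∃ v u b : Fin c → V, (∀ i, Free V M (v i) ∧ Free V M (b i) ∧ u i ≠ 0 ∧ ∀ m ∈ M, m • b i ≠ u i) ∧
    (∀ i, ∀ a ∈ A, a • v i = v i → a • u i = u i → (∃ m ∈ M, m • b i = a • b i) → ∀ x : V, a • x = x) ∧
    ∀ i j, ∀ a ∈ A, a • v i = v j → a • u i = u j → (∃ m ∈ M, m • b j = a • b i) → i = j

/-- Inequivalent pairs with free first entry. -/
def WW (c : ℕ) (M A : Subgroup G) : Prop :=
  ∃ v u : Fin c → V, (∀ i, Free V M (v i)) ∧
    (∀ i, ∀ a ∈ A, a • v i = v i → a • u i = u i → ∀ x : V, a • x = x) ∧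
    ∀ i j, ∀ a ∈ A, a • v i = v j → a • u i = u j → i = j

variable {V} {c : ℕ} {M A : Subgroup G}

theorem QQ.tt (h : QQ V c M A) : TT V c M A := by
  obtain ⟨v, u, h1, h2, h3⟩ := h
  exact ⟨v, u, v, fun i => ⟨(h1 i).1, (h1 i).1, (h1 i).2⟩, fun i a ha e1 e2 _ => h2 i a ha e1 e2,
    fun i j a ha e1 e2 _ => h3 i j a ha e1 e2⟩

theorem QQ.ww (h : QQ V c M A) : WW V c M A := by
  obtain ⟨v, u, h1, h2, h3⟩ := h
  exact ⟨v, u, fun i => (h1 i).1, h2, h3⟩

namespace Frame

variable (hF : Frame K V M A)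
include hF

theorem exists_smul [Nontrivial V] (g : G) {k : K} (hk : k ≠ 0) (x : V) :
    ∃ k' : K, k' ≠ 0 ∧ g • k • x = k' • g • x := by
  obtain ⟨σ, hσ⟩ := hF.semi g
  exact ⟨σ k, fun e => hk ((map_eq_zero σ).mp e), hσ k x⟩

/-- A free vector is non-zero, once there is a scalar other than one. -/
theorem ne_zero_of_free [Nontrivial V] {k : K} (hk0 : k ≠ 0) (hk1 : k ≠ 1) {v : V}
    (hv : Free V M v) : v ≠ 0 := by
  rintro rfl
  obtain ⟨m, hm, hmk⟩ := hF.scal k hk0
  obtain ⟨x, hx⟩ := exists_ne (0 : V)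
  have h := hv m hm (smul_zero m) x
  rw [hmk, ← sub_eq_zero] at h
  have h' : (k - 1) • x = 0 := by rw [sub_smul, one_smul]; exact h
  exact hx ((smul_eq_zero.mp h').resolve_left (sub_ne_zero.mpr hk1))

/-- Moving a free vector by `A`. -/
theorem free_smul {v : V} (hv : Free V M v) {a : G} (ha : a ∈ A) : Free V M (a • v) := by
  intro m hm e x
  have h := hv (a⁻¹ * m * a) (by simpa using hF.norm a⁻¹ (A.inv_mem ha) m hm)
    (by rw [mul_smul, mul_smul, e, inv_smul_smul]) (a⁻¹ • x)
  rw [mul_smul, mul_smul, smul_inv_smul] at h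
  exact MulAction.injective a⁻¹ h

theorem comm_smul {x y : G} (hx : x ∈ M) (hy : y ∈ M) :
    ∃ c : K, c ≠ 0 ∧ ∀ z : V, x • y • z = c • y • x • z := hF.comm x hx y hy

end Frame

section scal

variable {g h : G}

theorem IsScal.mul (hg : IsScal K V g) (hh : IsScal K V h) : IsScal K V (g * h) := by
  obtain ⟨k, hk⟩ := hg
  obtain ⟨l, hl⟩ := hh
  exact ⟨k * l, fun x => by rw [mul_smul, hl, hk, mul_smul]⟩

theorem IsScal.one : IsScal K V (1 : G) := ⟨1, fun x => by rw [one_smul, one_smul]⟩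

theorem IsScal.pow (hg : IsScal K V g) : ∀ n : ℕ, IsScal K V (g ^ n)
  | 0 => by rw [pow_zero]; exact IsScal.one
  | n + 1 => by rw [pow_succ]; exact (IsScal.pow hg n).mul hg

theorem IsScal.inv (hg : IsScal K V g) : IsScal K V g⁻¹ := by
  obtain ⟨k, hk⟩ := hg
  rcases eq_or_ne k 0 with rfl | hk0
  · refine ⟨0, fun x => ?_⟩
    have h := hk (g⁻¹ • x)
    rw [smul_inv_smul, zero_smul] at h
    rw [h, smul_zero, smul_zero]
  · refine ⟨k⁻¹, fun x => ?_⟩
    have h := hk (g⁻¹ • x)
    rw [smul_inv_smul] at h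
    conv_rhs => rw [h]
    rw [smul_smul, inv_mul_cancel₀ hk0, one_smul]

end scal

variable (K V) in
/-- The scalars in `M`. -/
def scalSub (M : Subgroup G) : Subgroup G where
  carrier := {m | m ∈ M ∧ IsScal K V m}
  one_mem' := ⟨M.one_mem, IsScal.one⟩
  mul_mem' h h' := ⟨M.mul_mem h.1 h'.1, h.2.mul h'.2⟩
  inv_mem' h := ⟨M.inv_mem h.1, h.2.inv⟩

variable (K V) in
/-- The order of `M` modulo scalars. -/
noncomputable def ysize (M : Subgroup G) : ℕ := (scalSub K V M).relIndex M

/-- Descending to square-free exponent. -/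
theorem Frame.pow_prime_scal (hF : Frame K V M A) {m : G} (hm : m ∈ M) {s : ℕ} (hs : s.Prime) :
    ∀ a : ℕ, IsScal K V (m ^ s ^ a) → IsScal K V (m ^ s) := by
  intro a
  induction a generalizing m with
  | zero => intro h; rw [pow_zero, pow_one] at h; exact h.pow s
  | succ a ih =>
    intro h
    rcases Nat.eq_zero_or_pos a with rfl | ha
    · simpa using h
    · refine ih hm ?_
      obtain ⟨b, rfl⟩ : ∃ b, a = b + 1 := ⟨a - 1, by omega⟩
      rw [pow_succ, pow_mul]
      refine hF.expo _ (M.pow_mem hm _) s hs ?_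
      rw [← pow_mul]
      rwa [show s ^ b * (s * s) = s ^ (b + 1 + 1) by ring]

end Cfsg.Agent.GStructB.CoprimeBase
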