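import Cfsg.Agent.GStructB.CoprimeBase.Marks
import Cfsg.Agent.Lib.Cores.Basic

/-!
# Hall subgroups of π-solvable groups and two conjugates
-/

set_option autoImplicit false
set_option linter.style.haveILetI false
set_option linter.unusedSectionVars false

open scoped Pointwise

namespace Cfsg.Agent.GStructB.CoprimeBase

universe u

/-- A π-solvable series. -/
def PiSolv (π : Set ℕ) (G : Type u) [Group G] : Prop :=
  ∃ (n : ℕ) (N : Fin (n + 1) → Subgroup G), N 0 = ⊥ ∧ N (Fin.last n) = ⊤ ∧ Monotone N ∧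
    (∀ i, (N i).Normal) ∧ ∀ i : Fin n,
      (∃ p ∈ π, p.Prime ∧ ∃ k : ℕ, (N i.castSucc).relIndex (N i.succ) = p ^ k) ∨
      (∀ q : ℕ, q.Prime → q ∣ (N i.castSucc).relIndex (N i.succ) → q ∉ π)

variable {G : Type u} [Group G] [Finite G] {π : Set ℕ}

theorem relIndex_dvd_right (N : Subgroup G) [N.Normal] {D L : Subgroup G} (hD : D ≤ L) :
    N.relIndex D ∣ N.relIndex L := by
  rw [← Subgroup.relIndex_subgroupOf hD (H := N)]
  exact Subgroup.relIndex_dvd_index_of_normal _ _

theorem card_eq_mul {D' D : Subgroup G} (h : D' ≤ D) :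
    Nat.card D = Nat.card D' * D'.relIndex D := by
  rw [← (D'.subgroupOf D).card_mul_index, Nat.card_congr (Subgroup.subgroupOfEquivOfLe h).toEquiv]
  rfl

theorem relIndex_map_dvd {G' : Type u} [Group G'] (f : G →* G') (H K : Subgroup G) :
    (H.map f).relIndex (K.map f) ∣ H.relIndex K := by
  have h : (H.subgroupOf K).map (f.subgroupMap K) ≤ (H.map f).subgroupOf (K.map f) := by
    rintro _ ⟨x, hx, rfl⟩
    exact ⟨x, hx, rfl⟩
  exact (Subgroup.index_dvd_of_le h).trans (Subgroup.index_map_dvd _ (f.subgroupMap_surjective K))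

theorem PiSolv.quotient (h : PiSolv π G) (O : Subgroup G) [O.Normal] : PiSolv π (G ⧸ O) := by
  obtain ⟨n, N, h0, h1, hm, hn, hf⟩ := h
  refine ⟨n, fun i => (N i).map (QuotientGroup.mk' O), by simp [h0], ?_,
    fun a b hab => Subgroup.map_mono (hm hab), fun i => (hn i).map _ (QuotientGroup.mk'_surjective O),
    fun i => ?_⟩
  · show (N (Fin.last n)).map _ = ⊤
    rw [h1, Subgroup.map_top_of_surjective _ (QuotientGroup.mk'_surjective O)]
  · haveI := hn i.castSucc
    have hd : ((N i.castSucc).map (QuotientGroup.mk' O)).relIndex ((N i.succ).map (QuotientGroup.mk' O)) ∣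
        (N i.castSucc).relIndex (N i.succ) := relIndex_map_dvd _ _ _
    rcases hf i with ⟨p, hp, hpp, k, hk⟩ | h
    · rw [hk] at hd
      obtain ⟨j, -, hj⟩ := (Nat.dvd_prime_pow hpp).mp hd
      exact Or.inl ⟨p, hp, hpp, j, hj⟩
    · exact Or.inr fun q hq hqd => h q hq (hqd.trans hd)

/-- A π-subgroup of a π-solvable group is solvable. -/
theorem PiSolv.isSolvable (h : PiSolv π G) {H : Subgroup G}
    (hH : ∀ p : ℕ, p.Prime → p ∣ Nat.card H → p ∈ π) : Group.IsSolvable H := by
  obtain ⟨n, N, h0, h1, hm, hn, hf⟩ := h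
  suffices hs : ∀ i : Fin (n + 1), Group.IsSolvable ↥(H ⊓ N i) by
    have h2 := hs (Fin.last n)
    rw [h1, inf_top_eq] at h2
    exact h2
  intro i
  induction i using Fin.induction with
  | zero =>
    rw [h0, inf_bot_eq]
    exact ⟨1, Subsingleton.elim _ _⟩
  | succ i ih =>
    set D := H ⊓ N i.succ
    haveI := hn i.castSucc
    haveI := ih
    set D' := (N i.castSucc).subgroupOf D with hD'
    haveI : D'.Normal := Subgroup.Normal.subgroupOf inferInstance D
    haveI : Group.IsSolvable D' := Group.isSolvable_of_isSolvable_injective (G' := ↥(H ⊓ N i.castSucc))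
      (f := (D.subtype.comp D'.subtype).codRestrict _ fun x => ⟨x.1.2.1, x.2⟩)
      fun x y e => Subtype.ext (Subtype.ext (congrArg (fun z : ↥(H ⊓ N i.castSucc) => (z : G)) e :))
    have hdvd : Nat.card (D ⧸ D') ∣ (N i.castSucc).relIndex (N i.succ) := by
      rw [← Subgroup.index_eq_card, hD', ← Subgroup.relIndex]
      exact relIndex_dvd_right _ (inf_le_right : D ≤ N i.succ)
    have hdvdH : Nat.card (D ⧸ D') ∣ Nat.card H :=
      D'.card_quotient_dvd_card.trans (Subgroup.card_dvd_of_le inf_le_left)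
    have hq : Group.IsSolvable (D ⧸ D') := by
      rcases hf i with ⟨p, -, hpp, k, hk⟩ | h
      · haveI := Fact.mk hpp
        rw [hk] at hdvd
        obtain ⟨j, -, hj⟩ := (Nat.dvd_prime_pow hpp).mp hdvd
        exact Coprime.isSolvable_of_isPGroup (IsPGroup.of_card hj)
      · have h1' : Nat.card (D ⧸ D') = 1 := by
          by_contra hne
          obtain ⟨q, hq, hqd⟩ := Nat.exists_prime_and_dvd hne
          exact h q hq (hqd.trans hdvd) (hH q hq (hqd.trans hdvdH))
        haveI := (Nat.card_eq_one_iff_unique.mp h1').1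
        exact ⟨0, Subsingleton.elim _ _⟩
    exact Group.isSolvable_of_ker_le_range D'.subtype (QuotientGroup.mk' D') (by
      rw [QuotientGroup.ker_mk', Subgroup.range_subtype])

/-- With trivial π-core, the π'-core contains its centraliser. -/
theorem PiSolv.centralizer_le (h : PiSolv π G) (hcore : piCore π G = ⊥) :
    Subgroup.centralizer (piCore {q | q ∉ π} G : Set G) ≤ piCore {q | q ∉ π} G := by
  obtain ⟨n, N, h0, h1, hm, hn, hf⟩ := h
  set K := piCore {q | q ∉ π} G with hK
  set C := Subgroup.centralizer (K : Set G) with hC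
  haveI : C.Normal := Subgroup.normal_centralizer
  suffices hs : ∀ i : Fin (n + 1), C ⊓ N i ≤ K by
    have h2 := hs (Fin.last n)
    rwa [h1, inf_top_eq] at h2
  intro i
  induction i using Fin.induction with
  | zero => rw [h0, inf_bot_eq]; exact bot_le
  | succ i ih =>
    haveI := hn i.castSucc
    haveI := hn i.succ
    haveI hDn : (C ⊓ N i.succ).Normal := Subgroup.normal_inf_normal _ _
    set D := C ⊓ N i.succ with hD
    set D' := C ⊓ N i.castSucc with hD'
    have hle : D' ≤ D := inf_le_inf_left _ (hm (Fin.castSucc_le_succ i))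
    have hpi' : Cores.IsPi {q | q ∉ π} D' := (Cores.piCore_isPi _).to_le ih
    have hrel : D'.relIndex D ∣ (N i.castSucc).relIndex (N i.succ) := by
      have e : D'.relIndex D = (N i.castSucc).relIndex D := by
        rw [← Subgroup.inf_relIndex_right (H := N i.castSucc)]
        congr 1
        show C ⊓ N i.castSucc = N i.castSucc ⊓ (C ⊓ N i.succ)
        rw [inf_comm C (N i.succ), ← inf_assoc,
          inf_of_le_left (hm (Fin.castSucc_le_succ i)), inf_comm]
      rw [e]
      exact relIndex_dvd_right _ inf_le_right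
    rcases hf i with ⟨p, hp, hpp, k, hk⟩ | h
    · haveI := Fact.mk hpp
      rw [hk] at hrel
      obtain ⟨j, -, hj⟩ := (Nat.dvd_prime_pow hpp).mp hrel
      have hmul : Nat.card D = Nat.card D' * p ^ j := by
        rw [← hj, card_eq_mul hle]
      obtain ⟨P⟩ : Nonempty (Sylow p D) := inferInstance
      set D₁ := D'.subgroupOf D
      have hc : ∀ x ∈ D₁, ∀ y : D, x * y = y * x := fun x hx y => Subtype.ext
        (Subgroup.mem_centralizer_iff.mp y.2.1 (x : G) (ih hx))
      have hndvd : ¬ p ∣ Nat.card D' := fun hd => hpi' p hpp hd hp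
      have hPc : Nat.card P = p ^ j := by
        rw [P.card_eq_multiplicity, hmul, Nat.factorization_mul Nat.card_pos.ne'
          (pow_ne_zero j hpp.ne_zero), Finsupp.add_apply, Nat.factorization_eq_zero_of_not_dvd hndvd,
          hpp.factorization_pow, Finsupp.single_eq_same, zero_add]
      have hPn : (P : Subgroup D).Normal := by
        have hcompl : Subgroup.IsComplement' D₁ (P : Subgroup D) := by
          refine Subgroup.isComplement'_of_coprime ?_ ?_
          · rw [Nat.card_congr (Subgroup.subgroupOfEquivOfLe hle).toEquiv, hPc, hmul]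
          · rw [Nat.card_congr (Subgroup.subgroupOfEquivOfLe hle).toEquiv, hPc]
            exact Nat.Coprime.pow_right j ((hpp.coprime_iff_not_dvd.mpr hndvd).symm)
        refine ⟨fun x hx g => ?_⟩
        obtain ⟨⟨d, y⟩, rfl⟩ := hcompl.surjective g
        show (d : D) * (y : D) * x * ((d : D) * (y : D))⁻¹ ∈ (P : Subgroup D)
        have e : (d : D) * (y : D) * x * ((d : D) * (y : D))⁻¹ = (y : D) * x * (y : D)⁻¹ := by
          rw [mul_inv_rev, hc d d.2 (y : D)]
          calc (y : D) * d * x * ((y : D)⁻¹ * (d : D)⁻¹) = (y : D) * ((d : D) * (x * (y : D)⁻¹)) * (d : D)⁻¹ := by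
                group
            _ = _ := by rw [hc d d.2]; group
        rw [e]
        exact mul_mem (mul_mem y.2 hx) (inv_mem y.2)
      haveI := hPn
      haveI : (P : Subgroup D).Characteristic := P.characteristic_of_normal hPn
      have hbot : ((P : Subgroup D).map D.subtype) = ⊥ := by
        rw [eq_bot_iff, ← hcore]
        haveI := Cores.normal_map_subtype D (P : Subgroup D)
        refine Cores.le_piCore fun q hq hqd => ?_
        rw [Subgroup.card_subtype, hPc] at hqd
        exact (Nat.prime_dvd_prime_iff_eq hq hpp).mp (hq.dvd_of_dvd_pow hqd) ▸ hp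
      rw [Subgroup.map_eq_bot_iff_of_injective _ D.subtype_injective] at hbot
      rw [hbot, Subgroup.card_bot] at hPc
      rw [← hPc, mul_one] at hmul
      exact (Subgroup.eq_of_le_of_card_ge hle hmul.le) ▸ ih
    · refine Cores.le_piCore fun q hq hqd => ?_
      rw [card_eq_mul hle] at hqd
      rcases hq.dvd_mul.mp hqd with hd | hd
      · exact hpi' q hq hd
      · exact h q hq (hd.trans hrel)

/-- **Two conjugates of a Hall π-subgroup.** -/
theorem hall_two_conjugates (hbase : ∀ (A : Type u) [Group A] [Finite A], Group.IsSolvable A → ElemBase.{u} A)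
    (h : PiSolv π G) (H : Subgroup G) (hH : IsPiHall π H) :
    ∃ x y : G, H ⊓ MulAut.conj x • H ⊓ MulAut.conj y • H = piCore π G := by
  set O := piCore π G with hO
  have hOpi : Cores.IsPi π O := Cores.piCore_isPi π
  have hOH : O ≤ H := by
    have hd : H.relIndex (H ⊔ O) = 1 := by
      by_contra hne
      obtain ⟨q, hq, hqd⟩ := Nat.exists_prime_and_dvd hne
      refine hH.2 q hq ?_ (hqd.trans (Subgroup.relIndex_dvd_index_of_le le_sup_left))
      refine (Cores.IsPi.sup (show Cores.IsPi π H from hH.1) hOpi) q hq (hqd.trans ?_)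
      exact Subgroup.relIndex_dvd_card _ _
    exact le_sup_right.trans (Subgroup.relIndex_eq_one.mp hd)
  set f := QuotientGroup.mk' O with hf
  have hsur : Function.Surjective f := QuotientGroup.mk'_surjective O
  set Hb := H.map f with hHb
  have hcore : piCore π (G ⧸ O) = ⊥ := Cores.piCore_quotient_self π
  have hsolv := h.quotient O
  set K := piCore {q | q ∉ π} (G ⧸ O) with hK
  have hCK := hsolv.centralizer_le hcore
  haveI hKn : K.Normal := piCore_normal _ _
  have hHpi : ∀ p : ℕ, p.Prime → p ∣ Nat.card Hb → p ∈ π := Cores.IsPi.map (show Cores.IsPi π H from hH.1) f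
  have hs : Group.IsSolvable Hb := hsolv.isSolvable hHpi
  have hcop : (Nat.card Hb).Coprime (Nat.card K) := Nat.coprime_of_dvd fun q hq h1 h2 =>
    (Cores.piCore_isPi _ q hq h2 : q ∉ π) (hHpi q hq h1)
  letI : MulDistribMulAction Hb K :=
    MulDistribMulAction.compHom K ((MulAut.conjNormal (H := K)).comp Hb.subtype)
  have hact : ∀ (a : Hb) (x : K), ((a • x : K) : G ⧸ O) = (a : G ⧸ O) * x * (a : G ⧸ O)⁻¹ :=
    fun a x => MulAut.conjNormal_apply _ _
  have hdisj : ∀ z ∈ Hb, z ∈ K → z = 1 := by
    intro z h1 h2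
    refine orderOf_eq_one_iff.mp (Nat.eq_one_of_dvd_coprimes hcop ?_ ?_)
    · exact Subgroup.orderOf_dvd_natCard Hb h1
    · exact Subgroup.orderOf_dvd_natCard K h2
  haveI : FaithfulSMul Hb K := ⟨fun {a b} e => by
    have hc : ∀ x : K, (b⁻¹ * a) • x = x := fun x => by rw [mul_smul, e x, inv_smul_smul]
    refine (inv_mul_eq_one.mp (Subtype.ext (hdisj _ (b⁻¹ * a).2 (hCK ?_)))).symm
    rw [Subgroup.mem_centralizer_iff]
    intro x hx
    have := congrArg Subtype.val (hc ⟨x, hx⟩)
    rw [hact, mul_inv_eq_iff_eq_mul] at this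
    exact this.symm⟩
  obtain ⟨x, y, hxy⟩ := two_points (hbase Hb hs) hs hcop
  obtain ⟨gx, hgx⟩ := hsur x.1
  obtain ⟨gy, hgy⟩ := hsur y.1
  refine ⟨gx, gy, le_antisymm ?_ (le_inf (le_inf hOH ?_) ?_)⟩
  · rintro z ⟨⟨hz, hzx⟩, hzy⟩
    have key : ∀ (k : K) (g : G), f g = k.1 → z ∈ MulAut.conj g • H →
        (⟨f z, Subgroup.mem_map_of_mem f hz⟩ : Hb) • k = k := by
      intro k g hg hzg
      rw [Coprime.mem_conj_smul] at hzg
      have h2 : k.1⁻¹ * f z * k.1 ∈ Hb := ⟨_, hzg, by simp [hg]⟩
      have h3 : (f z)⁻¹ * (k.1⁻¹ * f z * k.1) ∈ K := by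
        have := mul_mem (hKn.conj_mem _ (inv_mem k.2) (f z)⁻¹) k.2
        convert this using 1
        group
      have h4 := hdisj _ (mul_mem (inv_mem (Subgroup.mem_map_of_mem f hz)) h2) h3
      rw [inv_mul_eq_one] at h4
      refine Subtype.ext ?_
      rw [hact, mul_inv_eq_iff_eq_mul]
      show f z * k.1 = k.1 * f z
      conv_rhs => rw [h4]
      group
    have := congrArg Subtype.val (hxy _ (key x gx hgx hzx) (key y gy hgy hzy))
    exact (QuotientGroup.eq_one_iff z).mp this
  all_goals
    intro z hz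
    rw [Coprime.mem_conj_smul]
    refine hOH ?_
    have := (piCore_normal π G).conj_mem z hz
    first
      | simpa using this gx⁻¹
      | simpa using this gy⁻¹

end Cfsg.Agent.GStructB.CoprimeBase
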