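import Cfsg.Agent.GStructB.CoprimeBase.Top
import Cfsg.Agent.GStructB.CoprimeBase.Field
import Cfsg.Agent.GStructB.CoprimeBase.Imprim
import Cfsg.Agent.GStructB.CoprimeBase.Separable
import Cfsg.Agent.GStructB.OddBase.Main

/-!
# Coprime actions of solvable groups have bases of size two
-/

set_option autoImplicit false
set_option linter.style.haveILetI false
set_option linter.unusedSectionVars false

open MulAction

namespace Cfsg.Agent.GStructB.CoprimeBase

universe u v w

/-- Pairs for faithful actions, in every dimension. -/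
theorem faithOK {p : ℕ} [Fact p.Prime] (hp : p ≠ 2) : ∀ n : ℕ, FaithOK.{u} p n := by
  intro n
  induction n using Nat.strong_induction_on with
  | _ n ih =>
  intro A _ _ V _ _ _ _ hs hcop hexp hV hn
  subst hV
  have ih' : ∀ m < Nat.card V, MainOK.{u} p m := fun m hm => mainOK_of_faithOK (ih m hm)
  haveI : Nontrivial V := Finite.one_lt_card_iff_nontrivial.mp hn
  rcases good_or_irred hs hcop hexp ih' with h | hirr
  · exact h
  by_cases himp : Imprimitive A V
  · exact good_of_imprimitive hs hcop hexp ih' hirr himp
  obtain ⟨K, _, _, _, M, hQ⟩ := exists_quasi (V := V) hs fun B hBn hB =>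
    haveI := hBn
    (field_or_imprimitive hirr hn B hB).resolve_left himp
  exact good_quasi hp hs hcop hexp ih' hQ

/-- Elementary abelian coprime modules of solvable groups. -/
theorem elemBase {A : Type v} [Group A] [Finite A] (hs : Group.IsSolvable A) : ElemBase.{u} A := by
  intro V _ _ _ p hp hexp hcop
  haveI := Fact.mk hp
  rcases subsingleton_or_nontrivial V with hV | hV
  · exact ⟨0, 0, fun a _ _ x => Subsingleton.elim _ _⟩
  obtain ⟨x₀, hx₀⟩ := exists_ne (0 : V)
  have hpV : p ∣ Nat.card V := by
    rw [← addOrderOf_eq_prime (hexp x₀) hx₀]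
    exact addOrderOf_dvd_natCard x₀
  have hcp : (Nat.card A).Coprime p := hcop.coprime_dvd_right hpV
  rcases eq_or_ne p 2 with rfl | hp2
  · let f : A →* (AddMonoid.End V)ˣ := (DistribMulAction.toAddMonoidEnd A V).toHomUnits
    have hf : ∀ (a : A) (x : V), (f.rangeRestrict a) • x = a • x := fun a x => rfl
    haveI : Finite f.range := Finite.of_surjective f.rangeRestrict f.rangeRestrict_surjective
    haveI : FaithfulSMul f.range V := ⟨fun {g h} e => Subtype.ext (Units.ext
      (AddMonoidHom.ext fun x => e x))⟩
    haveI := hs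
    have hs' : Group.IsSolvable f.range := Group.isSolvable_of_surjective f.rangeRestrict_surjective
    have hc' : (Nat.card f.range).Coprime 2 := hcp.coprime_dvd_left (Subgroup.card_range_dvd f)
    obtain ⟨x, y, hxy⟩ := OddBase.base_two hs' (Nat.coprime_two_right.mp hc')
      (complRed_of_coprime (A := f.range) (V := V) hexp hc')
    refine ⟨x, y, fun a h1 h2 z => ?_⟩
    rw [← hf, hxy (f.rangeRestrict a) ((hf a x).trans h1) ((hf a y).trans h2), one_smul]
  · exact pair_of_good (cnum_pos p) (good_of_faithOK (faithOK hp2 _) hs hcp hexp rfl Finite.one_lt_card)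

end Cfsg.Agent.GStructB.CoprimeBase
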