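import Cfsg.Agent.Lib.Coprime.Sylow
import Mathlib

/-!
# Regular orbits depend only on the numbers of fixed points

For a coprime action of a solvable group `A` on a group `K` the numbers `|K^B|` are those of a
product of elementary abelian modules, so the existence of two points with trivial common
stabilizer reduces to that case.
-/

set_option autoImplicit false
set_option linter.style.haveILetI false
set_option linter.unusedSectionVars false

open MulAction

namespace Cfsg.Agent.GStructB.CoprimeBase

universe u v w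

section count

variable {A : Type v} [Group A] [Finite A]

open scoped Classical in
/-- Points fixed by `B`, split by their stabilizers. -/
theorem card_fix_split [Fintype (Subgroup A)] {Z : Type u} [Finite Z] [MulAction A Z]
    (B : Subgroup A) :
    Nat.card {z : Z // ∀ b ∈ B, b • z = z} = Nat.card {z : Z // stabilizer A z = B} +
      ∑ L ∈ Finset.univ.filter (fun L : Subgroup A => B < L),
        Nat.card {z : Z // stabilizer A z = L} := by
  classical
  haveI : Fintype Z := Fintype.ofFinite Z
  simp only [Nat.card_eq_fintype_card, Fintype.card_subtype]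
  rw [← Finset.card_biUnion, ← Finset.card_union_of_disjoint]
  · congr 1
    ext z
    have hle : (∀ b ∈ B, b • z = z) ↔ B ≤ stabilizer A z := Iff.rfl
    simp only [Finset.mem_filter, Finset.mem_univ, true_and, Finset.mem_union,
      Finset.mem_biUnion, hle]
    constructor
    · intro hz
      rcases hz.eq_or_lt with e | e
      · exact Or.inl e.symm
      · exact Or.inr ⟨_, e, rfl⟩
    · rintro (e | ⟨L, hL, e⟩)
      · exact e.ge
      · exact e ▸ hL.le
  · rw [Finset.disjoint_left]
    intro z hz hz'
    simp only [Finset.mem_filter, Finset.mem_univ, true_and, Finset.mem_biUnion] at hz hz'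
    obtain ⟨L, hL, e⟩ := hz'
    exact hL.ne (hz.symm.trans e)
  · intro L _ L' _ hne
    simp only [Function.onFun, Finset.disjoint_left, Finset.mem_filter, Finset.mem_univ, true_and]
    exact fun z e e' => hne (e.symm.trans e')

/-- Equal numbers of fixed points of all subgroups transfer a trivial stabilizer. -/
theorem exists_stabilizer_eq_bot {X : Type u} {Y : Type w} [Finite X] [Finite Y] [MulAction A X]
    [MulAction A Y]
    (h : ∀ B : Subgroup A, Nat.card {x : X // ∀ b ∈ B, b • x = x} =
      Nat.card {y : Y // ∀ b ∈ B, b • y = y})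
    (hy : ∃ y : Y, stabilizer A y = ⊥) : ∃ x : X, stabilizer A x = ⊥ := by
  classical
  haveI : Fintype (Subgroup A) := Fintype.ofFinite _
  have key : ∀ B : Subgroup A, Nat.card {x : X // stabilizer A x = B} =
      Nat.card {y : Y // stabilizer A y = B} := by
    intro B
    induction B using WellFoundedGT.induction with
    | _ B ih =>
      have hX := card_fix_split (Z := X) B
      rw [h B, card_fix_split (Z := Y) B] at hX
      have e : (∑ L ∈ Finset.univ.filter (fun L : Subgroup A => B < L),
          Nat.card {z : X // stabilizer A z = L}) = ∑ L ∈ Finset.univ.filter (fun L : Subgroup A => B < L),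
          Nat.card {z : Y // stabilizer A z = L} :=
        Finset.sum_congr rfl fun L hL => ih L (Finset.mem_filter.mp hL).2
      omega
  obtain ⟨y, hy⟩ := hy
  have hpos : 0 < Nat.card {x : X // stabilizer A x = (⊥ : Subgroup A)} := by
    rw [key]
    haveI : Nonempty {y : Y // stabilizer A y = (⊥ : Subgroup A)} := ⟨⟨y, hy⟩⟩
    exact Nat.card_pos
  obtain ⟨⟨x, hx⟩⟩ := (Nat.card_pos_iff.mp hpos).1
  exact ⟨x, hx⟩

end count

/-- A function of subgroups is realized by a module having a pair whose stabilizer acts trivially. -/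
def Realized (A : Type v) [Group A] (m : Subgroup A → ℕ) : Prop :=
  ∃ (V : Type u) (_ : AddCommGroup V) (_ : Finite V) (_ : DistribMulAction A V),
    (∀ B : Subgroup A, Nat.card {x : V // ∀ b ∈ B, b • x = x} = m B) ∧
    ∃ p q : V, ∀ a : A, a • p = p → a • q = q → ∀ x : V, a • x = x

/-- The base case: elementary abelian coprime modules. -/
def ElemBase (A : Type v) [Group A] : Prop :=
  ∀ (V : Type u) [AddCommGroup V] [Finite V] [DistribMulAction A V] (p : ℕ), p.Prime →
    (∀ x : V, p • x = 0) → (Nat.card A).Coprime (Nat.card V) →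
    ∃ v w : V, ∀ a : A, a • v = v → a • w = w → ∀ x : V, a • x = x

section realized

variable {A : Type v} [Group A]

theorem Realized.one : Realized.{u} A (fun _ => 1) := by
  letI : DistribMulAction A PUnit.{u + 1} :=
    { smul := fun _ _ => PUnit.unit
      one_smul := fun _ => rfl
      mul_smul := fun _ _ _ => rfl
      smul_zero := fun _ => rfl
      smul_add := fun _ _ _ => rfl }
  exact ⟨PUnit, inferInstance, inferInstance, inferInstance, fun B => by
    simp, PUnit.unit, PUnit.unit, fun a _ _ x => rfl⟩

theorem Realized.mul {m m' : Subgroup A → ℕ} (h : Realized.{u} A m) (h' : Realized.{u} A m') :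
    Realized.{u} A (fun B => m B * m' B) := by
  obtain ⟨V, _, _, _, hV, p, q, hpq⟩ := h
  obtain ⟨W, _, _, _, hW, p', q', hpq'⟩ := h'
  refine ⟨V × W, inferInstance, inferInstance, inferInstance, fun B => ?_, (p, p'), (q, q'), ?_⟩
  · show _ = m B * m' B
    rw [← hV, ← hW, ← Nat.card_prod]
    exact Nat.card_congr
      { toFun := fun x => (⟨x.1.1, fun b hb => congrArg Prod.fst (x.2 b hb)⟩,
          ⟨x.1.2, fun b hb => congrArg Prod.snd (x.2 b hb)⟩)
        invFun := fun x => ⟨(x.1.1, x.2.1), fun b hb => Prod.ext (x.1.2 b hb) (x.2.2 b hb)⟩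
        left_inv := fun x => rfl
        right_inv := fun x => rfl }
  · intro a h1 h2 x
    exact Prod.ext (hpq a (congrArg Prod.fst h1) (congrArg Prod.fst h2) x.1)
      (hpq' a (congrArg Prod.snd h1) (congrArg Prod.snd h2) x.2)

theorem Realized.prod {ι : Type*} (s : Finset ι) (m : ι → Subgroup A → ℕ)
    (h : ∀ i ∈ s, Realized.{u} A (m i)) : Realized.{u} A (fun B => ∏ i ∈ s, m i B) := by
  classical
  induction s using Finset.induction_on with
  | empty => simpa using Realized.one
  | insert i s hi ih =>
    simp only [Finset.prod_insert hi]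
    exact (h i (Finset.mem_insert_self i s)).mul (ih fun j hj => h j (Finset.mem_insert_of_mem hj))

end realized

section pgroup

variable {A : Type v} [Group A] [Finite A]

/-- The action on an invariant subgroup. -/
@[reducible] def restrictAct {K : Type u} [Group K] [MulDistribMulAction A K] (P : Subgroup K)
    (hP : ∀ a : A, ∀ x ∈ P, a • x ∈ P) : MulDistribMulAction A P where
  smul a x := ⟨a • x.1, hP a x.1 x.2⟩
  one_smul x := Subtype.ext (one_smul A x.1)
  mul_smul a b x := Subtype.ext (mul_smul a b x.1)
  smul_one a := Subtype.ext (smul_one a)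
  smul_mul a x y := Subtype.ext (smul_mul' a x.1 y.1)

/-- The action on a quotient by an invariant normal subgroup. -/
@[reducible] def quotAct {K : Type u} [Group K] [MulDistribMulAction A K] (N : Subgroup K) [N.Normal]
    (hN : ∀ a : A, ∀ x ∈ N, a • x ∈ N) : MulDistribMulAction A (K ⧸ N) where
  smul a := QuotientGroup.map N N (MulDistribMulAction.toMonoidHom K a) (fun x hx => hN a x hx)
  one_smul x := by
    induction x using QuotientGroup.induction_on with
    | _ x => exact congrArg _ (one_smul A x)
  mul_smul a b x := by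
    induction x using QuotientGroup.induction_on with
    | _ x => exact congrArg _ (mul_smul a b x)
  smul_one a := map_one _
  smul_mul a x y := map_mul _ x y

/-- A coset of a central subgroup of coprime order fixed by `B` contains a fixed point. -/
theorem exists_fixed_coset {K : Type u} [Group K] [Finite K] [MulDistribMulAction A K] (N : Subgroup K)
    (hc : ∀ n ∈ N, ∀ x : K, n * x = x * n) (hN : ∀ a : A, ∀ x ∈ N, a • x ∈ N)
    (hcop : (Nat.card A).Coprime (Nat.card N)) (B : Subgroup A) (k : K)
    (hk : ∀ b ∈ B, k⁻¹ * b • k ∈ N) : ∃ n ∈ N, ∀ b ∈ B, b • (k * n) = k * n := by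
  classical
  haveI : Fintype B := Fintype.ofFinite B
  letI : CommGroup N := { (inferInstance : Group N) with mul_comm := fun a b => Subtype.ext (hc a a.2 b) }
  letI := restrictAct N hN
  let f : B → N := fun b => ⟨k⁻¹ * (b : A) • k, hk b b.2⟩
  have hf : ∀ a b : B, f (a * b) = f a * (a : A) • f b := fun a b => Subtype.ext (by
    show k⁻¹ * ((a * b : B) : A) • k = k⁻¹ * (a : A) • k * (a : A) • (k⁻¹ * (b : A) • k)
    rw [smul_mul', smul_inv', Subgroup.coe_mul, mul_smul]
    group)
  set P := ∏ b : B, f b with hP
  have hPa : ∀ a : B, P = f a ^ Nat.card B * (a : A) • P := by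
    intro a
    calc P = ∏ b : B, f (a * b) := (Fintype.prod_equiv (Equiv.mulLeft a) _ _ fun _ => rfl).symm
      _ = ∏ b : B, f a * (a : A) • f b := Finset.prod_congr rfl fun b _ => hf a b
      _ = _ := by rw [Finset.prod_mul_distrib, Finset.prod_const, Finset.card_univ,
          ← Nat.card_eq_fintype_card, Finset.smul_prod']
  have hcB : (Nat.card N).Coprime (Nat.card B) :=
    (hcop.coprime_dvd_left B.card_subgroup_dvd_card).symm
  obtain ⟨Q, hQ⟩ := (powCoprime hcB).surjective P
  refine ⟨Q.1, Q.2, fun b hb => ?_⟩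
  have h := hPa ⟨b, hb⟩
  rw [← hQ] at h
  simp only [powCoprime_apply] at h
  rw [smul_pow', ← mul_pow] at h
  have e := congrArg Subtype.val ((powCoprime hcB).injective (a₁ := Q) h)
  change (Q : K) = k⁻¹ * b • k * b • (Q : K) at e
  rw [smul_mul']
  conv_rhs => rw [e]
  group

/-- Fixed points of a group with an invariant central subgroup. -/
theorem card_fixed_eq {K : Type u} [Group K] [Finite K] [MulDistribMulAction A K] (N : Subgroup K)
    [N.Normal] (hc : ∀ n ∈ N, ∀ x : K, n * x = x * n) (hN : ∀ a : A, ∀ x ∈ N, a • x ∈ N)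
    (hcop : (Nat.card A).Coprime (Nat.card N)) (B : Subgroup A) :
    letI := restrictAct N hN
    letI := quotAct N hN
    Nat.card {x : K // ∀ b ∈ B, b • x = x} = Nat.card {x : N // ∀ b ∈ B, b • x = x} *
      Nat.card {x : K ⧸ N // ∀ b ∈ B, b • x = x} := by
  let F : Subgroup K :=
    { carrier := {x | ∀ b ∈ B, b • x = x}
      one_mem' := fun b _ => smul_one b
      mul_mem' := fun {x y} hx hy b hb => by rw [smul_mul', hx b hb, hy b hb]
      inv_mem' := fun {x} hx b hb => by rw [smul_inv', hx b hb] }
  let π : F →* K ⧸ N := (QuotientGroup.mk' N).comp F.subtype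
  have h := π.ker.card_mul_index
  rw [Subgroup.index_ker] at h
  rw [show Nat.card {x : K // ∀ b ∈ B, b • x = x} = Nat.card F from rfl, ← h]
  congr 1
  · exact Nat.card_congr
      { toFun := fun x => ⟨⟨x.1.1, (QuotientGroup.eq_one_iff _).mp x.2⟩,
          fun b hb => Subtype.ext (x.1.2 b hb)⟩
        invFun := fun x => ⟨⟨x.1.1, fun b hb => congrArg Subtype.val (x.2 b hb)⟩,
          (QuotientGroup.eq_one_iff _).mpr x.1.2⟩
        left_inv := fun x => rfl
        right_inv := fun x => rfl }
  · refine Nat.card_congr (Equiv.subtypeEquivRight fun x => ?_)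
    constructor
    · rintro ⟨y, rfl⟩ b hb
      exact congrArg (QuotientGroup.mk' N) (y.2 b hb)
    · intro hx
      induction x using QuotientGroup.induction_on with
      | _ k =>
        obtain ⟨n, hn, hfix⟩ := exists_fixed_coset N hc hN hcop B k fun b hb =>
          QuotientGroup.eq.mp (hx b hb).symm
        exact ⟨⟨k * n, hfix⟩, QuotientGroup.eq.mpr (by simpa using inv_mem hn)⟩

/-- The numbers of fixed points on a group of prime power order are realized. -/
theorem realized_pgroup (hbase : ElemBase.{u} A) {p : ℕ} [hp : Fact p.Prime] :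
    ∀ (n : ℕ) (K : Type u) [Group K] [Finite K] [MulDistribMulAction A K],
      Nat.card K = n → IsPGroup p K → (Nat.card A).Coprime (Nat.card K) →
      Realized.{u} A (fun B => Nat.card {x : K // ∀ b ∈ B, b • x = x}) := by
  intro n
  induction n using Nat.strong_induction_on with
  | _ n ih =>
  intro K _ _ _ hn hK hcop
  subst hn
  have split : ∀ N : Subgroup K, (∀ x ∈ N, ∀ y : K, x * y = y * x) →
      (∀ a : A, ∀ x ∈ N, a • x ∈ N) → N ≠ ⊥ → N ≠ ⊤ →
      Realized.{u} A (fun B => Nat.card {x : K // ∀ b ∈ B, b • x = x}) := by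
    intro N hc hN hb ht
    haveI : N.Normal := ⟨fun x hx g => by rw [← hc x hx g, mul_inv_cancel_right]; exact hx⟩
    have hcN := hcop.coprime_dvd_right N.card_subgroup_dvd_card
    simp only [card_fixed_eq N hc hN hcN]
    letI := restrictAct N hN
    letI := quotAct N hN
    have h := N.card_mul_index
    refine Realized.mul (ih _ ?_ N rfl (hK.to_subgroup N) hcN)
      (ih _ ?_ (K ⧸ N) rfl (hK.to_quotient N) (hcop.coprime_dvd_right N.card_quotient_dvd_card))
    · exact lt_of_le_of_ne N.card_le_card_group fun e => ht (N.eq_top_of_card_eq e)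
    · rw [← Subgroup.index_eq_card]
      have h1 : 1 < Nat.card N := N.one_lt_card_iff_ne_bot.mpr hb
      have h2 : 0 < N.index := Nat.pos_of_ne_zero Subgroup.index_ne_zero_of_finite
      nlinarith
  rcases subsingleton_or_nontrivial K with h1 | h1
  · refine (congrArg (Realized.{u} A) ?_).mp Realized.one
    funext B
    exact (Nat.card_eq_one_iff_unique.mpr
      ⟨inferInstance, ⟨⟨1, fun b _ => smul_one b⟩⟩⟩).symm
  by_cases hab : ∀ x y : K, x * y = y * x
  · by_cases hel : ∀ x : K, x ^ p = 1
    · letI : CommGroup K := { (inferInstance : Group K) with mul_comm := hab }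
      let act : DistribMulAction A (Additive K) :=
        { smul := fun a x => Additive.ofMul (a • x.toMul)
          one_smul := fun x => congrArg Additive.ofMul (one_smul A x.toMul)
          mul_smul := fun a b x => congrArg Additive.ofMul (mul_smul a b x.toMul)
          smul_zero := fun a => congrArg Additive.ofMul (smul_one a)
          smul_add := fun a x y => congrArg Additive.ofMul (smul_mul' a x.toMul y.toMul) }
      obtain ⟨v, w, hvw⟩ := @hbase (Additive K) _ _ act p hp.out
        (fun x => congrArg Additive.ofMul (hel x.toMul)) hcop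
      exact ⟨Additive K, inferInstance, inferInstance, act, fun B => rfl, v, w, hvw⟩
    · push Not at hel
      obtain ⟨x₀, hx₀⟩ := hel
      letI : CommGroup K := { (inferInstance : Group K) with mul_comm := hab }
      refine split (powMonoidHom p : K →* K).ker (fun x _ y => hab x y)
        (fun a x hx => ?_) ?_ fun e => hx₀ ?_
      · simp only [MonoidHom.mem_ker, powMonoidHom_apply] at hx ⊢
        rw [← smul_pow', hx, smul_one]
      · obtain ⟨k, hk⟩ := IsPGroup.iff_card.mp hK
        have hk0 : k ≠ 0 := fun e => by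
          rw [e, pow_zero] at hk
          exact absurd hk (Finite.one_lt_card).ne'
        obtain ⟨y, hy⟩ := exists_prime_orderOf_dvd_card' (G := K) p (hk ▸ dvd_pow_self p hk0)
        intro e
        have hy1 : y ∈ (powMonoidHom p : K →* K).ker := by
          rw [MonoidHom.mem_ker, powMonoidHom_apply, ← hy, pow_orderOf_eq_one]
        rw [e, Subgroup.mem_bot] at hy1
        rw [hy1, orderOf_one] at hy
        exact hp.out.ne_one hy.symm
      · exact MonoidHom.mem_ker.mp (show x₀ ∈ (powMonoidHom p : K →* K).ker from e ▸ Subgroup.mem_top x₀)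
  · haveI := hK.center_nontrivial
    refine split (Subgroup.center K) (fun x hx y => (Subgroup.mem_center_iff.mp hx y).symm)
      (fun a x hx => Subgroup.mem_center_iff.mpr fun y => ?_)
      ((Subgroup.nontrivial_iff_ne_bot _).mp inferInstance) fun e => hab fun x y =>
        (Subgroup.mem_center_iff.mp (e ▸ Subgroup.mem_top x : x ∈ Subgroup.center K) y).symm
    rw [← smul_inv_smul a y, ← smul_mul', ← smul_mul', Subgroup.mem_center_iff.mp hx]

end pgroup

section general

variable {A : Type v} [Group A] [Finite A] {K : Type u} [Group K] [Finite K] [MulDistribMulAction A K]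

open scoped Pointwise in
/-- The order of the fixed points on an invariant Sylow subgroup. -/
theorem card_fixed_sylow {Γ : Type w} [Group Γ] [Finite Γ] {B A' K' : Subgroup Γ} {p : ℕ}
    [Fact p.Prime] (hBA : B ≤ A') (hAK : A' ≤ Subgroup.normalizer (K' : Set Γ))
    (hcop : (Nat.card A').Coprime (Nat.card K')) (hs : Group.IsSolvable A')
    (P : Sylow p K') (hP : A' ≤ Subgroup.normalizer ((P : Subgroup K').map K'.subtype : Set Γ)) :
    Nat.card ↥((P : Subgroup K').map K'.subtype ⊓ Subgroup.centralizer (B : Set Γ)) =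
      p ^ (Nat.card ↥(K' ⊓ Subgroup.centralizer (B : Set Γ))).factorization p := by
  set F := K' ⊓ Subgroup.centralizer (B : Set Γ) with hF
  set P' := (P : Subgroup K').map K'.subtype with hP'
  have hcopB := hcop.coprime_dvd_left (Subgroup.card_dvd_of_le hBA)
  have hsB := Coprime.isSolvable_of_le hBA hs
  obtain ⟨T⟩ : Nonempty (Sylow p F) := inferInstance
  have hT : IsPGroup p ((T : Subgroup F).map F.subtype) := T.2.map _
  have hTF : (T : Subgroup F).map F.subtype ≤ F := Subgroup.map_subtype_le _
  obtain ⟨Q, hTQ, hQ⟩ := Coprime.exists_invariant_sylow_ge (A := B) (hBA.trans hAK) hcopB (Or.inl hsB)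
    (hTF.trans inf_le_left) hT (fun b hb => Subgroup.centralizer_le_normalizer _ (by
      rw [Subgroup.mem_centralizer_iff]
      intro x hx
      exact (Subgroup.mem_centralizer_iff.mp (hTF hx).2 b hb).symm))
  obtain ⟨c, hc, hceq⟩ := Coprime.exists_centralizer_conj_sylow (hBA.trans hAK) hcopB (Or.inl hsB)
    Q P hQ (hBA.trans hP)
  have hle : MulAut.conj (c : Γ) • (T : Subgroup F).map F.subtype ≤
      P' ⊓ Subgroup.centralizer (B : Set Γ) := by
    refine le_inf ?_ ?_
    · rw [hP', ← hceq, Coprime.sylow_map_smul]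
      exact Subgroup.pointwise_smul_le_pointwise_smul_iff.mpr hTQ
    · intro x hx
      rw [Coprime.mem_conj_smul] at hx
      have h := mul_mem (mul_mem hc (hTF hx).2) (inv_mem hc)
      simpa [mul_assoc] using h
  have hup : Nat.card ↥(P' ⊓ Subgroup.centralizer (B : Set Γ)) ∣
      p ^ (Nat.card F).factorization p := by
    obtain ⟨j, hj⟩ := IsPGroup.iff_card.mp
      ((P.2.map K'.subtype).to_le (inf_le_left (b := Subgroup.centralizer (B : Set Γ))))
    rw [hj]
    refine pow_dvd_pow p (((Fact.out : p.Prime).pow_dvd_iff_le_factorization Nat.card_pos.ne').mp ?_)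
    rw [← hj]
    exact Subgroup.card_dvd_of_le (inf_le_inf_right _ (Subgroup.map_subtype_le _))
  have hlow : p ^ (Nat.card F).factorization p ∣ Nat.card ↥(P' ⊓ Subgroup.centralizer (B : Set Γ)) := by
    rw [← T.card_eq_multiplicity, ← Subgroup.card_subtype F (T : Subgroup F),
      ← Coprime.card_conj_smul (c : Γ)]
    exact Subgroup.card_dvd_of_le hle
  exact Nat.dvd_antisymm hup hlow

/-- The numbers of fixed points of a coprime action are realized. -/
theorem realized_group (hbase : ElemBase.{u} A) (hs : Group.IsSolvable A)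
    (hcop : (Nat.card A).Coprime (Nat.card K)) :
    Realized.{u} A (fun B => Nat.card {x : K // ∀ b ∈ B, b • x = x}) := by
  classical
  let Γ := K ⋊[MulDistribMulAction.toMulAut A K] A
  haveI : Finite Γ := Finite.of_equiv _ SemidirectProduct.equivProd.symm
  set i : K →* Γ := SemidirectProduct.inl with hi
  set j : A →* Γ := SemidirectProduct.inr with hj
  have hij : ∀ (a : A) (x : K), i (a • x) = j a * i x * (j a)⁻¹ := fun a x => by
    rw [← map_inv]; exact SemidirectProduct.inl_aut a x
  have hiinj : Function.Injective i := SemidirectProduct.inl_injective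
  have hjinj : Function.Injective j := SemidirectProduct.inr_injective
  set K' := i.range
  set A' := j.range
  have hAK : A' ≤ Subgroup.normalizer (K' : Set Γ) := by
    rintro _ ⟨a, rfl⟩
    rw [Subgroup.mem_normalizer_iff]
    intro x
    constructor
    · rintro ⟨y, rfl⟩
      exact ⟨a • y, hij a y⟩
    · rintro ⟨y, hy⟩
      refine ⟨a⁻¹ • y, ?_⟩
      rw [hij, hy, map_inv, inv_inv]
      group
  have hcop' : (Nat.card A').Coprime (Nat.card K') := by
    rwa [← Nat.card_congr (MonoidHom.ofInjective hjinj).toEquiv,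
      ← Nat.card_congr (MonoidHom.ofInjective hiinj).toEquiv]
  have hsA' : Group.IsSolvable A' := by
    haveI := hs
    exact Group.isSolvable_of_surjective j.rangeRestrict_surjective
  have hfix : ∀ (B : Subgroup A) (P : Subgroup K), Nat.card ↥(P.map i ⊓ Subgroup.centralizer
      ((B.map j : Subgroup Γ) : Set Γ)) = Nat.card {x : K // x ∈ P ∧ ∀ b ∈ B, b • x = x} := by
    intro B P
    have hmem : ∀ x : {x : K // x ∈ P ∧ ∀ b ∈ B, b • x = x},
        i x.1 ∈ Subgroup.centralizer ((B.map j : Subgroup Γ) : Set Γ) := fun x => by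
      rw [Subgroup.mem_centralizer_iff]
      rintro _ ⟨b, hb, rfl⟩
      have h := hij b x.1
      rw [x.2.2 b hb, eq_mul_inv_iff_mul_eq] at h
      exact h.symm
    refine (Nat.card_eq_of_bijective (fun x : {x : K // x ∈ P ∧ ∀ b ∈ B, b • x = x} =>
      (⟨i x.1, Subgroup.mem_map_of_mem i x.2.1, hmem x⟩ : ↥(P.map i ⊓ Subgroup.centralizer
        ((B.map j : Subgroup Γ) : Set Γ)))) ⟨?_, ?_⟩).symm
    · intro x y e
      exact Subtype.ext (hiinj (congrArg Subtype.val e :))
    · rintro ⟨_, ⟨x, hx, rfl⟩, hc⟩
      refine ⟨⟨x, hx, fun b hb => hiinj ?_⟩, rfl⟩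
      rw [hij, Subgroup.mem_centralizer_iff.mp hc (j b) (Subgroup.mem_map_of_mem j hb),
        mul_inv_cancel_right]
  set S := (Nat.card K).primeFactors
  have hex : ∀ p : S, ∃ P : Subgroup K, IsPGroup (p : ℕ) P ∧ (∀ a : A, ∀ x ∈ P, a • x ∈ P) ∧
      ∀ B : Subgroup A, Nat.card {x : K // x ∈ P ∧ ∀ b ∈ B, b • x = x} =
        (p : ℕ) ^ (Nat.card {x : K // ∀ b ∈ B, b • x = x}).factorization p := by
    intro p
    haveI := Fact.mk (Nat.prime_of_mem_primeFactors p.2)
    obtain ⟨P, hP⟩ := Coprime.exists_invariant_sylow (p : ℕ) hAK hcop' (Or.inl hsA')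
    refine ⟨((P : Subgroup K').map K'.subtype).comap i,
      (P.2.map K'.subtype).comap_of_injective i hiinj, fun a x hx => ?_, fun B => ?_⟩
    · rw [Subgroup.mem_comap, hij]
      exact (Subgroup.mem_normalizer_iff.mp (hP ⟨a, rfl⟩) _).mp hx
    · rw [← hfix, Subgroup.map_comap_eq_self (Subgroup.map_subtype_le _),
        card_fixed_sylow (Subgroup.map_le_range j B) hAK hcop' hsA' P hP,
        show K' = (⊤ : Subgroup K).map i from MonoidHom.range_eq_map i, hfix]
      simp
  choose P hPp hPinv hPcard using hex
  haveI : ∀ p : S, Fact (p : ℕ).Prime := fun p => ⟨Nat.prime_of_mem_primeFactors p.2⟩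
  have hre := Realized.prod.{u} (A := A) S.attach
    (fun p B => (p : ℕ) ^ (Nat.card {x : K // ∀ b ∈ B, b • x = x}).factorization p) (fun p _ => by
      simp only [← hPcard p]
      letI := restrictAct (P p) (hPinv p)
      refine (congrArg (Realized.{u} A) ?_).mp (realized_pgroup hbase _ (P p) rfl (hPp p)
        (hcop.coprime_dvd_right (P p).card_subgroup_dvd_card))
      funext B
      exact Nat.card_congr
        { toFun := fun x => ⟨x.1.1, x.1.2, fun b hb => congrArg Subtype.val (x.2 b hb)⟩
          invFun := fun x => ⟨⟨x.1, x.2.1⟩, fun b hb => Subtype.ext (x.2.2 b hb)⟩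
          left_inv := fun x => rfl
          right_inv := fun x => rfl })
  refine (congrArg (Realized.{u} A) ?_).mp hre
  funext B
  set F := Nat.card {x : K // ∀ b ∈ B, b • x = x}
  have hF0 : F ≠ 0 := by
    haveI : Nonempty {x : K // ∀ b ∈ B, b • x = x} := ⟨⟨1, fun b _ => smul_one b⟩⟩
    exact Nat.card_pos.ne'
  have hdvd : F ∣ Nat.card K := by
    let F' : Subgroup K :=
      { carrier := {x | ∀ b ∈ B, b • x = x}
        one_mem' := fun b _ => smul_one b
        mul_mem' := fun {x y} hx hy b hb => by rw [smul_mul', hx b hb, hy b hb]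
        inv_mem' := fun {x} hx b hb => by rw [smul_inv', hx b hb] }
    exact F'.card_subgroup_dvd_card
  rw [Finset.prod_attach S (fun p => p ^ F.factorization p)]
  conv_rhs => rw [← Nat.prod_factorization_pow_eq_self hF0]
  exact (Finset.prod_subset (Nat.primeFactors_mono hdvd Nat.card_pos.ne') fun p _ hp => by
    rw [Finsupp.notMem_support_iff.mp hp, pow_zero]).symm

/-- **Two points with trivial common stabilizer**, given the elementary abelian case. -/
theorem two_points [FaithfulSMul A K] (hbase : ElemBase.{u} A) (hs : Group.IsSolvable A)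
    (hcop : (Nat.card A).Coprime (Nat.card K)) :
    ∃ x y : K, ∀ a : A, a • x = x → a • y = y → a = 1 := by
  obtain ⟨V, _, _, _, hV, p, q, hpq⟩ := realized_group hbase hs hcop
  have hker : ∀ a : A, (∀ x : V, a • x = x) → a = 1 := by
    intro a ha
    have hB : ∀ b ∈ Subgroup.zpowers a, ∀ x : V, b • x = x := fun b hb x =>
      (Subgroup.zpowers_le (H := stabilizer A x)).mpr (ha x) hb
    have h1 := hV (Subgroup.zpowers a)
    have h2 := hV ⊥
    have e1 : Nat.card {x : V // ∀ b ∈ Subgroup.zpowers a, b • x = x} = Nat.card V :=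
      Nat.card_congr (Equiv.subtypeUnivEquiv fun x b hb => hB b hb x)
    have e2 : Nat.card {x : V // ∀ b ∈ (⊥ : Subgroup A), b • x = x} = Nat.card V :=
      Nat.card_congr (Equiv.subtypeUnivEquiv fun x b hb => by
        rw [Subgroup.mem_bot.mp hb, one_smul])
    have e3 : Nat.card {x : K // ∀ b ∈ (⊥ : Subgroup A), b • x = x} = Nat.card K :=
      Nat.card_congr (Equiv.subtypeUnivEquiv fun x b hb => by
        rw [Subgroup.mem_bot.mp hb, one_smul])
    simp only at h1 h2
    rw [e1] at h1
    rw [e2, e3] at h2
    rw [h2] at h1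
    let F' : Subgroup K :=
      { carrier := {x | ∀ b ∈ Subgroup.zpowers a, b • x = x}
        one_mem' := fun b _ => smul_one b
        mul_mem' := fun {x y} hx hy b hb => by rw [smul_mul', hx b hb, hy b hb]
        inv_mem' := fun {x} hx b hb => by rw [smul_inv', hx b hb] }
    have htop : F' = ⊤ := Subgroup.eq_top_of_card_eq F' h1.symm
    refine eq_of_smul_eq_smul fun x : K => ?_
    rw [one_smul]
    exact (htop ▸ Subgroup.mem_top x : x ∈ F') a (Subgroup.mem_zpowers a)
  obtain ⟨⟨x, y⟩, hxy⟩ := exists_stabilizer_eq_bot (A := A) (X := K × K) (Y := V × V) (fun B => by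
    have e : ∀ (T : Type _) [MulAction A T], Nat.card {z : T × T // ∀ b ∈ B, b • z = z} =
        Nat.card {x : T // ∀ b ∈ B, b • x = x} ^ 2 := fun T _ => by
      rw [sq, ← Nat.card_prod]
      exact Nat.card_congr
        { toFun := fun x => (⟨x.1.1, fun b hb => congrArg Prod.fst (x.2 b hb)⟩,
            ⟨x.1.2, fun b hb => congrArg Prod.snd (x.2 b hb)⟩)
          invFun := fun x => ⟨(x.1.1, x.2.1), fun b hb => Prod.ext (x.1.2 b hb) (x.2.2 b hb)⟩
          left_inv := fun x => rfl
          right_inv := fun x => rfl }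
    rw [e, e, hV]) ⟨(p, q), by
      rw [Subgroup.eq_bot_iff_forall]
      intro a ha
      exact hker a (hpq a (congrArg Prod.fst ha :) (congrArg Prod.snd ha :))⟩
  exact ⟨x, y, fun a hx hy => Subgroup.mem_bot.mp (hxy ▸ mem_stabilizer_iff.mpr (Prod.ext hx hy))⟩

end general

end Cfsg.Agent.GStructB.CoprimeBase
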