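import Cfsg.Agent.GStructB.CoprimeBase.Coord
import Cfsg.Agent.GStructB.CoprimeBase.Node

/-!
# Normal forms

The generators of `M` act by fixed monomial rows, or by the quaternion rows in the last step, in a
basis adapted to a sequence of splittings.
-/

set_option autoImplicit false
set_option linter.style.haveILetI false
set_option linter.unusedSectionVars false

open MulAction

namespace Cfsg.Agent.GStructB.CoprimeBase

universe u v w

/-- The rows of the splitting element. -/
def dRows (q n : ℕ) : Rows := (List.range (n + n)).map fun i => [(if i < n then 1 else q - 1, i)]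

/-- The rows of the partner. -/
def xRows (n : ℕ) : Rows := (List.range (n + n)).map fun i => [(1, if i < n then i + n else i - n)]

/-- The rows of an element acting alike on both halves. -/
def dblRows (n : ℕ) (R : Rows) : Rows := R ++ R.map (List.map fun p => (p.1, p.2 + n))

/-- The generators after a splitting. -/
def liftRows (q n : ℕ) (gs : List Rows) : List Rows := dRows q n :: xRows n :: gs.map (dblRows n)

/-- The quaternion group on a plane over three elements. -/
def q8Rows : List Rows := [[[(2, 1)], [(1, 0)]], [[(1, 0), (1, 1)], [(1, 0), (2, 1)]]]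

/-- The product of the generators in the bits of `z`. -/
def gprod {G : Type v} [Group G] (γ : ℕ → G) (z : ℕ) (bs : List ℕ) : G :=
  bs.foldr (fun b r => if z.testBit b then γ b * r else r) 1

section coord

variable {K : Type u} [Field K] {G : Type v} [Group G] {V : Type w} [AddCommGroup V] [Module K V]
  [DistribMulAction G V] {M A : Subgroup G} {q n : ℕ} {gs : List Rows} {γ : ℕ → G} {e : ℕ → V}

theorem gprod_mem (S : Subgroup G) (z : ℕ) : ∀ bs : List ℕ, (∀ b ∈ bs, γ b ∈ S) → gprod γ z bs ∈ S := by
  intro bs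
  induction bs with
  | nil => exact fun _ => S.one_mem
  | cons b bs ih =>
    intro h
    have h' := ih fun c hc => h c (List.mem_cons_of_mem b hc)
    show (if z.testBit b then γ b * gprod γ z bs else gprod γ z bs) ∈ S
    split_ifs
    · exact S.mul_mem (h b List.mem_cons_self) h'
    · exact h'

theorem gprod_ev (hact : ∀ b < gs.length, ∀ l, γ b • ev K n e l = ev K n e (rowApp q (gs.getD b []) l))
    (z : ℕ) : ∀ bs : List ℕ, (∀ b ∈ bs, b < gs.length) → ∀ l, gprod γ z bs • ev K n e l =
      ev K n e (bs.foldr (fun b r => if z.testBit b then rowApp q (gs.getD b []) r else r) l) := by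
  intro bs
  induction bs with
  | nil => exact fun _ l => one_smul G _
  | cons b bs ih =>
    intro hbs l
    have h' := ih (fun c hc => hbs c (List.mem_cons_of_mem b hc)) l
    show (if z.testBit b then γ b * gprod γ z bs else gprod γ z bs) • ev K n e l = _
    rw [List.foldr_cons]
    split_ifs with hz
    · rw [mul_smul, h', hact b (hbs b List.mem_cons_self)]
    · exact h'

theorem ev_rows {R : Rows} (hq : (q : K) = 0) (j : ℕ) :
    ev K n e (rowApp q R (unitL n j)) = ∑ i ∈ Finset.range n,
      (((R.getD i []).map fun p => (p.1 : K) * ((unitL n j).getD p.2 0 : K)).sum) • e i := by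
  rw [ev]
  exact Finset.sum_congr rfl fun i _ => by rw [getD_rowApp hq]

theorem ev_monomial {R : Rows} (hq : (q : K) = 0) (c π : ℕ → ℕ) (hR : ∀ i < n, R.getD i [] = [(c i, π i)])
    (hπ : ∀ i < n, π i < n) {i₀ j : ℕ} (hi₀ : i₀ < n) (hj : π i₀ = j) (huniq : ∀ i < n, π i = j → i = i₀) :
    ev K n e (rowApp q R (unitL n j)) = (c i₀ : K) • e i₀ := by
  rw [ev_rows hq, Finset.sum_eq_single i₀]
  · rw [hR i₀ hi₀]
    simp only [List.map_cons, List.map_nil, List.sum_cons, List.sum_nil, add_zero]
    rw [unitL, getD_map_range n _ _ (hπ i₀ hi₀)]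
    simp [hj]
  · intro i hi hne
    rw [hR i (Finset.mem_range.mp hi)]
    have : π i ≠ j := fun h => hne (huniq i (Finset.mem_range.mp hi) h)
    simp only [List.map_cons, List.map_nil, List.sum_cons, List.sum_nil, add_zero]
    rw [unitL, getD_map_range n _ _ (hπ i (Finset.mem_range.mp hi))]
    simp [this]
  · exact fun h => absurd (Finset.mem_range.mpr hi₀) h

/-- Every scalar is a small natural number. -/
theorem exists_natCast [Finite K] (hq : q.Prime) (hK : Nat.card K = q) (k : K) : ∃ a < q, (a : K) = k := by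
  haveI := Fintype.ofFinite K
  haveI := Fact.mk hq
  haveI : CharP K q := charP_of_card_eq_prime (by rw [← Nat.card_eq_fintype_card, hK])
  have hbij : Function.Bijective (ZMod.castHom (dvd_refl q) K) :=
    (Nat.bijective_iff_injective_and_card _).mpr ⟨RingHom.injective _, by rw [Nat.card_zmod, hK]⟩
  obtain ⟨a, rfl⟩ := hbij.2 k
  exact ⟨a.val, a.val_lt, by rw [ZMod.castHom_apply, ZMod.natCast_val]⟩

theorem Model.word_cast [Finite K] (hq : q.Prime) (hK : Nat.card K = q) {k : K} (hk : k ≠ 0) :
    ∃ a, a + 1 < q ∧ ((a + 1 : ℕ) : K) = k := by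
  obtain ⟨a, ha, rfl⟩ := exists_natCast hq hK k
  obtain ⟨a', rfl⟩ : ∃ a', a = a' + 1 := ⟨a - 1, by
    have : a ≠ 0 := fun h => hk (by rw [h, Nat.cast_zero])
    omega⟩
  exact ⟨a', ha, rfl⟩

/-- The cover of a model, by products of generators. -/
theorem Model.cover' (hM : Model K V M q n gs γ e) (hF : Frame K V M A) {m : G} (hm : m ∈ M) :
    ∃ z < nWords q gs, ∀ x : V, m • x =
      ((z / 2 ^ gs.length + 1 : ℕ) : K) • gprod γ z (List.range gs.length) • x := by
  obtain ⟨z, hz, hzl⟩ := hM.cover m hm
  refine ⟨z, hz, fun x => ?_⟩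
  obtain ⟨l, hl, rfl⟩ := hM.span x
  rw [hzl l hl, wApp, ev_scale hM.q_zero,
    gprod_ev (fun b hb => hM.gen_ev hF hb) z (List.range gs.length) fun b hb => List.mem_range.mp hb]

/-- Subgroups containing generators and scalars reach all of `M`. -/
theorem Model.exists_in (hM : Model K V M q n gs γ e) (hF : Frame K V M A) [CharP K q] (S : Subgroup G)
    (hγ : ∀ b < gs.length, γ b ∈ S) (hscal : ∀ m ∈ M, IsScal K V m → m ∈ S) {m : G} (hm : m ∈ M) :
    ∃ m' ∈ S, ∀ x : V, m • x = m' • x := by
  obtain ⟨z, hz, hzx⟩ := hM.cover' hF hm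
  obtain ⟨k, hk, hkx⟩ := hF.scal _ (hM.scalar_ne_zero hz)
  exact ⟨k * gprod γ z (List.range gs.length), S.mul_mem (hscal k hk ⟨_, hkx⟩)
    (gprod_mem S z _ fun b hb => hγ b (List.mem_range.mp hb)),
    fun x => by rw [hzx, mul_smul, hkx]⟩

/-- A line. -/
theorem model_line [Finite K] [Finite V] [Nontrivial V] (hF : Frame K V M A) (hq : q.Prime)
    (hK : Nat.card K = q) (h1 : Module.finrank K V = 1) :
    ∃ (γ : ℕ → G) (e : ℕ → V), Model K V M q 1 [] γ e := by
  haveI := Fintype.ofFinite K
  haveI := Fact.mk hq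
  haveI : CharP K q := charP_of_card_eq_prime (by rw [← Nat.card_eq_fintype_card, hK])
  haveI : Module.Finite K V := Module.Finite.of_finite
  obtain ⟨x₀, hx₀, hspan⟩ := finrank_eq_one_iff'.mp h1
  refine ⟨fun _ => 1, fun _ => x₀, hq.one_lt, CharP.cast_eq_zero K q, by simp, by simp, by simp,
    fun l l' hl hl' h => ?_, fun x => ?_, fun m hm => ?_, fun b hb => absurd hb (Nat.not_lt_zero b)⟩
  · obtain ⟨a, rfl⟩ := List.length_eq_one_iff.mp hl.1
    obtain ⟨b, rfl⟩ := List.length_eq_one_iff.mp hl'.1
    simp only [ev, Finset.sum_range_one, List.getD_cons_zero] at h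
    have h' := smul_left_injective K hx₀ h
    rw [CharP.natCast_eq_natCast K q] at h'
    have ha : a < q := hl.2 a (by simp)
    have hb : b < q := hl'.2 b (by simp)
    rw [Nat.ModEq, Nat.mod_eq_of_lt ha, Nat.mod_eq_of_lt hb] at h'
    rw [h']
  · obtain ⟨k, rfl⟩ := hspan x
    obtain ⟨a, ha, rfl⟩ := exists_natCast hq hK k
    exact ⟨[a], ⟨rfl, by simpa using ha⟩, by simp [ev]⟩
  · obtain ⟨k, hk⟩ := scal_of_finrank_one hF h1 hm
    obtain ⟨a, ha, rfl⟩ := Model.word_cast hq hK (scal_ne_zero hk)
    refine ⟨a, by simp [nWords]; omega, fun l _ => ?_⟩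
    rw [hk, wApp, ev_scale (CharP.cast_eq_zero K q)]
    simp

/-- The quaternion plane. -/
theorem model_q8 [Finite G] [Finite K] [Finite V] [Nontrivial V] (hF : Frame K V M A)
    (hK : Nat.card K = 3) (h2 : Module.finrank K V = 2) (hsr : Semireg V M)
    (hns : ∃ z ∈ M, ¬ IsScal K V z) :
    ∃ (γ : ℕ → G) (e : ℕ → V), Model K V M 3 2 q8Rows γ e := by
  haveI := Fintype.ofFinite K
  haveI : Fact (Nat.Prime 3) := ⟨Nat.prime_three⟩
  haveI : CharP K 3 := charP_of_card_eq_prime (by rw [← Nat.card_eq_fintype_card, hK])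
  have h2K : (2 : K) ≠ 0 := two_ne_zero_of_char (p := 3) (by norm_num)
  obtain ⟨m, hm, hmns⟩ := hns
  obtain ⟨⟨y, hQ⟩, -⟩ := hsr.four hF h2K hm hmns
  have hval : ∀ k : K, k ≠ 0 → k = 1 ∨ k = -1 := by
    intro k hk
    obtain ⟨a, ha, rfl⟩ := exists_natCast Nat.prime_three hK k
    interval_cases a
    · simp at hk
    · simp
    · right
      have : ((3 : ℕ) : K) = 0 := CharP.cast_eq_zero K 3
      push_cast at this ⊢
      linear_combination this
  have hmm : ∀ x : V, m • m • x = -x := by
    intro x
    obtain ⟨a, ha⟩ := hsr.sq_scal hF hm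
    rcases hval a (scal_ne_zero ha) with h | h
    · exact absurd (h ▸ IsSquare.one) (hsr.nonsquare hF h2K hm hmns ha)
    · rw [← mul_smul, ha, h, neg_one_smul]
  obtain ⟨e₀, he₀⟩ := exists_ne (0 : V)
  have hme : ∀ k : K, m • e₀ ≠ k • e₀ := by
    intro k h
    have hk0 : k ≠ 0 := fun e0 => he₀ (by rwa [e0, zero_smul, smul_eq_zero_iff_eq] at h)
    obtain ⟨n', hn, hnk⟩ := hF.scal k hk0
    exact hmns ⟨k, fun x => by rw [hsr.eq_of hm hn he₀ (h.trans (hnk e₀).symm) x, hnk]⟩
  let e : ℕ → V := fun i => if i = 0 then e₀ else m • e₀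
  have hev : ∀ a b : ℕ, ev K 2 e [a, b] = (a : K) • e₀ + (b : K) • m • e₀ := fun a b => by
    simp [ev, e, Finset.sum_range_succ]
  have hinj : ∀ l l', IsVec 3 2 l → IsVec 3 2 l' → ev K 2 e l = ev K 2 e l' → l = l' := by
    intro l l' hl hl' h
    obtain ⟨a, b, rfl⟩ := List.length_eq_two.mp hl.1
    obtain ⟨a', b', rfl⟩ := List.length_eq_two.mp hl'.1
    rw [hev, hev] at h
    have h' : ((b : K) - b') • m • e₀ = ((a' : K) - a) • e₀ := by
      rw [sub_smul, sub_smul, sub_eq_sub_iff_add_eq_add, add_comm, h]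
    have hbb : (b : K) = b' := by
      by_contra hne
      refine hme (((b : K) - b')⁻¹ * ((a' : K) - a)) ?_
      rw [mul_smul, ← h', smul_smul, inv_mul_cancel₀ (sub_ne_zero.mpr hne), one_smul]
    rw [hbb] at h
    have haa := smul_left_injective K he₀ (add_right_cancel h)
    rw [CharP.natCast_eq_natCast K 3, Nat.ModEq] at haa hbb
    have := hl.2 a (by simp); have := hl.2 b (by simp)
    have := hl'.2 a' (by simp); have := hl'.2 b' (by simp)
    rw [show a = a' by omega, show b = b' by omega]
  have hspan : ∀ x : V, ∃ l, IsVec 3 2 l ∧ ev K 2 e l = x := by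
    let f : Fin 3 × Fin 3 → V := fun p => ev K 2 e [(p.1 : ℕ), (p.2 : ℕ)]
    have hv : ∀ p : Fin 3 × Fin 3, IsVec 3 2 [(p.1 : ℕ), (p.2 : ℕ)] := fun p => ⟨rfl, by simp⟩
    have hbij : Function.Bijective f := (Nat.bijective_iff_injective_and_card f).mpr ⟨fun p p' h => by
      have := hinj _ _ (hv p) (hv p') h
      simp only [List.cons.injEq, and_true] at this
      exact Prod.ext (Fin.ext this.1) (Fin.ext this.2), by
      rw [Module.natCard_eq_pow_finrank (K := K) (V := V), h2, hK]
      simp⟩
    intro x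
    obtain ⟨p, rfl⟩ := hbij.2 x
    exact ⟨_, hv p, rfl⟩
  -- adjust the partner
  obtain ⟨j, hj, hanti, hje⟩ : ∃ j ∈ M, (∀ x : V, m • j • x = -(j • m • x)) ∧
      j • e₀ = e₀ + m • e₀ := by
    obtain ⟨l, hl, hle⟩ := hspan (y • e₀)
    obtain ⟨a, b, rfl⟩ := List.length_eq_two.mp hl.1
    rw [hev] at hle
    obtain ⟨n', hn, hnx⟩ := hF.scal (-1 : K) (neg_ne_zero.mpr one_ne_zero)
    have hym : ∀ x : V, m • y • x = -(y • m • x) := hQ.anti
    have ha : (a : K) ≠ 0 := by
      intro ha
      rw [ha, zero_smul, zero_add] at hle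
      have hb0 : (b : K) ≠ 0 := fun hb => he₀ (by
        rwa [hb, zero_smul, eq_comm, smul_eq_zero_iff_eq] at hle)
      obtain ⟨nb, hnb, hnbx⟩ := hF.scal _ hb0
      have h := hsr.eq_of hQ.yM (M.mul_mem hnb hm) he₀ (by rw [mul_smul, hnbx]; exact hle.symm)
      exact zero_ne_one ((hQ.class_unique hF h2K (z := y) (k := (b : K)) (k' := 1) (i := 0) (j := 1)
        (fun x => by rw [h, mul_smul, hnbx]; rfl) fun x => by rw [one_smul]; rfl))
    have hb : (b : K) ≠ 0 := by
      intro hb
      rw [hb, zero_smul, add_zero] at hle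
      obtain ⟨na, hna, hnax⟩ := hF.scal _ ha
      exact hQ.word_not_scal hF h2K 1 ⟨a, fun x => by
        show y • x = _
        rw [hsr.eq_of hQ.yM hna he₀ (by rw [hnax]; exact hle.symm) x, hnax]⟩
    rcases hval _ ha with h1 | h1 <;> rcases hval _ hb with h3 | h3 <;>
      simp only [h1, h3, one_smul, neg_one_smul] at hle
    · exact ⟨y, hQ.yM, hym, hle.symm⟩
    · refine ⟨m * y, M.mul_mem hm hQ.yM, fun x => ?_, ?_⟩
      · rw [mul_smul, mul_smul, hmm, hym (m • x), neg_neg, hmm, smul_neg]
      · rw [mul_smul, ← hle, smul_add, smul_neg, hmm, neg_neg, add_comm]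
    · refine ⟨n' * (m * y), M.mul_mem hn (M.mul_mem hm hQ.yM), fun x => ?_, ?_⟩
      · rw [mul_smul, mul_smul, mul_smul, mul_smul, hnx, hnx, neg_one_smul, neg_one_smul, smul_neg, hmm, neg_neg,
          neg_neg, hym (m • x), hmm, smul_neg, neg_neg]
      · rw [mul_smul, mul_smul, ← hle, hnx, smul_add, smul_neg, hmm, neg_one_smul, neg_add, neg_neg,
          neg_neg, add_comm]
    · refine ⟨n' * y, M.mul_mem hn hQ.yM, fun x => ?_, ?_⟩
      · rw [mul_smul, mul_smul, hnx, hnx, neg_one_smul, neg_one_smul, smul_neg, hym]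
      · rw [mul_smul, ← hle, hnx, neg_one_smul, neg_add, neg_neg, neg_neg]
  have hq0 : ((3 : ℕ) : K) = 0 := CharP.cast_eq_zero K 3
  have htwo : ((2 : ℕ) : K) = -1 := by push_cast at hq0 ⊢; linear_combination hq0
  let γ : ℕ → G := fun b => if b = 0 then m else j
  have hact : ∀ b < q8Rows.length, ∀ i < 2, γ b • e i = ev K 2 e (rowApp 3 (q8Rows.getD b []) (unitL 2 i)) := by
    intro b hb i hi
    simp only [q8Rows, List.length_cons, List.length_nil] at hb
    interval_cases b <;> interval_cases i
    · rw [show rowApp 3 (q8Rows.getD 0 []) (unitL 2 0) = [0, 1] by decide, hev]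
      simp [γ, e]
    · rw [show rowApp 3 (q8Rows.getD 0 []) (unitL 2 1) = [2, 0] by decide, hev]
      simp only [γ, e, htwo]
      simp [hmm]
    · rw [show rowApp 3 (q8Rows.getD 1 []) (unitL 2 0) = [1, 1] by decide, hev]
      simp [γ, e, hje]
    · rw [show rowApp 3 (q8Rows.getD 1 []) (unitL 2 1) = [1, 2] by decide, hev]
      simp only [γ, e, htwo]
      simp only [one_ne_zero, if_false, Nat.cast_one, one_smul]
      rw [show j • m • e₀ = -(m • j • e₀) by rw [hanti, neg_neg], hje, smul_add, hmm, neg_one_smul]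
      abel
  have hrows : ∀ R ∈ q8Rows, IsRows 2 R := by decide
  have hgev : ∀ b < q8Rows.length, ∀ l,
      γ b • ev K 2 e l = ev K 2 e (rowApp 3 (q8Rows.getD b []) l) := by
    intro b hb l
    have hb' : γ b ∈ M := by
      simp only [γ]
      split_ifs
      · exact hm
      · exact hj
    exact map_ev hq0 e (hrows _ (by
      rw [List.getD_eq_getElem?_getD, List.getElem?_eq_getElem hb]; exact List.getElem_mem hb))
      (smul_add (γ b)) (hF.lin _ hb') (hact b hb) l
  refine ⟨γ, e, by norm_num, hq0, hrows, fun b hb => ?_, hact, hinj, hspan, fun z hz => ?_,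
    fun b hb c hc x => ?_⟩
  · simp only [γ]
    split_ifs
    · exact hm
    · exact hj
  · -- the four classes
    have hQ' : ∀ z ∈ M, IsScal K V z ∨ ∃ (k : K) (i : Fin 3), ∀ x : V, z • x = k • word m j i • x := by
      intro z hz
      by_cases hzs : IsScal K V z
      · exact Or.inl hzs
      obtain ⟨y', hQ2⟩ := four_of_props hF (fun z hz => hsr.sq_scal hF hz) (fun w hw z hz hwns hwz => by
        rcases hQ.cover w hw with ⟨k, hk⟩ | ⟨k, i, hk⟩
        · exact absurd ⟨k, hk⟩ hwns
        · rcases hQ.cover z hz with ⟨l, hl⟩ | ⟨l, i', hl⟩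
          · exact Or.inl ⟨l, hl⟩
          · refine Or.inr ?_
            have hk0 : k ≠ 0 := fun e0 => he₀ (by
              have h := hk e₀
              rwa [e0, zero_smul, smul_eq_zero_iff_eq] at h)
            have hl0 : l ≠ 0 := fun e0 => he₀ (by
              have h := hl e₀
              rwa [e0, zero_smul, smul_eq_zero_iff_eq] at h)
            by_cases hii : i = i'
            · subst hii
              exact ⟨l * k⁻¹, fun x => by
                rw [hk, hl, smul_smul, mul_assoc, inv_mul_cancel₀ hk0, mul_one]⟩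
            · exfalso
              have h := hwz e₀
              rw [hk, hl, hk, hl, hF.lin _ (hQ.word_mem i), hF.lin _ (hQ.word_mem i'),
                hQ.word_anti hF i i' hii, smul_neg, smul_neg, smul_comm k l, ← sub_eq_zero,
                sub_eq_add_neg, ← neg_add, neg_eq_zero, ← add_smul] at h
              have hne : word m y i' • word m y i • e₀ ≠ 0 := by
                rwa [ne_eq, smul_eq_zero_iff_eq, smul_eq_zero_iff_eq]
              exact mul_ne_zero h2K hl0
                (by rw [two_mul]; exact (smul_eq_zero.mp h).resolve_right (smul_ne_zero hk0 hne))) hm hmns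
      rcases hQ2.cover j hj with ⟨k, hk⟩ | ⟨k, i, hk⟩
      · exfalso
        have h := hanti e₀
        rw [hk, hk, hF.lin m hm, ← sub_eq_zero, sub_neg_eq_add, ← add_smul] at h
        exact mul_ne_zero h2K (scal_ne_zero hk) (by
          rw [two_mul]; exact (smul_eq_zero.mp h).resolve_right (by rwa [smul_eq_zero_iff_eq]))
      rcases hQ.cover j hj with ⟨k', hk'⟩ | ⟨k', i', hk'⟩
      · exfalso
        have h := hanti e₀
        rw [hk', hk', hF.lin m hm, ← sub_eq_zero, sub_neg_eq_add, ← add_smul] at h
        exact mul_ne_zero h2K (scal_ne_zero hk') (by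
          rw [two_mul]; exact (smul_eq_zero.mp h).resolve_right (by rwa [smul_eq_zero_iff_eq]))
      have hi0 : i' ≠ 0 := by
        rintro rfl
        have h := hanti e₀
        rw [hk', hk', hF.lin m hm] at h
        change k' • m • m • e₀ = -(k' • m • m • e₀) at h
        rw [← sub_eq_zero, sub_neg_eq_add, ← add_smul, hmm] at h
        have hk0 : k' ≠ 0 := fun e0 => he₀ (by
          have h := hk' e₀
          rwa [e0, zero_smul, smul_eq_zero_iff_eq] at h)
        exact mul_ne_zero h2K hk0 (by
          rw [two_mul]; exact (smul_eq_zero.mp h).resolve_right (neg_ne_zero.mpr he₀))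
      have hk0 : k' ≠ 0 := fun e0 => he₀ (by
        have h := hk' e₀
        rwa [e0, zero_smul, smul_eq_zero_iff_eq] at h)
      rcases hQ.cover z hz with h | ⟨l, i'', hl⟩
      · exact absurd h hzs
      have hy : ∀ x : V, word m y i' • x = k'⁻¹ • j • x := fun x => by
        rw [hk', smul_smul, inv_mul_cancel₀ hk0, one_smul]
      fin_cases i'' <;> fin_cases i' <;> simp only [word] at hl hy hi0 ⊢
      · exact absurd rfl hi0
      · exact Or.inr ⟨l, 0, hl⟩
      · exact Or.inr ⟨l, 0, hl⟩
      · exact absurd rfl hi0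
      · exact Or.inr ⟨l * k'⁻¹, 1, fun x => by rw [hl, mul_smul]; exact congrArg (l • ·) (hy x)⟩
      · refine Or.inr ⟨-(l * k'⁻¹), 2, fun x => ?_⟩
        show z • x = -(l * k'⁻¹) • (m * j) • x
        have h := hy x
        change (m * y) • x = k'⁻¹ • j • x at h
        have h' := congrArg (m • ·) h
        simp only [mul_smul, hmm, hF.lin m hm] at h'
        rw [hl]
        show l • y • x = _
        rw [show y • x = -(k'⁻¹ • m • j • x) by rw [← h', neg_neg], mul_smul m, neg_smul, mul_smul, smul_neg]
      · exact absurd rfl hi0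
      · refine Or.inr ⟨l * k'⁻¹, 2, fun x => ?_⟩
        show z • x = (l * k'⁻¹) • (m * j) • x
        rw [hl]
        show l • (m * y) • x = _
        have h := hy x
        change y • x = k'⁻¹ • j • x at h
        rw [mul_smul m, h, hF.lin m hm, mul_smul, mul_smul m]
      · exact Or.inr ⟨l * k'⁻¹, 1, fun x => by rw [hl, mul_smul]; exact congrArg (l • ·) (hy x)⟩
    have key : ∀ (bits : ℕ) (w : G), bits < 4 →
        (∀ l, w • ev K 2 e l = ev K 2 e ((List.range 2).foldr
          (fun b r => if bits.testBit b then rowApp 3 (q8Rows.getD b []) r else r) l)) →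
        ∀ k : K, k ≠ 0 → (∀ x : V, z • x = k • w • x) →
        ∃ zz < nWords 3 q8Rows, ∀ l, IsVec 3 2 l → z • ev K 2 e l = ev K 2 e (wApp 3 q8Rows zz l) := by
      intro bits w hbits hw k hk hz'
      obtain ⟨a, ha, rfl⟩ := Model.word_cast Nat.prime_three hK hk
      refine ⟨a * 4 + bits, by simp [nWords, q8Rows]; omega, fun l _ => ?_⟩
      rw [hz', hw, wApp, ev_scale hq0]
      rw [show q8Rows.length = 2 from rfl, show (a * 4 + bits) / 2 ^ 2 = a by omega]
      congr 2
      simp only [List.range_succ, List.range_zero, List.nil_append, List.cons_append, List.foldr_cons,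
        List.foldr_nil]
      have h0 : (a * 4 + bits).testBit 0 = bits.testBit 0 := by
        simp [Nat.testBit, Nat.shiftRight_zero]; omega
      have h1 : (a * 4 + bits).testBit 1 = bits.testBit 1 := by
        simp [Nat.testBit, Nat.shiftRight_eq_div_pow]; omega
      rw [h0, h1]
    have hr : List.range 2 = [0, 1] := rfl
    rcases hQ' z hz with ⟨k, hk⟩ | ⟨k, i, hk⟩
    · exact key 0 1 (by norm_num) (fun l => by rw [one_smul, hr]; rfl) k (scal_ne_zero hk)
        fun x => by rw [one_smul]; exact hk x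
    · have hk0 : k ≠ 0 := fun e0 => he₀ (by
        have h := hk e₀
        rwa [e0, zero_smul, smul_eq_zero_iff_eq] at h)
      fin_cases i
      · exact key 1 m (by norm_num) (fun l => by
          rw [hr]; exact hgev 0 (by simp [q8Rows]) l) k hk0 hk
      · exact key 2 j (by norm_num) (fun l => by
          rw [hr]; exact hgev 1 (by simp [q8Rows]) l) k hk0 hk
      · exact key 3 (m * j) (by norm_num) (fun l => by
          rw [hr, mul_smul]
          show γ 0 • γ 1 • ev K 2 e l = _
          rw [hgev 1 (by simp [q8Rows]), hgev 0 (by simp [q8Rows])]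
          rfl) k hk0 hk
  · simp only [q8Rows, List.length_cons, List.length_nil] at hb hc
    interval_cases b <;> interval_cases c
    · simp [γ]
    · simpa [γ] using hanti x
    · have h := hanti x
      simp [γ, h]
    · simp [γ]

end coord

section lift

variable {K : Type u} [Field K] [Finite K] {G : Type v} [Group G] {V : Type w} [AddCommGroup V] [Finite V]
  [Module K V] [DistribMulAction G V] {M A : Subgroup G}
  {s : ℕ} {d X : G} {ζ ξ : K}

/-- Lifting a model from the fixed space. -/
theorem model_lift (hS : IsSplit V M s d X ζ ξ) (hF : Frame K V M A) (hs : s = 2) {q n k : ℕ}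
    {gs : List Rows} (hq : q.Prime) (hq2 : q ≠ 2) (hK : Nat.card K = q) (hlen : gs.length = 2 * k)
    (hsqK : ∀ a : K, a ≠ 0 → (∃ m ∈ M, ∀ x : V, m ^ 2 • x = a • x) → (∃ r : K, a = r ^ 2) ∨ a = -1)
    {γ : ℕ → fixStab V d} {e : ℕ → hS.W hF}
    (hM : Model K (hS.W hF) (M.subgroupOf (fixStab V d)) q n gs γ e) :
    ∃ (γ' : ℕ → G) (e' : ℕ → V), Model K V M q (n + n) (liftRows q n gs) γ' e' := by
  subst hs
  haveI := Fintype.ofFinite K
  haveI := Fact.mk hq
  haveI : CharP K q := charP_of_card_eq_prime (by rw [← Nat.card_eq_fintype_card, hK])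
  haveI := hS.W_nontrivial hF
  have h2K : (2 : K) ≠ 0 := two_ne_zero_of_char (p := q) hq2
  have hζ : ζ = -1 := neg_of_sq_one (by rw [← sq]; exact hS.zeta_pow) hS.zeta_ne
  have hFW := hS.frame_fix hF
  obtain ⟨x₀, hx0, hx⟩ := hS.fix
  haveI : Nontrivial V := ⟨⟨x₀, 0, hx0⟩⟩
  let g : ℕ → G := fun b => (γ b : G)
  have hgM : ∀ b < gs.length, g b ∈ M := fun b hb => hM.gen_mem b hb
  have hgS : ∀ b, g b ∈ fixStab V d := fun b => (γ b).2
  have hgd : ∀ b < gs.length, ∀ x : V, d • g b • x = g b • d • x := fun b hb x =>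
    hS.comm_of_fixStab hF (hgM b hb) (hgS b) x
  -- relations of the generators on the whole module
  have hrel : ∀ b < gs.length, ∀ c < gs.length, ∀ x : V,
      g b • g c • x = if b ≠ c ∧ b / 2 = c / 2 then -(g c • g b • x) else g c • g b • x := by
    intro b hb c hc x
    obtain ⟨κ, hκ0, hκ⟩ := hF.comm _ (hgM b hb) _ (hgM c hc)
    have h := congrArg Subtype.val (hM.pairs b hb c hc ⟨x₀, hx⟩)
    have hne : g c • g b • x₀ ≠ 0 := by rwa [ne_eq, smul_eq_zero_iff_eq, smul_eq_zero_iff_eq]
    by_cases hbc : b ≠ c ∧ b / 2 = c / 2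
    · rw [if_pos hbc] at h ⊢
      rw [Submodule.coe_neg] at h
      change g b • g c • x₀ = -(g c • g b • x₀) at h
      rw [hκ] at h
      have h' : (κ + 1) • (g c • g b • x₀) = 0 := by rw [add_smul, one_smul, h, neg_add_cancel]
      rw [hκ, show κ = -1 by linear_combination (smul_eq_zero.mp h').resolve_right hne, neg_one_smul]
    · rw [if_neg hbc] at h ⊢
      change g b • g c • x₀ = g c • g b • x₀ at h
      rw [hκ] at h
      have h' : (κ - 1) • (g c • g b • x₀) = 0 := by rw [sub_smul, one_smul, h, sub_self]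
      rw [hκ, sub_eq_zero.mp ((smul_eq_zero.mp h').resolve_right hne), one_smul]
  -- squares of generators
  have hsqg : ∀ b < gs.length, IsScal K V (g b ^ 2) := by
    intro b hb
    have hW : IsScal K (hS.W hF) (γ b ^ 2) := by
      let S : Subgroup (fixStab V d) :=
        { carrier := {m | ∀ x : hS.W hF, γ b ^ 2 • m • x = m • γ b ^ 2 • x}
          one_mem' := fun x => by rw [one_smul, one_smul]
          mul_mem' := fun {a a'} ha ha' x => by rw [mul_smul, mul_smul, ha, ha']
          inv_mem' := fun {a} ha x => by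
            have h := ha (a⁻¹ • x)
            rw [smul_inv_smul] at h
            rw [h, inv_smul_smul] }
      refine hFW.centre _ ((M.subgroupOf _).pow_mem (hM.gen_mem b hb) 2) fun y hy x => ?_
      have hgen : ∀ c < gs.length, γ c ∈ S := fun c hc => by
        show ∀ x : hS.W hF, γ b ^ 2 • γ c • x = γ c • γ b ^ 2 • x
        intro x
        have h1 := hM.pairs b hb c hc
        rw [sq, mul_smul, mul_smul]
        by_cases hbc : b ≠ c ∧ b / 2 = c / 2
        · rw [h1, if_pos hbc, smul_neg, h1, if_pos hbc, neg_neg]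
        · rw [h1, if_neg hbc, h1, if_neg hbc]
      obtain ⟨y', hy', hyy⟩ := hM.exists_in hFW S hgen (fun m hm ⟨a, ha⟩ x => by
        rw [ha, ha, hFW.lin _ ((M.subgroupOf _).pow_mem (hM.gen_mem b hb) 2)]) hy
      exact ((congrArg (γ b ^ 2 • ·) (hyy x)).trans (hy' x)).trans (hyy _).symm
    obtain ⟨l, hl⟩ := hW
    have hlW : ∀ y : V, d • y = y → g b ^ 2 • y = l • y := fun y hy => by
      have h := congrArg Subtype.val (hl ⟨y, hy⟩)
      rwa [coe_fix_smul, SubgroupClass.coe_pow] at h
    have hl0 : l ≠ 0 := by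
      rintro rfl
      have h := hlW x₀ hx
      rw [zero_smul, smul_eq_zero_iff_eq] at h
      exact hx0 h
    obtain ⟨n', hn, hnk⟩ := hF.scal l⁻¹ (inv_ne_zero hl0)
    obtain ⟨j, -, hj⟩ := hS.eq_dpow hF (M.mul_mem hn (M.pow_mem (hgM b hb) 2)) fun y hy => by
      rw [mul_smul, hlW y hy, hnk, smul_smul, inv_mul_cancel₀ hl0, one_smul]
    refine hF.expo _ (hgM b hb) 2 Nat.prime_two ⟨l * l, fun y => ?_⟩
    have h1 : ∀ y : V, g b ^ 2 • y = l • d ^ j • y := fun y => by
      rw [← hj, mul_smul, hnk, smul_smul, mul_inv_cancel₀ hl0, one_smul]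
    rw [show (2 * 2 : ℕ) = 2 + 2 from rfl, pow_add, mul_smul, h1 y, hF.lin _ (M.pow_mem (hgM b hb) 2), h1,
      smul_smul, ← mul_smul (α := G), ← pow_add, ← two_mul, mul_comm 2 j, pow_mul']
    congr 1
    exact (stabilizer G y).pow_mem (show d ^ 2 ∈ stabilizer G y from hS.d_pow y) _
  -- the adjusted partner
  have hadj : ∀ t ≤ k, ∃ y ∈ M, y ∈ fixStab V d ∧
      ∀ b < 2 * t, ∀ x : V, (X * y) • g b • x = g b • (X * y) • x := by
    intro t
    induction t with
    | zero => exact fun _ => ⟨1, M.one_mem, (fixStab V d).one_mem, fun b hb => absurd hb (by omega)⟩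
    | succ t ih =>
      intro ht
      obtain ⟨y, hy, hyS, hyc⟩ := ih (by omega)
      have hXy : X * y ∈ M := M.mul_mem hS.X_mem hy
      have hsign : ∀ b < gs.length, (∀ x : V, (X * y) • g b • x = g b • (X * y) • x) ∨
          ∀ x : V, (X * y) • g b • x = -(g b • (X * y) • x) := by
        intro b hb
        obtain ⟨κ, hκ0, hκ⟩ := hF.comm _ (hgM b hb) _ hXy
        have hκ2 : κ ^ 2 = 1 := comm_root hF (hgM b hb) hXy hκ (hsqg b hb)
        rcases eq_or_ne κ 1 with h | h
        · exact Or.inl fun x => by rw [hκ, h, one_smul]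
        · have hneg := neg_of_sq_one (by rw [← sq]; exact hκ2) h
          exact Or.inr fun x => by rw [hκ, hneg, neg_one_smul, neg_neg]
      have hA : 2 * t < gs.length := by omega
      have hB : 2 * t + 1 < gs.length := by omega
      have hab : ∀ x : V, g (2 * t) • g (2 * t + 1) • x = -(g (2 * t + 1) • g (2 * t) • x) := fun x => by
        rw [hrel _ hA _ hB, if_pos ⟨by omega, by omega⟩]
      have hba : ∀ x : V, g (2 * t + 1) • g (2 * t) • x = -(g (2 * t) • g (2 * t + 1) • x) := fun x => by
        rw [hab, neg_neg]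
      have hcomm : ∀ b < 2 * t, ∀ c < gs.length, 2 * t ≤ c →
          ∀ x : V, g b • g c • x = g c • g b • x := fun b hb c hc hct x => by
        rw [hrel _ (by omega) _ hc, if_neg (fun h => by omega)]
      have hfin : ∀ w, w ∈ M → w ∈ fixStab V d →
          (∀ b < 2 * t, ∀ x : V, w • g b • x = g b • w • x) →
          (∀ x : V, (X * y) • w • g (2 * t) • x = g (2 * t) • (X * y) • w • x) →
          (∀ x : V, (X * y) • w • g (2 * t + 1) • x = g (2 * t + 1) • (X * y) • w • x) →
          ∃ y ∈ M, y ∈ fixStab V d ∧ ∀ b < 2 * (t + 1), ∀ x : V, (X * y) • g b • x = g b • (X * y) • x := by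
        intro w hw hwS hwc h0 h1
        refine ⟨y * w, M.mul_mem hy hw, (fixStab V d).mul_mem hyS hwS, fun b hb x => ?_⟩
        rw [← mul_assoc, mul_smul (X * y) w, mul_smul (X * y) w]
        rcases (show b < 2 * t ∨ b = 2 * t ∨ b = 2 * t + 1 by omega) with h | rfl | rfl
        · rw [hwc b h, hyc b h]
        · exact h0 x
        · exact h1 x
      rcases hsign _ hA with h0 | h0 <;> rcases hsign _ hB with h1 | h1
      · exact hfin 1 M.one_mem (fixStab V d).one_mem (fun b _ x => by rw [one_smul, one_smul])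
          (fun x => by simpa using h0 x) (fun x => by simpa using h1 x)
      · refine hfin _ (hgM _ hA) (hgS _) (fun b hb x => (hcomm b hb _ hA le_rfl x).symm)
          (fun x => h0 _) fun x => ?_
        rw [hab, smul_neg, h1, neg_neg]
      · refine hfin _ (hgM _ hB) (hgS _) (fun b hb x => (hcomm b hb _ hB (by omega) x).symm)
          (fun x => ?_) fun x => h1 _
        rw [hba, smul_neg, h0, neg_neg]
      · refine hfin (g (2 * t) * g (2 * t + 1)) (M.mul_mem (hgM _ hA) (hgM _ hB))
          ((fixStab V d).mul_mem (hgS _) (hgS _)) (fun b hb x => ?_) (fun x => ?_) fun x => ?_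
        · rw [mul_smul, mul_smul, hcomm b hb _ hA le_rfl, hcomm b hb _ hB (by omega)]
        · rw [mul_smul (g (2 * t)) (g (2 * t + 1)), mul_smul (g (2 * t)) (g (2 * t + 1)), hba, smul_neg, smul_neg,
            h0, neg_neg]
        · rw [mul_smul (g (2 * t)) (g (2 * t + 1)), mul_smul (g (2 * t)) (g (2 * t + 1)), hab (g (2 * t + 1) • x),
            smul_neg, h1, neg_neg]
  obtain ⟨y, hy, hyS, hyc⟩ := hadj k le_rfl
  obtain ⟨Y, hY⟩ : ∃ Y, Y = X * y := ⟨_, rfl⟩
  have hYM : Y ∈ M := hY ▸ M.mul_mem hS.X_mem hy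
  have hYy : ∀ z : V, Y • y⁻¹ • z = X • z := fun z => by rw [hY, mul_smul, smul_inv_smul]
  rw [← hY] at hyc
  have hdXy : ∀ x : V, d • Y • x = -(Y • d • x) := fun x => by
    rw [hY, mul_smul, hS.comm, hS.comm_of_fixStab hF hy hyS, hζ, neg_one_smul, mul_smul]
  let S : Subgroup G :=
    { carrier := {m | ∀ x : V, Y • Y • m • x = m • Y • Y • x}
      one_mem' := fun x => by rw [one_smul, one_smul]
      mul_mem' := fun {a a'} ha ha' x => by rw [mul_smul, mul_smul, ha, ha']
      inv_mem' := fun {a} ha x => by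
        have h := ha (a⁻¹ • x)
        rw [smul_inv_smul] at h
        rw [h, inv_smul_smul] }
  obtain ⟨ξ', hξ'⟩ : IsScal K V (Y * Y) := by
    refine hF.centre _ (M.mul_mem hYM hYM) fun z hz x => ?_
    rw [mul_smul, mul_smul]
    have hdS : ∀ (j : ℕ) (x : V), Y • Y • d ^ j • x = d ^ j • Y • Y • x := by
      intro j
      induction j with
      | zero => intro x; simp
      | succ j ih =>
        intro x
        rw [pow_succ, mul_smul, ih, mul_smul (d ^ j)]
        simp only [hdXy, smul_neg, neg_neg]
    have hG0 : ∀ w ∈ M, w ∈ fixStab V d →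
        ∀ x : V, Y • Y • w • x = w • Y • Y • x := by
      intro w hw hwS
      obtain ⟨zz, hzz, hzzW⟩ := hM.cover' hFW (m := ⟨w, hwS⟩) hw
      obtain ⟨nc, hnc, hncx⟩ := hF.scal _ (hM.scalar_ne_zero hzz)
      have hP : ((gprod γ zz (List.range gs.length) : fixStab V d) : G) ∈ M :=
        gprod_mem (M.subgroupOf (fixStab V d)) zz _ fun b hb => hM.gen_mem b (List.mem_range.mp hb)
      set P := ((gprod γ zz (List.range gs.length) : fixStab V d) : G) with hPdef
      have hPS : P ∈ S :=
        gprod_mem (γ := γ) (S.comap (fixStab V d).subtype) zz _ fun b hb x => by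
          show Y • Y • g b • x = g b • Y • Y • x
          rw [hyc b (hlen ▸ List.mem_range.mp hb), hyc b (hlen ▸ List.mem_range.mp hb)]
      obtain ⟨j, -, hj⟩ := hS.eq_dpow hF (M.mul_mem (M.inv_mem (M.mul_mem hnc hP)) hw) fun u hu => by
        have h := congrArg Subtype.val (hzzW ⟨u, hu⟩)
        change w • u = _ • P • u at h
        rw [mul_smul, inv_smul_eq_iff, mul_smul, hncx]
        exact h
      have hwP : ∀ x : V, w • x = ((nc * P) * d ^ j) • x := fun x => by
        rw [mul_smul (nc * P), ← hj, mul_smul _ w, smul_inv_smul]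
      intro x
      rw [hwP, hwP, mul_smul, mul_smul, mul_smul, mul_smul, hncx, hncx,
        hF.lin _ hYM, hF.lin _ hYM, hPS, hdS]
    obtain ⟨i, -, hiS⟩ := hS.cover hF hz
    have hy1 : (X ^ i)⁻¹ * z ∈ M := M.mul_mem (M.inv_mem (M.pow_mem hS.X_mem i)) hz
    have hX : ∀ (l : ℕ) (x : V), Y • Y • X ^ l • x = X ^ l • Y • Y • x := by
      intro l
      induction l with
      | zero => intro x; simp
      | succ l ih =>
        intro x
        rw [pow_succ, mul_smul, ih, mul_smul (X ^ l)]
        congr 1
        have hz0 := hG0 _ (M.inv_mem hy) ((fixStab V d).inv_mem hyS) x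
        calc Y • Y • X • x = Y • Y • Y • y⁻¹ • x := by
              rw [hYy]
          _ = Y • y⁻¹ • Y • Y • x := by rw [hz0]
          _ = X • Y • Y • x := by rw [hYy]
    rw [show z = X ^ i * ((X ^ i)⁻¹ * z) by rw [mul_inv_cancel_left], mul_smul, hX, hG0 _ hy1 hiS]
    simp only [mul_smul]
  have hξ0 := scal_ne_zero hξ'
  -- normalised partner
  obtain ⟨X', hX'M, hdX', hX'sq, hX'c⟩ : ∃ X' ∈ M, (∀ x : V, d • X' • x = -(X' • d • x)) ∧
      (∀ x : V, X' • X' • x = x) ∧ ∀ b < gs.length, ∀ x : V, X' • g b • x = g b • X' • x := by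
    have hXyM : Y ∈ M := hYM
    rcases hsqK ξ' hξ0 ⟨Y, hXyM, fun x => by rw [sq]; exact hξ' x⟩ with ⟨r, hr⟩ | hneg
    · have hr0 : r ≠ 0 := by rintro rfl; exact hξ0 (by rw [hr]; ring)
      obtain ⟨n', hn, hnx⟩ := hF.scal r⁻¹ (inv_ne_zero hr0)
      refine ⟨n' * Y, M.mul_mem hn hXyM, fun x => ?_, fun x => ?_, fun b hb x => ?_⟩
      · rw [mul_smul n', mul_smul n', hnx, hnx, hS.dlin hF, hdXy, smul_neg]
      · rw [mul_smul n', mul_smul n', hnx, hnx, hF.lin _ hXyM, ← mul_smul Y, hξ', smul_smul,
          smul_smul, hr, show r⁻¹ * r⁻¹ * r ^ 2 = 1 by field_simp, one_smul]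
      · rw [mul_smul n', mul_smul n', hnx, hnx, hF.lin _ (hgM b hb), hyc b (hlen ▸ hb)]
    · refine ⟨Y * d, M.mul_mem hXyM hS.d_mem, fun x => ?_, fun x => ?_, fun b hb x => ?_⟩
      · rw [mul_smul Y d, mul_smul Y d, hdXy]
      · rw [mul_smul Y d, mul_smul Y d, hdXy, ← mul_smul d d, ← sq, hS.d_pow, smul_neg,
          ← mul_smul Y, hξ', hneg, neg_one_smul, neg_neg]
      · rw [mul_smul Y d, mul_smul Y d, hgd b hb, hyc b (hlen ▸ hb)]
  have hS' : IsSplit V M 2 d X' (-1 : K) 1 := ⟨Nat.prime_two, hS.d_mem, hX'M, hS.d_pow,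
    fun x => by rw [sq, mul_smul, hX'sq, one_smul], fun x => by rw [hdX', neg_one_smul],
    fun h => h2K (by linear_combination -h), by norm_num, hS.fix⟩
  let γ' : ℕ → G := fun b => if b = 0 then d else if b = 1 then X' else g (b - 2)
  let e' : ℕ → V := fun i => if i < n then (e i : V) else X' • (e (i - n) : V)
  have hq0 : (q : K) = 0 := hM.q_zero
  have hde : ∀ i, d • (e i : V) = e i := fun i => (e i).2
  have hdXe : ∀ i, d • X' • (e i : V) = -(X' • (e i : V)) := fun i => by rw [hdX', hde]
  have hqm : (((q - 1 : ℕ)) : K) = -1 := by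
    have : (((q - 1 : ℕ)) : K) + 1 = 0 := by
      rw [show (((q - 1 : ℕ)) : K) + 1 = ((q - 1 + 1 : ℕ) : K) from (Nat.cast_succ _).symm,
        Nat.sub_add_cancel hq.one_le, hq0]
    linear_combination this
  have hlen' : (liftRows q n gs).length = gs.length + 2 := by simp [liftRows]
  have hrows : ∀ R ∈ liftRows q n gs, IsRows (n + n) R := by
    intro R hR
    simp only [liftRows, List.mem_cons, List.mem_map] at hR
    rcases hR with rfl | rfl | ⟨R, hR, rfl⟩
    · refine ⟨by simp [dRows], fun r hr p hp => ?_⟩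
      simp only [dRows, List.mem_map, List.mem_range] at hr
      obtain ⟨i, hi, rfl⟩ := hr
      simp only [List.mem_singleton] at hp
      rw [hp]; exact hi
    · refine ⟨by simp [xRows], fun r hr p hp => ?_⟩
      simp only [xRows, List.mem_map, List.mem_range] at hr
      obtain ⟨i, hi, rfl⟩ := hr
      simp only [List.mem_singleton] at hp
      rw [hp]
      show (if i < n then i + n else i - n) < n + n
      split_ifs <;> omega
    · have h := hM.rows R hR
      refine ⟨by simp [dblRows, h.1], fun r hr p hp => ?_⟩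
      simp only [dblRows, List.mem_append, List.mem_map] at hr
      rcases hr with hr | ⟨r', hr', rfl⟩
      · exact lt_of_lt_of_le (h.2 r hr p hp) (Nat.le_add_right n n)
      · obtain ⟨p', hp', rfl⟩ := List.mem_map.mp hp
        exact Nat.add_lt_add_right (h.2 r' hr' p' hp') n
  have hevW : ∀ l, ((ev K n e l : hS.W hF) : V) = ∑ i ∈ Finset.range n, ((l.getD i 0 : ℕ) : K) • (e i : V) :=
    fun l => by simp [ev]
  -- splitting a vector
  have hsplit : ∀ l l' : List ℕ, l.length = n →
      ev K (n + n) e' (l ++ l') = ((ev K n e l : hS.W hF) : V) + X' • ((ev K n e l' : hS.W hF) : V) := by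
    intro l l' hl
    rw [hevW, hevW, ev, Finset.sum_range_add]
    congr 1
    · refine Finset.sum_congr rfl fun i hi => ?_
      have hi' := Finset.mem_range.mp hi
      rw [List.getD_append _ _ _ _ (by omega)]
      simp [e', hi']
    · rw [Finset.smul_sum]
      refine Finset.sum_congr rfl fun i _ => ?_
      rw [List.getD_append_right _ _ _ _ (by omega), hl, Nat.add_sub_cancel_left, hF.lin _ hX'M]
      simp [e']
  have hact : ∀ b < (liftRows q n gs).length, ∀ j < n + n,
      γ' b • e' j = ev K (n + n) e' (rowApp q ((liftRows q n gs).getD b []) (unitL (n + n) j)) := by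
    intro b hb j hj
    rw [hlen'] at hb
    rcases (show b = 0 ∨ b = 1 ∨ 2 ≤ b by omega) with rfl | rfl | hb2
    · rw [show (liftRows q n gs).getD 0 [] = dRows q n from rfl,
        ev_monomial hq0 (fun i => if i < n then 1 else q - 1) (fun i => i) (fun i hi => by
          simp [dRows, List.getD_eq_getElem?_getD, hi]) (fun i hi => hi) hj rfl (fun i _ h => h)]
      by_cases hjn : j < n
      · simp [γ', e', hjn, hde]
      · simp only [γ', e', hjn, if_false, if_true, hqm, neg_one_smul, hdXe]
    · rw [show (liftRows q n gs).getD 1 [] = xRows n from rfl]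
      by_cases hjn : j < n
      · rw [ev_monomial hq0 (fun _ => 1) (fun i => if i < n then i + n else i - n) (fun i hi => by
            simp [xRows, List.getD_eq_getElem?_getD, hi]) (fun i hi => by split_ifs <;> omega)
            (i₀ := j + n) (by omega) (by simp) (fun i hi h => by split_ifs at h <;> omega)]
        simp [γ', e', hjn]
      · rw [ev_monomial hq0 (fun _ => 1) (fun i => if i < n then i + n else i - n) (fun i hi => by
            simp [xRows, List.getD_eq_getElem?_getD, hi]) (fun i hi => by split_ifs <;> omega)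
            (i₀ := j - n) (by omega) (by rw [if_pos (by omega)]; omega) (fun i hi h => by split_ifs at h <;> omega)]
        simp [γ', e', hjn, show j - n < n by omega, hX'sq]
    · obtain ⟨b', rfl⟩ : ∃ b', b = b' + 2 := ⟨b - 2, by omega⟩
      have hb' : b' < gs.length := by omega
      have hget : (liftRows q n gs).getD (b' + 2) [] = dblRows n (gs.getD b' []) := by
        simp [liftRows, List.getD_eq_getElem?_getD, hb']
      have hR := hM.rows _ (show gs.getD b' [] ∈ gs by
        rw [List.getD_eq_getElem?_getD, List.getElem?_eq_getElem hb']; exact List.getElem_mem hb')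
      rw [hget]
      set R := gs.getD b' [] with hRdef
      have hunit : ∀ i < n, ∀ m, (unitL (n + n) i).getD m 0 = if m < n then (unitL n i).getD m 0 else 0 := by
        intro i hi m
        by_cases hm : m < n + n
        · rw [unitL, getD_map_range _ _ _ hm]
          split_ifs with h1 h2 h2
          · rw [unitL, getD_map_range _ _ _ h2, if_pos h1]
          · omega
          · rw [unitL, getD_map_range _ _ _ h2, if_neg h1]
          · rfl
        · rw [if_neg (by omega)]
          simp [unitL, List.getD_eq_getElem?_getD, not_lt.mp hm]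
      have hunit2 : ∀ i < n, ∀ m, (unitL (n + n) (i + n)).getD (m + n) 0 = (unitL n i).getD m 0 := by
        intro i hi m
        by_cases hm : m < n
        · rw [unitL, getD_map_range _ _ _ (by omega : m + n < n + n), unitL, getD_map_range _ _ _ hm]
          simp
        · simp [unitL, List.getD_eq_getElem?_getD, not_lt.mp hm, show n + n ≤ m + n by omega]
      have hsum : ∀ (f : ℕ → ℕ) (r : List (ℕ × ℕ)) (g' : ℕ × ℕ → ℕ × ℕ) (h : ℕ → ℕ),
          (∀ p ∈ r, f (g' p).2 = h p.2 ∧ (g' p).1 = p.1) →
          ((r.map g').map fun p => (p.1 : K) * (f p.2 : K)).sum = (r.map fun p => (p.1 : K) * (h p.2 : K)).sum := by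
        intro f r g' h hh
        rw [List.map_map]
        refine congrArg List.sum (List.map_congr_left fun p hp => ?_)
        obtain ⟨h1, h2⟩ := hh p hp
        simp [h1, h2]
      have hrow : ∀ i < n, (dblRows n R).getD i [] = R.getD i [] ∧
          (dblRows n R).getD (n + i) [] = (R.getD i []).map fun p => (p.1, p.2 + n) := by
        intro i hi
        refine ⟨by rw [dblRows, List.getD_append _ _ _ _ (by rw [hR.1]; omega)], ?_⟩
        rw [dblRows, List.getD_append_right _ _ _ _ (by rw [hR.1]; omega), hR.1, Nat.add_sub_cancel_left]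
        simp [List.getD_eq_getElem?_getD, show i < R.length by rw [hR.1]; omega]
      have hmemr : ∀ i < n, ∀ p ∈ R.getD i [], p.2 < n := by
        intro i hi p hp
        rw [List.getD_eq_getElem?_getD, List.getElem?_eq_getElem (by rw [hR.1]; omega : i < R.length)] at hp
        exact hR.2 _ (List.getElem_mem _) p hp
      have hW : ∀ i < n, g b' • (e i : V) =
          ∑ x ∈ Finset.range n, ((R.getD x []).map fun p => (p.1 : K) * ((unitL n i).getD p.2 0 : K)).sum • (e x : V) := by
        intro i hi
        have h := congrArg Subtype.val (hM.act b' hb' i hi)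
        rw [coe_fix_smul, hevW] at h
        rw [h]
        exact Finset.sum_congr rfl fun x _ => by rw [getD_rowApp hq0]
      rw [ev_rows hq0, Finset.sum_range_add]
      have hγ' : γ' (b' + 2) = g b' := by simp [γ']
      rw [hγ']
      by_cases hjn : j < n
      · rw [show e' j = (e j : V) by simp [e', hjn], hW j hjn]
        conv_rhs => arg 2; rw [Finset.sum_eq_zero (fun x hx => by
          rw [(hrow x (Finset.mem_range.mp hx)).2,
            hsum (fun m => (unitL (n + n) j).getD m 0) _ (fun p => (p.1, p.2 + n)) (fun _ => 0) (fun p hp => ⟨by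
              simp only; rw [hunit j hjn, if_neg (by omega)], rfl⟩)]
          simp)]
        rw [add_zero]
        refine Finset.sum_congr rfl fun x hx => ?_
        rw [(hrow x (Finset.mem_range.mp hx)).1,
          show e' x = (e x : V) by simp [e', Finset.mem_range.mp hx]]
        congr 1
        refine congrArg List.sum (List.map_congr_left fun p hp => ?_)
        rw [hunit j hjn, if_pos (hmemr x (Finset.mem_range.mp hx) p hp)]
      · obtain ⟨i, rfl⟩ : ∃ i, j = i + n := ⟨j - n, by omega⟩
        have hi : i < n := by omega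
        rw [show e' (i + n) = X' • (e i : V) by simp [e'], ← hX'c b' hb', hW i hi, Finset.smul_sum]
        conv_rhs => arg 1; rw [Finset.sum_eq_zero (fun x hx => by
          have hx' := Finset.mem_range.mp hx
          rw [(hrow x hx').1, show ((R.getD x []).map fun p => (p.1 : K) *
              (((unitL (n + n) (i + n)).getD p.2 0 : ℕ) : K)).sum = 0 from List.sum_eq_zero (by
            intro a ha
            obtain ⟨p, hp, rfl⟩ := List.mem_map.mp ha
            have := hmemr x hx' p hp
            rw [unitL, getD_map_range _ _ _ (by omega : p.2 < n + n), if_neg (by omega)]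
            simp), zero_smul])]
        rw [zero_add]
        refine Finset.sum_congr rfl fun x hx => ?_
        rw [(hrow x (Finset.mem_range.mp hx)).2, hF.lin _ hX'M,
          show e' (n + x) = X' • (e x : V) by simp [e']]
        congr 1
        exact (hsum (fun m => (unitL (n + n) (i + n)).getD m 0) _ (fun p => (p.1, p.2 + n))
          (fun m => (unitL n i).getD m 0) fun p hp => ⟨hunit2 i hi p.2, rfl⟩).symm
  have hγmem : ∀ b < (liftRows q n gs).length, γ' b ∈ M := by
    intro b hb
    rw [hlen'] at hb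
    simp only [γ']
    split_ifs
    · exact hS.d_mem
    · exact hX'M
    · exact hgM _ (by omega)
  have hgev : ∀ b < (liftRows q n gs).length, ∀ l,
      γ' b • ev K (n + n) e' l = ev K (n + n) e' (rowApp q ((liftRows q n gs).getD b []) l) := fun b hb l =>
    map_ev hq0 e' (hrows _ (by
      rw [List.getD_eq_getElem?_getD, List.getElem?_eq_getElem hb]; exact List.getElem_mem hb))
      (smul_add (γ' b)) (hF.lin _ (hγmem b hb)) (hact b hb) l
  have hhalf : ∀ l, IsVec q (n + n) l → IsVec q n (l.take n) ∧ IsVec q n (l.drop n) := fun l hl =>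
    ⟨⟨by simp [hl.1], fun x hx => hl.2 x (List.mem_of_mem_take hx)⟩,
      ⟨by simp [hl.1], fun x hx => hl.2 x (List.mem_of_mem_drop hx)⟩⟩
  refine ⟨γ', e', hM.q_two, hq0, hrows, hγmem, hact, fun l l' hl hl' h => ?_, fun x => ?_, fun m hm => ?_,
    fun b hb c hc x => ?_⟩
  · obtain ⟨h1, h3⟩ := hhalf l hl
    obtain ⟨h1', h3'⟩ := hhalf l' hl'
    rw [← List.take_append_drop n l, ← List.take_append_drop n l', hsplit _ _ h1.1, hsplit _ _ h1'.1] at h
    have hp : ∀ (a b : hS.W hF), hS'.proj 0 ((a : V) + X' • (b : V)) = a ∧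
        hS'.proj 1 ((a : V) + X' • (b : V)) = X' • (b : V) := fun a b => by
      have ha : d • (a : V) = (-1 : K) ^ 0 • (a : V) := by rw [pow_zero, one_smul]; exact a.2
      have hb : d • X' • (b : V) = (-1 : K) ^ 1 • X' • (b : V) := by
        rw [pow_one, hdX', neg_one_smul]
        congr 2
        exact b.2
      simp only [hS'.proj_add, hS'.proj_eigen hF ha, hS'.proj_eigen hF hb]
      simp
    have e0 := congrArg (hS'.proj 0) h
    have e1 := congrArg (hS'.proj 1) h
    rw [(hp _ _).1, (hp _ _).1] at e0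
    rw [(hp _ _).2, (hp _ _).2] at e1
    rw [← List.take_append_drop n l, ← List.take_append_drop n l',
      hM.inj _ _ h1 h1' (Subtype.ext e0), hM.inj _ _ h3 h3' (Subtype.ext (MulAction.injective X' e1))]
  · obtain ⟨f, hf, rfl⟩ := hS'.exists_decomp hF x
    obtain ⟨l0, hl0, h0⟩ := hM.span ⟨f 0, hf 0⟩
    obtain ⟨l1, hl1, h1⟩ := hM.span ⟨f 1, hf 1⟩
    refine ⟨l0 ++ l1, ⟨by simp [hl0.1, hl1.1], fun x hx => ?_⟩, ?_⟩
    · rcases List.mem_append.mp hx with h | h
      · exact hl0.2 x h
      · exact hl1.2 x h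
    · rw [hsplit _ _ hl0.1, h0, h1]
      simp [Finset.sum_range_succ]
  · obtain ⟨i, hi, hiS⟩ := hS'.cover hF hm
    have hy1 : (X' ^ i)⁻¹ * m ∈ M := M.mul_mem (M.inv_mem (M.pow_mem hX'M i)) hm
    obtain ⟨κ, hκ0, hκ⟩ := hF.comm _ hy1 X' hX'M
    have hκ2 : κ * κ = 1 := by
      have h := hκ (X' • x₀)
      rw [hX'sq, hκ, hF.lin _ hX'M, hX'sq, smul_smul] at h
      have hne : ((X' ^ i)⁻¹ * m) • x₀ ≠ 0 := by rwa [ne_eq, smul_eq_zero_iff_eq]
      have h' : (κ * κ - 1) • (((X' ^ i)⁻¹ * m) • x₀) = 0 := by rw [sub_smul, one_smul, ← h, sub_self]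
      exact sub_eq_zero.mp ((smul_eq_zero.mp h').resolve_right hne)
    obtain ⟨j, hj, hjκ⟩ : ∃ j < 2, κ = (-1 : K) ^ j := by
      rcases mul_self_eq_one_iff.mp hκ2 with h | h
      · exact ⟨0, by norm_num, by simpa using h⟩
      · exact ⟨1, by norm_num, by simpa using h⟩
    have hy2M : (X' ^ i)⁻¹ * (d ^ j * m) ∈ M :=
      M.mul_mem (M.inv_mem (M.pow_mem hX'M i)) (M.mul_mem (M.pow_mem hS.d_mem j) hm)
    obtain ⟨y2, hy2def⟩ : ∃ y2, y2 = (X' ^ i)⁻¹ * (d ^ j * m) := ⟨_, rfl⟩
    rw [← hy2def] at hy2M
    have hy2x : ∀ x : V, y2 • x = ((-1 : K) ^ j) ^ i • d ^ j • ((X' ^ i)⁻¹ * m) • x := by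
      intro x
      have hpw := comm_pow_right hF hX'M (comm_pow_left hF hS.d_mem hS'.comm j) i
        (((X' ^ i)⁻¹ * m) • x)
      rw [mul_smul ((X' ^ i)⁻¹) m x, smul_inv_smul] at hpw
      rw [hy2def, mul_smul, mul_smul, inv_smul_eq_iff, hF.lin _ (M.pow_mem hX'M i),
        mul_smul ((X' ^ i)⁻¹) m x]
      exact hpw
    have hy2S : y2 ∈ fixStab V d := fun x => by
      rw [hy2x, hS.dlin hF, (smul_right_injective V (pow_ne_zero i (pow_ne_zero j
        (neg_ne_zero.mpr one_ne_zero)))).eq_iff, ← mul_smul (d ^ j)]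
      have hdfix : d ∈ fixStab V d := fun u => ⟨fun h => MulAction.injective d h, fun h => by rw [h]; exact h⟩
      exact (fixStab V d).mul_mem ((fixStab V d).pow_mem hdfix j) hiS x
    have hy2c : ∀ x : V, y2 • X' • x = X' • y2 • x := fun x => by
      rw [hy2x, hκ, hF.lin _ (M.pow_mem hS.d_mem j), comm_pow_left hF hS.d_mem hS'.comm j, hy2x,
        hF.lin _ hX'M, smul_smul, smul_smul, ← hjκ, mul_assoc, hκ2, mul_one]
    obtain ⟨zW, hzW, hzWx⟩ := hM.cover' hFW (m := ⟨y2, hy2S⟩) hy2M
    obtain ⟨nc, hnc, hncx⟩ := hF.scal _ (hM.scalar_ne_zero hzW)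
    have hPM : ((gprod γ zW (List.range gs.length) : fixStab V d) : G) ∈ M :=
      gprod_mem (M.subgroupOf (fixStab V d)) zW _ fun b hb => hM.gen_mem b (List.mem_range.mp hb)
    set P := ((gprod γ zW (List.range gs.length) : fixStab V d) : G) with hPdef
    have hPc : ∀ x : V, P • X' • x = X' • P • x := by
      let S' : Subgroup G :=
        { carrier := {m | ∀ x : V, m • X' • x = X' • m • x}
          one_mem' := fun x => by rw [one_smul, one_smul]
          mul_mem' := fun {a a'} ha ha' x => by rw [mul_smul, mul_smul, ha', ha]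
          inv_mem' := fun {a} ha x => by
            have h := ha (a⁻¹ • x)
            rw [smul_inv_smul] at h
            rw [← h, inv_smul_smul] }
      exact gprod_mem (γ := γ) (S'.comap (fixStab V d).subtype) zW _
        fun b hb x => (hX'c b (List.mem_range.mp hb) x).symm
    have hy2 : ∀ x : V, y2 • x = ((zW / 2 ^ gs.length + 1 : ℕ) : K) • P • x := by
      have hW : ∀ u : V, d • u = u → y2 • u = ((zW / 2 ^ gs.length + 1 : ℕ) : K) • P • u := fun u hu =>
        congrArg Subtype.val (hzWx ⟨u, hu⟩)
      intro x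
      rw [show y2 • x = (nc * P) • x from hS'.ext_translates hF (fun l hl u hu => by
        interval_cases l
        · rw [pow_zero, one_smul, mul_smul, hncx, hW u hu]
        · rw [pow_one, hy2c, hW u hu, hF.lin _ hX'M, mul_smul, hncx, hPc]) x, mul_smul, hncx]
    -- the number of the word
    obtain ⟨zV, hzVdef⟩ : ∃ zV, zV = 2 ^ (gs.length + 2) * (zW / 2 ^ gs.length) +
        (4 * (zW % 2 ^ gs.length) + (2 * i + j)) := ⟨_, rfl⟩
    have hp2 : 2 ^ (gs.length + 2) = 4 * 2 ^ gs.length := by rw [pow_add]; ring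
    have hmodlt : zW % 2 ^ gs.length < 2 ^ gs.length := Nat.mod_lt _ (Nat.two_pow_pos _)
    have hlt : 4 * (zW % 2 ^ gs.length) + (2 * i + j) < 2 ^ (gs.length + 2) := by omega
    have hzVdiv : zV / 2 ^ (gs.length + 2) = zW / 2 ^ gs.length := by
      rw [hzVdef, Nat.mul_add_div (Nat.two_pow_pos _), Nat.div_eq_of_lt hlt, add_zero]
    have hbit : ∀ b, b < gs.length + 2 → zV.testBit b = (4 * (zW % 2 ^ gs.length) + (2 * i + j)).testBit b := by
      intro b hb
      rw [hzVdef, Nat.testBit_two_pow_mul_add _ (by omega), if_pos hb]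
    refine ⟨zV, ?_, fun l hl => ?_⟩
    · unfold nWords at hzW ⊢
      rw [hlen', hzVdef, hp2]
      have h1 : zW / 2 ^ gs.length < q - 1 := (Nat.div_lt_iff_lt_mul (Nat.two_pow_pos _)).mpr hzW
      have h2 : (zW / 2 ^ gs.length + 1) * (4 * 2 ^ gs.length) ≤ (q - 1) * (4 * 2 ^ gs.length) :=
        Nat.mul_le_mul_right _ h1
      rw [add_mul, one_mul, mul_comm (zW / 2 ^ gs.length)] at h2
      omega
    · rw [wApp, ev_scale hq0, hlen', hzVdiv, show List.range (gs.length + 2) =
        0 :: 1 :: (List.range gs.length).map (fun b => b + 2) by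
          rw [List.range_succ_eq_map, List.range_succ_eq_map]; simp [List.map_map, Function.comp_def]]
      rw [← gprod_ev (γ := γ') hgev zV _ (fun b hb => by
        simp only [List.mem_cons, List.mem_map, List.mem_range] at hb
        rw [hlen']
        rcases hb with rfl | rfl | ⟨c, hc, rfl⟩ <;> omega)]
      have hP' : gprod γ' zV ((List.range gs.length).map fun b => b + 2) = P := by
        have : ∀ bs : List ℕ, (∀ b ∈ bs, b < gs.length) → gprod γ' zV (bs.map fun b => b + 2) =
            ((gprod γ zW bs : fixStab V d) : G) := by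
          intro bs
          induction bs with
          | nil => intro _; rfl
          | cons b bs ih =>
            intro hbs
            have h := ih fun c hc => hbs c (List.mem_cons_of_mem b hc)
            have hb := hbs b List.mem_cons_self
            have hbt : zV.testBit (b + 2) = zW.testBit b := by
              rw [hbit _ (by omega), show 4 * (zW % 2 ^ gs.length) = 2 ^ 2 * (zW % 2 ^ gs.length) by norm_num,
                Nat.testBit_two_pow_mul_add _ (show 2 * i + j < 2 ^ 2 by omega), if_neg (by omega),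
                Nat.add_sub_cancel, Nat.testBit_mod_two_pow]
              simp [hb]
            show (if zV.testBit (b + 2) then γ' (b + 2) * gprod γ' zV (bs.map fun b => b + 2)
              else gprod γ' zV (bs.map fun b => b + 2)) = _
            rw [h, hbt]
            show _ = ((if zW.testBit b then γ b * gprod γ zW bs else gprod γ zW bs : fixStab V d) : G)
            split_ifs
            · simp [γ', g]
            · rfl
        exact this _ fun b hb => List.mem_range.mp hb
      have h01 : gprod γ' zV (0 :: 1 :: (List.range gs.length).map fun b => b + 2) = d ^ j * (X' ^ i * P) := by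
        show (if zV.testBit 0 then γ' 0 *
            (if zV.testBit 1 then γ' 1 * gprod γ' zV ((List.range gs.length).map fun b => b + 2)
              else gprod γ' zV ((List.range gs.length).map fun b => b + 2)) else
          (if zV.testBit 1 then γ' 1 * gprod γ' zV ((List.range gs.length).map fun b => b + 2)
              else gprod γ' zV ((List.range gs.length).map fun b => b + 2))) = _
        rw [hP', hbit 0 (by omega), hbit 1 (by omega)]
        rw [show 4 * (zW % 2 ^ gs.length) = 2 ^ 2 * (zW % 2 ^ gs.length) by norm_num,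
          Nat.testBit_two_pow_mul_add _ (show 2 * i + j < 2 ^ 2 by omega),
          Nat.testBit_two_pow_mul_add _ (show 2 * i + j < 2 ^ 2 by omega), if_pos (by norm_num : 0 < 2),
          if_pos (by norm_num : 1 < 2)]
        interval_cases i <;> interval_cases j <;> simp [γ', Nat.testBit_zero, Nat.testBit_succ]
      rw [h01, mul_smul, mul_smul, ← hF.lin _ (M.pow_mem hS.d_mem j), ← hF.lin _ (M.pow_mem hX'M i), ← hy2]
      -- recover `m`
      have hdd : d ^ j * d ^ j = (d ^ 2) ^ j := by rw [← pow_add, ← pow_mul]; congr 1; omega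
      rw [hy2def, mul_smul, smul_inv_smul, mul_smul, ← mul_smul (d ^ j) (d ^ j), hdd]
      exact ((stabilizer G (m • ev K (n + n) e' l)).pow_mem
        (show d ^ 2 ∈ stabilizer G (m • ev K (n + n) e' l) from hS.d_pow _) j).symm
  · rw [hlen'] at hb hc
    have h0 : ∀ b', b' < gs.length → ∀ x : V, d • g b' • x = g b' • d • x := hgd
    rcases (show b = 0 ∨ b = 1 ∨ 2 ≤ b by omega) with rfl | rfl | hb2 <;>
      rcases (show c = 0 ∨ c = 1 ∨ 2 ≤ c by omega) with rfl | rfl | hc2
    · simp [γ']
    · simp [γ', hdX']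
    · rw [if_neg (by omega)]
      simp only [γ', show c ≠ 0 by omega, show c ≠ 1 by omega, if_false, if_true]
      exact h0 _ (by omega) x
    · simp [γ', hdX']
    · simp [γ']
    · rw [if_neg (by omega)]
      simp only [γ', show c ≠ 0 by omega, show c ≠ 1 by omega, one_ne_zero, if_false, if_true]
      exact hX'c _ (by omega) x
    · rw [if_neg (by omega)]
      simp only [γ', show b ≠ 0 by omega, show b ≠ 1 by omega, if_false, if_true]
      exact (h0 _ (by omega) x).symm
    · rw [if_neg (by omega)]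
      simp only [γ', show b ≠ 0 by omega, show b ≠ 1 by omega, one_ne_zero, if_false, if_true]
      exact (hX'c _ (by omega) x).symm
    · simp only [γ', show b ≠ 0 by omega, show b ≠ 1 by omega, show c ≠ 0 by omega, show c ≠ 1 by omega,
        if_false]
      rw [hrel (b - 2) (by omega) (c - 2) (by omega)]
      refine if_congr ?_ rfl rfl
      omega

end lift

end Cfsg.Agent.GStructB.CoprimeBase
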