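import Cfsg.Agent.GStructB.CoprimeBase.Frame

/-!
# Splitting a module by an element of prime order

An element `d` of prime order `s` with a non-zero fixed vector and a partner `X` with
`d X = ζ X d`, `X ^ s` scalar, splits the module into `s` translates of the fixed space of `d`.
-/

set_option autoImplicit false
set_option linter.style.haveILetI false
set_option linter.unusedSectionVars false

open MulAction

namespace Cfsg.Agent.GStructB.CoprimeBase

universe u v w

variable {K : Type u} [Field K] {G : Type v} [Group G] {V : Type w} [AddCommGroup V] [Module K V]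
  [DistribMulAction G V] {M A : Subgroup G}

variable (V) in
/-- An element of prime order with a partner. -/
structure IsSplit (M : Subgroup G) (s : ℕ) (d X : G) (ζ ξ : K) : Prop where
  prime : s.Prime
  d_mem : d ∈ M
  X_mem : X ∈ M
  d_pow : ∀ x : V, d ^ s • x = x
  X_pow : ∀ x : V, X ^ s • x = ξ • x
  comm : ∀ x : V, d • X • x = ζ • X • d • x
  zeta_ne : ζ ≠ 1
  zeta_pow : ζ ^ s = 1
  fix : ∃ x : V, x ≠ 0 ∧ d • x = x

theorem comm_pow_right (hF : Frame K V M A) {x y : G} (hy : y ∈ M) {c : K}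
    (h : ∀ z : V, x • y • z = c • y • x • z) : ∀ (i : ℕ) (z : V), x • y ^ i • z = c ^ i • y ^ i • x • z := by
  intro i
  induction i with
  | zero => intro z; simp
  | succ i ih =>
    intro z
    rw [pow_succ', mul_smul, h, ih, hF.lin y hy, smul_smul, ← mul_smul (α := G), ← pow_succ']

theorem comm_pow_left (hF : Frame K V M A) {x y : G} (hx : x ∈ M) {c : K}
    (h : ∀ z : V, x • y • z = c • y • x • z) : ∀ (i : ℕ) (z : V), x ^ i • y • z = c ^ i • y • x ^ i • z := by
  intro i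
  induction i with
  | zero => intro z; simp
  | succ i ih =>
    intro z
    rw [pow_succ', mul_smul, ih, hF.lin x hx, h, smul_smul, ← pow_succ, mul_smul]

/-- A non-trivial element of `M` fixing a non-zero vector yields a splitting. -/
theorem exists_split [Finite G] (hF : Frame K V M A) {m : G} (hm : m ∈ M) {x₀ : V} (hx₀ : x₀ ≠ 0)
    (hfix : m • x₀ = x₀) (hne : ∃ x : V, m • x ≠ x) :
    ∃ (s : ℕ) (d X : G) (ζ ξ : K), IsSplit V M s d X ζ ξ := by
  classical
  have hex : ∃ n, 0 < n ∧ ∀ x : V, m ^ n • x = x :=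
    ⟨orderOf m, orderOf_pos m, fun x => by rw [pow_orderOf_eq_one, one_smul]⟩
  set n := Nat.find hex
  obtain ⟨hn, hmn⟩ := Nat.find_spec hex
  have hn1 : n ≠ 1 := fun e => by
    obtain ⟨x, hx⟩ := hne
    have := hmn x
    rw [show Nat.find hex = 1 from e, pow_one] at this
    exact hx this
  obtain ⟨s, hs, hsn⟩ := Nat.exists_prime_and_dvd hn1
  obtain ⟨k, hk⟩ := hsn
  have hkn : k < n := by
    rw [hk]
    have hk0 : 0 < k := Nat.pos_of_ne_zero fun e => by rw [e, mul_zero] at hk; omega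
    exact lt_mul_left hk0 hs.one_lt
  have hk0 : 0 < k := Nat.pos_of_ne_zero fun e => by rw [e, mul_zero] at hk; omega
  set d := m ^ k
  have hdM : d ∈ M := M.pow_mem hm k
  have hdne : ∃ x : V, d • x ≠ x := by
    by_contra h
    push Not at h
    exact Nat.find_min hex hkn ⟨hk0, h⟩
  have hds : ∀ x : V, d ^ s • x = x := fun x => by rw [← pow_mul, mul_comm, ← hk]; exact hmn x
  have hd0 : d • x₀ = x₀ := (stabilizer G x₀).pow_mem (show m ∈ stabilizer G x₀ from hfix) k
  have hnscal : ¬ IsScal K V d := by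
    rintro ⟨c, hc⟩
    have h := hc x₀
    rw [hd0] at h
    have h' : (c - 1) • x₀ = 0 := by rw [sub_smul, one_smul, ← h, sub_self]
    have hc1 := sub_eq_zero.mp ((smul_eq_zero.mp h').resolve_right hx₀)
    obtain ⟨x, hx⟩ := hdne
    exact hx (by rw [hc, hc1, one_smul])
  obtain ⟨y, hy, z, hyz⟩ : ∃ y ∈ M, ∃ z : V, d • y • z ≠ y • d • z := by
    by_contra h
    push Not at h
    exact hnscal (hF.centre d hdM h)
  obtain ⟨c, hc0, hc⟩ := hF.comm d hdM y hy
  have hc1 : c ≠ 1 := fun e => hyz (by rw [hc, e, one_smul])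
  have hcs : c ^ s = 1 := by
    have h := comm_pow_left hF hdM hc s x₀
    rw [hds, hds] at h
    have hne0 : y • x₀ ≠ 0 := by rwa [ne_eq, smul_eq_zero_iff_eq]
    have h' : (c ^ s - 1) • (y • x₀) = 0 := by rw [sub_smul, one_smul, ← h, sub_self]
    exact sub_eq_zero.mp ((smul_eq_zero.mp h').resolve_right hne0)
  obtain ⟨a, r, hr, har⟩ := Nat.exists_eq_pow_mul_and_not_dvd (orderOf_pos y).ne' s hs.ne_one
  haveI := Fact.mk hs
  have hoc : orderOf c = s := orderOf_eq_prime hcs hc1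
  obtain ⟨ξ, hξ⟩ : IsScal K V ((y ^ r) ^ s) := hF.pow_prime_scal (M.pow_mem hy r) hs a (by
    rw [← pow_mul, mul_comm, ← har, pow_orderOf_eq_one]
    exact IsScal.one)
  refine ⟨s, d, y ^ r, c ^ r, ξ, hs, hdM, M.pow_mem hy r, hds, hξ, comm_pow_right hF hy hc r,
    fun e => hr ?_, ?_, x₀, hx₀, hd0⟩
  · rw [← hoc]
    exact orderOf_dvd_of_pow_eq_one e
  · rw [← pow_mul, mul_comm, pow_mul, hcs, one_pow]

variable (K V) in
/-- The fixed space of a linear element. -/
def fixSpace (d : G) (hlin : ∀ (k : K) (x : V), d • k • x = k • d • x) : Submodule K V where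
  carrier := {x | d • x = x}
  zero_mem' := smul_zero d
  add_mem' {x y} (hx : d • x = x) (hy : d • y = y) := by
    show d • (x + y) = x + y
    rw [smul_add, hx, hy]
  smul_mem' k x (hx : d • x = x) := by
    show d • (k • x) = k • x
    rw [hlin, hx]

variable (V) in
/-- The elements mapping the fixed points of `d` onto themselves. -/
def fixStab (d : G) : Subgroup G where
  carrier := {g | ∀ x : V, d • g • x = g • x ↔ d • x = x}
  one_mem' x := by rw [one_smul]
  mul_mem' {g h} hg hh x := by rw [mul_smul, hg, hh]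
  inv_mem' {g} hg x := by rw [← hg, smul_inv_smul]

theorem mem_fixStab {d g : G} : g ∈ fixStab V d ↔ ∀ x : V, d • g • x = g • x ↔ d • x = x := Iff.rfl

namespace IsSplit

variable {s : ℕ} {d X : G} {ζ ξ : K} (hS : IsSplit V M s d X ζ ξ) (hF : Frame K V M A)
include hS

theorem primitive : IsPrimitiveRoot ζ s :=
  haveI := Fact.mk hS.prime
  IsPrimitiveRoot.iff_orderOf.mpr (orderOf_eq_prime hS.zeta_pow hS.zeta_ne)

theorem zeta_ne_zero : ζ ≠ 0 := (hS.primitive).ne_zero hS.prime.ne_zero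

theorem two_le : 2 ≤ s := hS.prime.two_le

theorem natCast_ne_zero [Finite K] : (s : K) ≠ 0 := by
  intro h
  haveI := Fact.mk hS.prime
  haveI : CharP K s := (CharP.charP_iff_prime_eq_zero hS.prime).mpr h
  have h0 : (ζ - 1) ^ s = 0 := by rw [sub_pow_char, hS.zeta_pow, one_pow, sub_self]
  exact hS.zeta_ne (sub_eq_zero.mp (pow_eq_zero_iff hS.prime.ne_zero |>.mp h0))

theorem zeta_pow_mod (i : ℕ) : ζ ^ i = ζ ^ (i % s) := by
  conv_lhs => rw [← Nat.mod_add_div i s]
  rw [pow_add, pow_mul, hS.zeta_pow, one_pow, mul_one]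

theorem zeta_pow_inj {i j : ℕ} (hi : i < s) (hj : j < s) (h : ζ ^ i = ζ ^ j) : i = j :=
  hS.primitive.pow_inj hi hj h

include hF

theorem dlin (k : K) (x : V) : d • k • x = k • d • x := hF.lin d hS.d_mem k x

theorem Xlin (i : ℕ) (k : K) (x : V) : X ^ i • k • x = k • X ^ i • x :=
  hF.lin _ (M.pow_mem hS.X_mem i) k x

theorem comm_pow (i : ℕ) (x : V) : d • X ^ i • x = ζ ^ i • X ^ i • d • x :=
  comm_pow_right hF hS.X_mem hS.comm i x

theorem dpow_eigen {k : K} {x : V} (hx : d • x = k • x) : ∀ j : ℕ, d ^ j • x = k ^ j • x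
  | 0 => by simp
  | j + 1 => by rw [pow_succ', mul_smul, dpow_eigen hx j, hS.dlin hF, hx, smul_smul, ← pow_succ]

theorem eigen_translate {x : V} (hx : d • x = x) (i : ℕ) : d • X ^ i • x = ζ ^ i • X ^ i • x := by
  rw [hS.comm_pow hF, hx]

omit hF in
/-- The projection to an eigenspace. -/
def proj (_ : IsSplit V M s d X ζ ξ) (k : ℕ) (x : V) : V :=
  (s : K)⁻¹ • ∑ j ∈ Finset.range s, ((ζ ^ k) ^ j)⁻¹ • d ^ j • x

omit hF in
theorem proj_add (k : ℕ) (x y : V) : hS.proj k (x + y) = hS.proj k x + hS.proj k y := by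
  simp only [proj, smul_add, Finset.sum_add_distrib]

omit hF in
theorem proj_zero (k : ℕ) : hS.proj k (0 : V) = 0 := by simp [proj]

theorem proj_smul (k : ℕ) (a : K) (x : V) : hS.proj k (a • x) = a • hS.proj k x := by
  simp only [proj, Finset.smul_sum]
  refine Finset.sum_congr rfl fun j _ => ?_
  rw [hF.lin _ (M.pow_mem hS.d_mem j), smul_comm _ a, smul_comm _ a]

theorem proj_eigen [Finite K] {i : ℕ} {x : V} (hx : d • x = ζ ^ i • x) (k : ℕ) :
    hS.proj k x = if i % s = k % s then x else 0 := by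
  have hsum : ∑ j ∈ Finset.range s, ((ζ ^ k) ^ j)⁻¹ • d ^ j • x =
      (∑ j ∈ Finset.range s, ((ζ ^ k)⁻¹ * ζ ^ i) ^ j) • x := by
    rw [Finset.sum_smul]
    refine Finset.sum_congr rfl fun j _ => ?_
    rw [hS.dpow_eigen hF hx, smul_smul, mul_pow, inv_pow]
  rw [proj, hsum]
  have hz : ζ ^ k ≠ 0 := pow_ne_zero _ hS.zeta_ne_zero
  split_ifs with h
  · rw [show (ζ ^ k)⁻¹ * ζ ^ i = 1 by
      rw [inv_mul_eq_one₀ hz, hS.zeta_pow_mod k, ← h, ← hS.zeta_pow_mod i]]
    simp [smul_smul, hS.natCast_ne_zero]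
  · rw [show ∑ j ∈ Finset.range s, ((ζ ^ k)⁻¹ * ζ ^ i) ^ j = 0 by
      have hne : (ζ ^ k)⁻¹ * ζ ^ i - 1 ≠ 0 := fun e => h (by
        rw [sub_eq_zero, inv_mul_eq_one₀ hz, hS.zeta_pow_mod k, hS.zeta_pow_mod i] at e
        exact (hS.zeta_pow_inj (Nat.mod_lt _ hS.prime.pos) (Nat.mod_lt _ hS.prime.pos) e).symm)
      have hg := geom_sum_mul ((ζ ^ k)⁻¹ * ζ ^ i) s
      rw [mul_pow, inv_pow, ← pow_mul, ← pow_mul, mul_comm k, mul_comm i, pow_mul, pow_mul, hS.zeta_pow,
        one_pow, one_pow, inv_one, one_mul, sub_self] at hg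
      exact (mul_eq_zero.mp hg).resolve_right hne, zero_smul, smul_zero]

theorem proj_translate [Finite K] {x : V} (hx : d • x = x) {i k : ℕ} (hi : i < s) (hk : k < s) :
    hS.proj k (X ^ i • x) = if i = k then X ^ i • x else 0 := by
  rw [hS.proj_eigen hF (hS.eigen_translate hF hx i), Nat.mod_eq_of_lt hi, Nat.mod_eq_of_lt hk]

theorem d_proj (k : ℕ) (x : V) : d • hS.proj k x = ζ ^ k • hS.proj k x := by
  have hz : ζ ^ k ≠ 0 := pow_ne_zero _ hS.zeta_ne_zero
  have hper : (fun j => ((ζ ^ k) ^ j)⁻¹ • d ^ j • x) s = (fun j => ((ζ ^ k) ^ j)⁻¹ • d ^ j • x) 0 := by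
    show ((ζ ^ k) ^ s)⁻¹ • d ^ s • x = ((ζ ^ k) ^ 0)⁻¹ • d ^ 0 • x
    rw [hS.d_pow, ← pow_mul, mul_comm, pow_mul, hS.zeta_pow, one_pow, pow_zero, pow_zero, one_smul]
  have hshift : ∑ j ∈ Finset.range s, ((ζ ^ k) ^ (j + 1))⁻¹ • d ^ (j + 1) • x =
      ∑ j ∈ Finset.range s, ((ζ ^ k) ^ j)⁻¹ • d ^ j • x := by
    have h1 := Finset.sum_range_succ' (fun j => ((ζ ^ k) ^ j)⁻¹ • d ^ j • x) s
    have h2 := Finset.sum_range_succ (fun j => ((ζ ^ k) ^ j)⁻¹ • d ^ j • x) s
    rw [h1] at h2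
    exact add_right_cancel (h2.trans (congrArg (_ + ·) hper))
  simp only [proj]
  rw [hS.dlin hF, smul_comm (ζ ^ k), Finset.smul_sum]
  congr 1
  conv_rhs => rw [← hshift, Finset.smul_sum]
  refine Finset.sum_congr rfl fun j _ => ?_
  rw [hS.dlin hF, ← mul_smul (α := G), ← pow_succ', smul_smul, pow_succ (ζ ^ k), mul_inv,
    mul_left_comm, mul_inv_cancel₀ hz, mul_one]

omit hF in
theorem sum_proj [Finite K] (x : V) : ∑ k ∈ Finset.range s, hS.proj k x = x := by
  simp only [proj]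
  rw [← Finset.smul_sum, Finset.sum_comm]
  rw [Finset.sum_eq_single 0]
  · simp only [pow_zero, inv_one, one_smul, Finset.sum_const, Finset.card_range]
    rw [← Nat.cast_smul_eq_nsmul K, smul_smul, inv_mul_cancel₀ hS.natCast_ne_zero, one_smul]
  · intro j hj hj0
    rw [← Finset.sum_smul, show ∑ k ∈ Finset.range s, ((ζ ^ k) ^ j)⁻¹ = 0 by
      have h : ∀ k, ((ζ ^ k) ^ j)⁻¹ = ((ζ ^ j)⁻¹) ^ k := fun k => by rw [inv_pow, pow_right_comm]
      rw [Finset.sum_congr rfl fun k _ => h k]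
      have hne : (ζ ^ j)⁻¹ - 1 ≠ 0 := fun e => hj0 (by
        rw [sub_eq_zero, inv_eq_one, ← pow_zero ζ] at e
        exact hS.zeta_pow_inj (Finset.mem_range.mp hj) hS.prime.pos e)
      have hg := geom_sum_mul (ζ ^ j)⁻¹ s
      rw [inv_pow, ← pow_mul, mul_comm j, pow_mul, hS.zeta_pow, one_pow, inv_one, sub_self] at hg
      exact (mul_eq_zero.mp hg).resolve_right hne, zero_smul]
  · exact fun h => absurd (Finset.mem_range.mpr hS.prime.pos) h

/-- Every vector is a sum of translates of fixed vectors. -/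
theorem exists_decomp [Finite K] (x : V) :
    ∃ f : ℕ → V, (∀ i, d • f i = f i) ∧ ∑ i ∈ Finset.range s, X ^ i • f i = x := by
  refine ⟨fun i => (X ^ i)⁻¹ • hS.proj i x, fun i => ?_, ?_⟩
  · have h := hS.comm_pow hF i ((X ^ i)⁻¹ • hS.proj i x)
    rw [smul_inv_smul, hS.d_proj hF, ← hF.lin _ (M.pow_mem hS.X_mem i)] at h
    have h' := MulAction.injective (X ^ i) (show X ^ i • ((X ^ i)⁻¹ • (ζ ^ i • hS.proj i x)) =
      X ^ i • (ζ ^ i • d • (X ^ i)⁻¹ • hS.proj i x) by rw [smul_inv_smul]; exact h)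
    rw [hF.lin _ (M.inv_mem (M.pow_mem hS.X_mem i))] at h'
    exact (smul_right_injective V (pow_ne_zero i hS.zeta_ne_zero) h').symm
  · simp only [smul_inv_smul]
    exact hS.sum_proj x

/-- Equality of linear maps can be tested on translates of fixed vectors. -/
theorem ext_translates [Finite K] {g h : G}
    (hgh : ∀ i < s, ∀ x : V, d • x = x → g • X ^ i • x = h • X ^ i • x) (x : V) : g • x = h • x := by
  obtain ⟨f, hf, rfl⟩ := hS.exists_decomp hF x
  rw [Finset.smul_sum, Finset.smul_sum]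
  exact Finset.sum_congr rfl fun i hi => hgh i (Finset.mem_range.mp hi) _ (hf i)

/-- An element of `M` joining two non-zero fixed vectors centralizes `d`. -/
theorem mem_fixStab_of {m : G} (hm : m ∈ M) {x : V} (hx0 : x ≠ 0) (hx : d • x = x)
    (hmx : d • m • x = m • x) : m ∈ fixStab V d := by
  obtain ⟨c, hc0, hc⟩ := hF.comm d hS.d_mem m hm
  have hc1 : c = 1 := by
    have h := hc x
    rw [hx, hmx] at h
    have hne : m • x ≠ 0 := by rwa [ne_eq, smul_eq_zero_iff_eq]
    have h' : (c - 1) • (m • x) = 0 := by rw [sub_smul, one_smul, ← h, sub_self]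
    exact sub_eq_zero.mp ((smul_eq_zero.mp h').resolve_right hne)
  intro y
  rw [hc, hc1, one_smul]
  exact (MulAction.injective m).eq_iff

theorem comm_of_fixStab {m : G} (hm : m ∈ M) (hmS : m ∈ fixStab V d) (x : V) :
    d • m • x = m • d • x := by
  obtain ⟨y, hy0, hy⟩ := hS.fix
  obtain ⟨c, hc0, hc⟩ := hF.comm d hS.d_mem m hm
  have h := hc y
  rw [hy, (hmS y).mpr hy] at h
  have hne : m • y ≠ 0 := by rwa [ne_eq, smul_eq_zero_iff_eq]
  have h' : (c - 1) • (m • y) = 0 := by rw [sub_smul, one_smul, ← h, sub_self]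
  rw [hc, sub_eq_zero.mp ((smul_eq_zero.mp h').resolve_right hne), one_smul]

/-- `M` is covered by the translates of the centralizer of `d`. -/
theorem cover {m : G} (hm : m ∈ M) : ∃ i < s, (X ^ i)⁻¹ * m ∈ fixStab V d := by
  haveI : NeZero s := ⟨hS.prime.ne_zero⟩
  obtain ⟨y, hy0, hy⟩ := hS.fix
  obtain ⟨c, hc0, hc⟩ := hF.comm d hS.d_mem m hm
  have hne : m • y ≠ 0 := by rwa [ne_eq, smul_eq_zero_iff_eq]
  have hcs : c ^ s = 1 := by
    have h := comm_pow_left hF hS.d_mem hc s y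
    rw [hS.d_pow, hS.d_pow] at h
    have h' : (c ^ s - 1) • (m • y) = 0 := by rw [sub_smul, one_smul, ← h, sub_self]
    exact sub_eq_zero.mp ((smul_eq_zero.mp h').resolve_right hne)
  obtain ⟨i, hi, rfl⟩ := hS.primitive.eq_pow_of_pow_eq_one hcs
  refine ⟨i, hi, hS.mem_fixStab_of hF (M.mul_mem (M.inv_mem (M.pow_mem hS.X_mem i)) hm) hy0 hy ?_⟩
  have h := hS.comm_pow hF i ((X ^ i)⁻¹ • m • y)
  rw [smul_inv_smul, hc, hy, ← hF.lin _ (M.pow_mem hS.X_mem i)] at h
  have h' := MulAction.injective (X ^ i) (show X ^ i • ((X ^ i)⁻¹ • (ζ ^ i • m • y)) =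
    X ^ i • (ζ ^ i • d • (X ^ i)⁻¹ • m • y) by rw [smul_inv_smul]; exact h)
  rw [hF.lin _ (M.inv_mem (M.pow_mem hS.X_mem i))] at h'
  rw [mul_smul]
  exact (smul_right_injective V (pow_ne_zero i hS.zeta_ne_zero) h').symm

/-- An element of `M` fixing the fixed space pointwise acts as a power of `d`. -/
theorem eq_dpow [Finite K] {m : G} (hm : m ∈ M) (hfix : ∀ x : V, d • x = x → m • x = x) :
    ∃ j < s, ∀ x : V, m • x = d ^ j • x := by
  haveI : NeZero s := ⟨hS.prime.ne_zero⟩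
  obtain ⟨y, hy0, hy⟩ := hS.fix
  obtain ⟨c, hc0, hc⟩ := hF.comm m hm X hS.X_mem
  have hcs : c ^ s = 1 := by
    have h := comm_pow_right hF hS.X_mem hc s y
    rw [hS.X_pow, hF.lin m hm, hfix y hy, hS.X_pow, smul_smul] at h
    have hξ : ξ ≠ 0 := by
      rintro rfl
      have h0 := hS.X_pow y
      rw [zero_smul, smul_eq_zero_iff_eq] at h0
      exact hy0 h0
    have h' : (c ^ s * ξ - ξ) • y = 0 := by rw [sub_smul, ← h, sub_self]
    have := sub_eq_zero.mp ((smul_eq_zero.mp h').resolve_right hy0)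
    exact mul_right_cancel₀ hξ (this.trans (one_mul ξ).symm)
  obtain ⟨j, hj, rfl⟩ := hS.primitive.eq_pow_of_pow_eq_one hcs
  refine ⟨j, hj, hS.ext_translates hF fun i _ x hx => ?_⟩
  rw [comm_pow_right hF hS.X_mem hc i x, hfix x hx, hS.dpow_eigen hF (hS.eigen_translate hF hx i),
    pow_right_comm]

/-- A power of `d` with the same fixed space. -/
theorem fix_dpow [Finite K] {j : ℕ} (hj0 : j ≠ 0) (hj : j < s) {x : V} :
    d ^ j • x = x ↔ d • x = x := by
  constructor
  · intro h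
    obtain ⟨e, -, he⟩ := Nat.exists_mul_mod_eq_one_of_coprime (k := s) (n := j)
      ((hS.prime.coprime_iff_not_dvd.mpr fun hd =>
        absurd (Nat.le_of_dvd (Nat.pos_of_ne_zero hj0) hd) (by omega)).symm) hS.prime.one_lt
    have h1 : d ^ (j * e) • x = x := by
      rw [pow_mul]
      exact (stabilizer G x).pow_mem (show d ^ j ∈ stabilizer G x from h) e
    rw [← Nat.mod_add_div (j * e) s, he, pow_add, pow_one, pow_mul, mul_smul] at h1
    have h2 : (d ^ s) ^ (j * e / s) • x = x :=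
      (stabilizer G x).pow_mem (show d ^ s ∈ stabilizer G x from hS.d_pow x) _
    rwa [h2] at h1
  · intro h
    exact (stabilizer G x).pow_mem (show d ∈ stabilizer G x from h) j

/-- An element of `A` preserves the fixed space once it maps a free fixed vector to a free one. -/
theorem mem_fixStab_of_free [Finite K] {g : G} (hg : g ∈ A) {x : V} (hx0 : x ≠ 0) (hx : d • x = x)
    (hgx : d • g • x = g • x)
    (hfree : ∀ m ∈ M, m ∈ fixStab V d → m • g • x = g • x → ∀ y : V, d • y = y → m • y = y) :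
    g ∈ fixStab V d := by
  set m := g * d * g⁻¹ with hm
  have hmM : m ∈ M := hF.norm g hg d hS.d_mem
  have hmgx : m • g • x = g • x := by rw [hm, mul_smul, mul_smul, inv_smul_smul, hx]
  have hne : g • x ≠ 0 := by rwa [ne_eq, smul_eq_zero_iff_eq]
  have hmS := hS.mem_fixStab_of hF hmM hne hgx (by rw [hmgx]; exact hgx)
  obtain ⟨j, hj, hjm⟩ := hS.eq_dpow hF hmM (hfree m hmM hmS hmgx)
  have hj0 : j ≠ 0 := by
    rintro rfl
    apply hS.zeta_ne
    have hd : ∀ y : V, d • y = y := fun y => by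
      have h := hjm (g • y)
      rw [pow_zero, one_smul, hm, mul_smul, mul_smul, inv_smul_smul] at h
      exact MulAction.injective g h
    have h := hS.comm x
    rw [hx, hd] at h
    have hne' : X • x ≠ 0 := by rwa [ne_eq, smul_eq_zero_iff_eq]
    have h' : (ζ - 1) • (X • x) = 0 := by rw [sub_smul, one_smul, ← h, sub_self]
    exact sub_eq_zero.mp ((smul_eq_zero.mp h').resolve_right hne')
  intro y
  rw [← hS.fix_dpow hF hj0 hj, ← hjm, hm, mul_smul, mul_smul, inv_smul_smul]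
  exact (MulAction.injective g).eq_iff

end IsSplit

end Cfsg.Agent.GStructB.CoprimeBase
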