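import Cfsg.Agent.GStructB.OddBase.Field
import Cfsg.Agent.GStructB.CoprimeBase.Split

/-!
# The quasi-primitive setting

A largest abelian normal subgroup gives a field over which the group is semilinear, and a largest
normal subgroup of class two above it in its centralizer has scalar centralizer.
-/

set_option autoImplicit false
set_option linter.style.haveILetI false
set_option linter.unusedSectionVars false

open MulAction

namespace Cfsg.Agent.GStructB.CoprimeBase

universe u

open OddBase (genRing conjRing conjEnd conjEnd_inv)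

/-- The group is semilinear, and `M` is normal of class two with scalar centralizer and without
non-scalar normal abelian subgroups of the whole group. -/
structure Quasi (K : Type u) [Field K] {A : Type u} [Group A] (V : Type u) [AddCommGroup V] [Module K V]
    [DistribMulAction A V] (M : Subgroup A) : Prop where
  semi : ∀ g : A, ∃ σ : K ≃+* K, ∀ (k : K) (x : V), g • k • x = σ k • g • x
  normal : M.Normal
  lin : ∀ m ∈ M, ∀ (k : K) (x : V), m • k • x = k • m • x
  comm : ∀ x ∈ M, ∀ y ∈ M, ∃ c : K, c ≠ 0 ∧ ∀ z : V, x • y • z = c • y • x • z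
  cent : ∀ g : A, (∀ (k : K) (x : V), g • k • x = k • g • x) →
    (∀ y ∈ M, ∀ x : V, g • y • x = y • g • x) → g ∈ M ∧ IsScal K V g
  iso : ∀ L : Subgroup A, L.Normal → L ≤ M → (∀ x ∈ L, ∀ y ∈ L, x * y = y * x) →
    ∀ x ∈ L, IsScal K V x

variable {A : Type u} [Group A] [Finite A] {V : Type u} [AddCommGroup V] [Finite V]
  [DistribMulAction A V] [FaithfulSMul A V]

set_option maxHeartbeats 1000000 in
/-- The setting exists when every abelian normal subgroup generates a field. -/
theorem exists_quasi (hs : Group.IsSolvable A)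
    (hfield : ∀ B : Subgroup A, B.Normal → (∀ x ∈ B, ∀ y ∈ B, x * y = y * x) →
      IsField (genRing V B)) :
    ∃ (K : Type u) (_ : Field K) (_ : Finite K) (_ : Module K V) (M : Subgroup A), Quasi K V M := by
  classical
  -- a maximal abelian normal subgroup
  obtain ⟨B, hBmem, hBmax⟩ := Set.Finite.exists_maximalFor (fun B : Subgroup A => Nat.card B)
    {B : Subgroup A | B.Normal ∧ ∀ x ∈ B, ∀ y ∈ B, x * y = y * x} (Set.toFinite _)
    ⟨⊥, inferInstance, fun x hx y hy => by rw [Subgroup.mem_bot.mp hx, Subgroup.mem_bot.mp hy]⟩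
  obtain ⟨hBn, hBab⟩ := hBmem
  haveI := hBn
  have hBmax' : ∀ L : Subgroup A, B ≤ L → L.Normal → (∀ x ∈ L, ∀ y ∈ L, x * y = y * x) → L = B :=
    fun L hle hLn hLab => (Subgroup.eq_of_le_of_card_ge hle
      (hBmax (j := L) ⟨hLn, hLab⟩ (Subgroup.card_le_of_le hle))).symm
  -- the field
  set K := genRing V B
  letI hK : Field K := (hfield B hBn hBab).toField
  haveI : Finite (AddMonoid.End V) :=
    Finite.of_injective (fun f : AddMonoid.End V => (f : V → V)) DFunLike.coe_injective
  haveI : Finite K := Finite.of_injective _ Subtype.val_injective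
  have hKsmul : ∀ (k : K) (v : V), k • v = k.1 v := fun k v => rfl
  let ι₀ : B →* K :=
    { toFun := fun b => ⟨DistribMulAction.toAddMonoidEnd A V b, Subring.subset_closure ⟨b, b.2, rfl⟩⟩
      map_one' := Subtype.ext (map_one _)
      map_mul' := fun a b => Subtype.ext (map_mul _ _ _) }
  let ι : B →* Kˣ := ι₀.toHomUnits
  have hι : ∀ (b : B) (v : V), (ι b : K) • v = (b : A) • v := fun b v => rfl
  have hιinj : Function.Injective ι := by
    intro a b e
    refine Subtype.ext (eq_of_smul_eq_smul fun v : V => ?_)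
    rw [← hι, ← hι, e]
  have hσ : ∀ (g : A) (k : K) (v : V), g • (k • v) = conjRing B g k • g • v := fun g k v => by
    show g • k.1 v = g • k.1 (g⁻¹ • g • v)
    rw [inv_smul_smul]
  -- the centralizer
  set C := Subgroup.centralizer (B : Set A) with hC
  haveI hCn : C.Normal := by rw [hC]; exact Subgroup.normal_centralizer
  have hBC : B ≤ C := fun x hx => Subgroup.mem_centralizer_iff.mpr fun y hy => hBab y hy x hx
  have hCB : ∀ x ∈ C, ∀ b ∈ B, b * x = x * b := fun x hx b hb => Subgroup.mem_centralizer_iff.mp hx b hb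
  have hCfix : ∀ g : A, g ∈ C ↔ ∀ k : K, conjRing B g k = k := by
    intro g
    constructor
    · intro hg k
      have hle : K ≤ (conjEnd (V := V) g).eqLocus (RingHom.id _) := by
        rw [show K = Subring.closure _ from rfl, Subring.closure_le]
        rintro _ ⟨b, hb, rfl⟩
        show DistribMulAction.toAddMonoidEnd A V g * DistribMulAction.toAddMonoidEnd A V b *
          DistribMulAction.toAddMonoidEnd A V g⁻¹ = DistribMulAction.toAddMonoidEnd A V b
        rw [← map_mul, ← map_mul, ← hCB g hg b hb, mul_inv_cancel_right]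
      exact Subtype.ext (hle k.2)
    · intro h
      rw [hC, Subgroup.mem_centralizer_iff]
      intro b hb
      have e := congrArg Subtype.val (h (ι ⟨b, hb⟩ : K))
      refine eq_of_smul_eq_smul fun v : V => ?_
      have e' := DFunLike.congr_fun e (g • v)
      change g • b • g⁻¹ • g • v = b • g • v at e'
      rw [inv_smul_smul] at e'
      rw [mul_smul, mul_smul, e']
  have hlin : ∀ x ∈ C, ∀ (k : K) (v : V), x • (k • v) = k • x • v := fun x hx k v => by
    rw [hσ, (hCfix x).mp hx]
  -- a maximal class two subgroup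
  obtain ⟨M, hMmem, hMmax⟩ := Set.Finite.exists_maximalFor (fun M : Subgroup A => Nat.card M)
    {M : Subgroup A | M.Normal ∧ B ≤ M ∧ M ≤ C ∧ ∀ x ∈ M, ∀ y ∈ M, x * y * x⁻¹ * y⁻¹ ∈ B}
    (Set.toFinite _) ⟨B, hBn, le_rfl, hBC, fun x hx y hy =>
      mul_mem (mul_mem (mul_mem hx hy) (inv_mem hx)) (inv_mem hy)⟩
  obtain ⟨hMn, hBM, hMC, hMcl⟩ := hMmem
  haveI := hMn
  have hCM : ∀ x ∈ C, (∀ y ∈ M, y * x = x * y) → x ∈ B := by
    by_contra hno
    push Not at hno
    obtain ⟨x₀, hx₀C, hx₀M, hx₀B⟩ := hno
    set D := C ⊓ Subgroup.centralizer (M : Set A) with hD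
    haveI hMcn : (Subgroup.centralizer (M : Set A)).Normal := Subgroup.normal_centralizer
    haveI hDn : D.Normal := Subgroup.normal_inf_normal _ _
    obtain ⟨k, hk⟩ := (Group.isSolvable_of_isSolvable_injective D.subtype_injective :
      Group.IsSolvable D).solvable
    have hex : ∃ j, (derivedSeries D j).map D.subtype ≤ B := ⟨k, by rw [hk, Subgroup.map_bot]; exact bot_le⟩
    have h0 : ¬ (derivedSeries D 0).map D.subtype ≤ B := by
      rw [derivedSeries_zero, ← MonoidHom.range_eq_map, Subgroup.range_subtype]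
      exact fun h => hx₀B (h ⟨hx₀C, Subgroup.mem_centralizer_iff.mpr hx₀M⟩)
    obtain ⟨j, hj⟩ : ∃ j, Nat.find hex = j + 1 :=
      Nat.exists_eq_succ_of_ne_zero fun e => h0 (e ▸ Nat.find_spec hex)
    have hjB := Nat.find_spec hex
    rw [hj] at hjB
    have hjN := Nat.find_min hex (show j < Nat.find hex by omega)
    set E := (derivedSeries D j).map D.subtype with hE
    haveI hEn : E.Normal := by
      haveI : (derivedSeries D j).Characteristic := derivedSeries_characteristic D j
      exact ConjAct.normal_of_characteristic_of_normal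
    have hED : E ≤ D := Subgroup.map_subtype_le _
    have hEcl : ∀ x ∈ E, ∀ y ∈ E, x * y * x⁻¹ * y⁻¹ ∈ B := by
      rintro _ ⟨a, ha, rfl⟩ _ ⟨b, hb, rfl⟩
      refine hjB ⟨a * b * a⁻¹ * b⁻¹, ?_, by simp⟩
      rw [derivedSeries_succ]
      exact Subgroup.commutator_mem_commutator ha hb
    have hmk : ∀ x y : A, x * y * x⁻¹ * y⁻¹ ∈ B →
        (x : A ⧸ B) * y = (y : A ⧸ B) * x := by
      intro x y h
      have := (QuotientGroup.eq_one_iff _).mpr h
      rw [QuotientGroup.mk_mul, QuotientGroup.mk_mul, QuotientGroup.mk_mul, QuotientGroup.mk_inv,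
        QuotientGroup.mk_inv, mul_inv_eq_one, mul_inv_eq_iff_eq_mul] at this
      exact this
    have hsup : (M ⊔ E).map (QuotientGroup.mk' B) ≤
        Subgroup.centralizer (((M ⊔ E).map (QuotientGroup.mk' B) : Subgroup (A ⧸ B)) : Set (A ⧸ B)) := by
      have hone : ∀ x y : A, x * y = y * x → x * y * x⁻¹ * y⁻¹ ∈ B := fun x y h => by
        rw [h, mul_inv_cancel_right, mul_inv_cancel]; exact one_mem B
      rw [Subgroup.map_sup, sup_le_iff]
      constructor <;>
      · rw [Subgroup.le_centralizer_iff, sup_le_iff]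
        constructor <;>
        · rintro _ ⟨x, hx, rfl⟩
          refine Subgroup.mem_centralizer_iff.mpr ?_
          rintro _ ⟨y, hy, rfl⟩
          first
            | exact hmk y x (hMcl y hy x hx)
            | exact hmk y x (hEcl y hy x hx)
            | exact hmk y x (hone y x (Subgroup.mem_centralizer_iff.mp (hED hx).2 y hy))
            | exact hmk y x (hone y x (Subgroup.mem_centralizer_iff.mp (hED hy).2 x hx).symm)
    have hMEcl : ∀ x ∈ M ⊔ E, ∀ y ∈ M ⊔ E, x * y * x⁻¹ * y⁻¹ ∈ B := by
      intro x hx y hy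
      have h := Subgroup.mem_centralizer_iff.mp (hsup ⟨x, hx, rfl⟩) _ ⟨y, hy, rfl⟩
      simp only [QuotientGroup.mk'_apply] at h
      rw [← QuotientGroup.eq_one_iff, QuotientGroup.mk_mul, QuotientGroup.mk_mul, QuotientGroup.mk_mul,
        QuotientGroup.mk_inv, QuotientGroup.mk_inv, mul_inv_eq_one, mul_inv_eq_iff_eq_mul]
      exact h.symm
    have hEM : E ≤ M := by
      have := Subgroup.eq_of_le_of_card_ge (le_sup_left (a := M) (b := E))
        (hMmax (j := M ⊔ E) ⟨inferInstance, hBM.trans le_sup_left,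
          sup_le hMC (hED.trans inf_le_left), hMEcl⟩ (Subgroup.card_le_of_le le_sup_left))
      exact this ▸ le_sup_right
    have hEC : ∀ x ∈ E, ∀ y ∈ M, y * x = x * y := fun x hx y hy =>
      Subgroup.mem_centralizer_iff.mp (hED hx).2 y hy
    have hBE : ∀ x ∈ B ⊔ E, ∀ y ∈ B ⊔ E, x * y = y * x := by
      have h : B ⊔ E ≤ Subgroup.centralizer ((B ⊔ E : Subgroup A) : Set A) := by
        rw [sup_le_iff]
        constructor <;> rw [Subgroup.le_centralizer_iff, sup_le_iff] <;> constructor <;>
          intro x hx <;> refine Subgroup.mem_centralizer_iff.mpr fun y hy => ?_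
        · exact hBab y hy x hx
        · exact hCB x (hED hx).1 y hy
        · exact (hCB y (hED hy).1 x hx).symm
        · exact hEC x hx y (hEM hy)
      exact fun x hx y hy => (Subgroup.mem_centralizer_iff.mp (h hx) y hy).symm
    have := hBmax' (B ⊔ E) le_sup_left inferInstance hBE
    exact hjN (this ▸ le_sup_right)
  refine ⟨K, hK, inferInstance, inferInstance, M, fun g => ⟨RingEquiv.ofBijective (conjRing B g)
      ⟨fun k l e => ?_, fun k => ⟨conjRing B g⁻¹ k, ?_⟩⟩, fun k v => hσ g k v⟩,
    hMn, fun m hm => hlin m (hMC hm), fun x hx y hy => ⟨(ι ⟨_, hMcl x hx y hy⟩ : K), Units.ne_zero _,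
      fun z => ?_⟩, fun g hgl hgc => ?_, fun L hLn hLM hLab x hx => ?_⟩
  · have h := congrArg (conjEnd g⁻¹) (congrArg Subtype.val e)
    change conjEnd g⁻¹ (conjEnd g k.1) = conjEnd g⁻¹ (conjEnd g l.1) at h
    rw [conjEnd_inv, conjEnd_inv] at h
    exact Subtype.ext h
  · refine Subtype.ext ?_
    show conjEnd g (conjEnd g⁻¹ k.1) = k.1
    conv_lhs => rw [← inv_inv g]
    rw [inv_inv g⁻¹]
    simpa using conjEnd_inv (V := V) g⁻¹ k.1
  · rw [hι, ← mul_smul, ← mul_smul, ← mul_smul]
    congr 1
    show x * y = x * y * x⁻¹ * y⁻¹ * y * x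
    group
  · have hgC : g ∈ C := by
      rw [hC, Subgroup.mem_centralizer_iff]
      intro b hb
      refine eq_of_smul_eq_smul fun v : V => ?_
      rw [mul_smul, mul_smul, ← hι ⟨b, hb⟩, ← hι ⟨b, hb⟩, hgl]
    have hgB := hCM g hgC fun y hy => eq_of_smul_eq_smul fun v : V => by
      rw [mul_smul, mul_smul, hgc y hy]
    exact ⟨hBM hgB, ⟨(ι ⟨g, hgB⟩ : K), fun v => (hι ⟨g, hgB⟩ v).symm⟩⟩
  · haveI := hLn
    have hle : B ⊔ L ≤ Subgroup.centralizer ((B ⊔ L : Subgroup A) : Set A) := by
      rw [sup_le_iff]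
      constructor <;> rw [Subgroup.le_centralizer_iff, sup_le_iff] <;> constructor <;>
        intro z hz <;> refine Subgroup.mem_centralizer_iff.mpr fun y hy => ?_
      · exact hBab y hy z hz
      · exact hCB z (hMC (hLM hz)) y hy
      · exact (hCB y (hMC (hLM hy)) z hz).symm
      · exact hLab y hy z hz
    have hLB := hBmax' (B ⊔ L) le_sup_left inferInstance
      fun z hz y hy => (Subgroup.mem_centralizer_iff.mp (hle hz) y hy).symm
    have hxB : x ∈ B := hLB ▸ Subgroup.mem_sup_right hx
    exact ⟨(ι ⟨x, hxB⟩ : K), fun v => (hι ⟨x, hxB⟩ v).symm⟩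

end Cfsg.Agent.GStructB.CoprimeBase
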