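import Cfsg.Agent.GStructB.CoprimeBase.Split

/-!
# Lifting tuples from the fixed space of an element of prime order
-/

set_option autoImplicit false
set_option linter.style.haveILetI false
set_option linter.unusedSectionVars false

open MulAction

namespace Cfsg.Agent.GStructB.CoprimeBase

universe u v w

variable {K : Type u} [Field K] {G : Type v} [Group G] {V : Type w} [AddCommGroup V] [Module K V]
  [DistribMulAction G V] {M A : Subgroup G}

/-- The action of the stabilizer on the fixed space. -/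
instance fixSpaceAction {d : G} {hlin : ∀ (k : K) (x : V), d • k • x = k • d • x} :
    DistribMulAction (fixStab V d) (fixSpace K V d hlin) where
  smul g x := ⟨(g : G) • x.1, (g.2 x.1).mpr x.2⟩
  one_smul x := Subtype.ext (one_smul G x.1)
  mul_smul g h x := Subtype.ext (mul_smul (g : G) (h : G) x.1)
  smul_zero g := Subtype.ext (smul_zero (g : G))
  smul_add g x y := Subtype.ext (smul_add (g : G) x.1 y.1)

theorem coe_fix_smul {d : G} {hlin : ∀ (k : K) (x : V), d • k • x = k • d • x} (g : fixStab V d)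
    (x : fixSpace K V d hlin) : ((g • x : fixSpace K V d hlin) : V) = (g : G) • (x : V) := rfl

namespace IsSplit

variable {s : ℕ} {d X : G} {ζ ξ : K} (hS : IsSplit V M s d X ζ ξ) (hF : Frame K V M A) [Finite K]
include hS hF

/-- The fixed space. -/
abbrev W : Submodule K V := fixSpace K V d (hS.dlin hF)

theorem W_nontrivial : Nontrivial (hS.W hF) := by
  obtain ⟨x, hx0, hx⟩ := hS.fix
  exact ⟨⟨⟨x, hx⟩, 0, fun e => hx0 (congrArg Subtype.val e)⟩⟩

/-- The frame on the fixed space. -/
theorem frame_fix : Frame K (hS.W hF) (M.subgroupOf (fixStab V d)) (A.subgroupOf (fixStab V d)) where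
  semi g := by
    obtain ⟨σ, hσ⟩ := hF.semi (g : G)
    exact ⟨σ, fun k x => Subtype.ext (hσ k x.1)⟩
  lin m hm k x := Subtype.ext (hF.lin _ hm k x.1)
  scal k hk := by
    obtain ⟨m, hm, hmk⟩ := hF.scal k hk
    refine ⟨⟨m, fun x => ?_⟩, hm, fun x => Subtype.ext (hmk x.1)⟩
    rw [hmk, hS.dlin hF]
    exact (smul_right_injective V hk).eq_iff
  comm x hx y hy := by
    obtain ⟨c, hc0, hc⟩ := hF.comm _ hx _ hy
    exact ⟨c, hc0, fun z => Subtype.ext (hc z.1)⟩
  norm a ha m hm := hF.norm _ ha _ hm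
  centre := by
    intro m hm hcomm
    haveI : NeZero s := ⟨hS.prime.ne_zero⟩
    obtain ⟨x₀, hx0, hx⟩ := hS.fix
    have hmG : (m : G) ∈ M := hm
    obtain ⟨c, hc0, hc⟩ := hF.comm _ hmG X hS.X_mem
    have hcs : c ^ s = 1 := by
      have h := comm_pow_right hF hS.X_mem hc s x₀
      rw [hS.X_pow, hF.lin _ hmG, hS.X_pow, smul_smul] at h
      have hξ : ξ ≠ 0 := by
        rintro rfl
        have h0 := hS.X_pow x₀
        rw [zero_smul, smul_eq_zero_iff_eq] at h0
        exact hx0 h0
      have hne : (m : G) • x₀ ≠ 0 := by rwa [ne_eq, smul_eq_zero_iff_eq]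
      have h' : (c ^ s * ξ - ξ) • ((m : G) • x₀) = 0 := by rw [sub_smul, ← h, sub_self]
      exact mul_right_cancel₀ hξ
        ((sub_eq_zero.mp ((smul_eq_zero.mp h').resolve_right hne)).trans (one_mul ξ).symm)
    obtain ⟨j, hj, rfl⟩ := hS.primitive.eq_pow_of_pow_eq_one hcs
    obtain ⟨m', hm'⟩ : ∃ m', m' = d ^ (s - j) * (m : G) := ⟨_, rfl⟩
    have hm'M : m' ∈ M := hm' ▸ M.mul_mem (M.pow_mem hS.d_mem _) hmG
    have hdX := comm_pow_left hF hS.d_mem hS.comm (s - j)
    have hX : ∀ z : V, m' • X • z = X • m' • z := fun z => by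
      rw [hm', mul_smul, mul_smul, hc, hF.lin _ (M.pow_mem hS.d_mem _), hdX, smul_smul, ← pow_add,
        Nat.add_sub_cancel' hj.le, hS.zeta_pow, one_smul]
    have hcM : ∀ y ∈ M, y ∈ fixStab V d → ∀ z : V, m' • y • z = y • m' • z := by
      intro y hy hyS z
      obtain ⟨e, he0, he⟩ := hF.comm _ hmG y hy
      have h1 : e = 1 := by
        have h := congrArg Subtype.val (hcomm ⟨y, hyS⟩ hy ⟨x₀, hx⟩)
        simp only [coe_fix_smul] at h
        rw [he] at h
        have hne : y • (m : G) • x₀ ≠ 0 := by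
          rwa [ne_eq, smul_eq_zero_iff_eq, smul_eq_zero_iff_eq]
        have h' : (e - 1) • (y • (m : G) • x₀) = 0 := by rw [sub_smul, one_smul, h, sub_self]
        exact sub_eq_zero.mp ((smul_eq_zero.mp h').resolve_right hne)
      have hd : ∀ (i : ℕ) (w : V), d ^ i • y • w = y • d ^ i • w := by
        intro i
        induction i with
        | zero => intro w; simp
        | succ i ih =>
          intro w
          rw [pow_succ, mul_smul, mul_smul, hS.comm_of_fixStab hF hy hyS, ih]
      rw [hm', mul_smul, mul_smul, he, h1, one_smul, hd]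
    obtain ⟨k, hk⟩ := hF.centre m' hm'M fun y hy z => by
      obtain ⟨i, -, hiS⟩ := hS.cover hF hy
      obtain ⟨y1, hy1⟩ : ∃ y1, y1 = (X ^ i)⁻¹ * y := ⟨_, rfl⟩
      have e : y = X ^ i * y1 := by rw [hy1, mul_inv_cancel_left]
      have hXi : ∀ (l : ℕ) (w : V), m' • X ^ l • w = X ^ l • m' • w := by
        intro l
        induction l with
        | zero => intro w; simp
        | succ l ih => intro w; rw [pow_succ', mul_smul, mul_smul, hX, ih]
      rw [e, mul_smul, hXi, hcM y1 (hy1 ▸ M.mul_mem (M.inv_mem (M.pow_mem hS.X_mem i)) hy) (hy1 ▸ hiS), mul_smul]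
    refine ⟨k, fun x => Subtype.ext ?_⟩
    have hmx : d • (m : G) • (x : V) = (m : G) • (x : V) := (m.2 x.1).mpr x.2
    show (m : G) • (x : V) = k • (x : V)
    rw [← hk, hm', mul_smul]
    exact ((stabilizer G ((m : G) • (x : V))).pow_mem
      (show d ∈ stabilizer G ((m : G) • (x : V)) from hmx) _).symm
  expo := by
    intro m hm r hr hscal
    obtain ⟨k, hk⟩ := hscal
    obtain ⟨x₀, hx0, hx⟩ := hS.fix
    have hmG : (m : G) ∈ M := hm
    have hkW : ∀ y : V, d • y = y → (m : G) ^ (r * r) • y = k • y := fun y hy =>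
      congrArg Subtype.val (hk ⟨y, hy⟩)
    have hk0 : k ≠ 0 := by
      rintro rfl
      have h := hkW x₀ hx
      rw [zero_smul, smul_eq_zero_iff_eq] at h
      exact hx0 h
    obtain ⟨n, hn, hnk⟩ := hF.scal k⁻¹ (inv_ne_zero hk0)
    obtain ⟨j, -, hj⟩ := hS.eq_dpow hF (M.mul_mem hn (M.pow_mem hmG (r * r))) fun y hy => by
      rw [mul_smul, hkW y hy, hnk, smul_smul, inv_mul_cancel₀ hk0, one_smul]
    have hpow : ∀ (l : ℕ) (y : V), ((m : G) ^ (r * r)) ^ l • y = k ^ l • (d ^ j) ^ l • y := by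
      intro l
      induction l with
      | zero => intro y; simp
      | succ l ih =>
        intro y
        have h1 : (m : G) ^ (r * r) • y = k • d ^ j • y := by
          rw [← hj, mul_smul, hnk, smul_smul, mul_inv_cancel₀ hk0, one_smul]
        rw [pow_succ, mul_smul, h1, hF.lin _ (M.pow_mem (M.pow_mem hmG _) _), ih, smul_smul,
          ← pow_succ', ← mul_smul (α := G), ← pow_succ]
    have hs' : IsScal K V ((m : G) ^ (r * r * s)) := ⟨k ^ s, fun y => by
      rw [pow_mul, hpow, ← pow_mul, mul_comm j, pow_mul]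
      congr 1
      exact (stabilizer G y).pow_mem (show d ^ s ∈ stabilizer G y from hS.d_pow y) j⟩
    by_cases hrs : r = s
    · subst hrs
      obtain ⟨l, hl⟩ := hF.pow_prime_scal hmG hr 3 (by
        rwa [show r ^ 3 = r * r * r by ring])
      exact ⟨l, fun y => Subtype.ext (hl y.1)⟩
    · have h2 : IsScal K V (((m : G) ^ s) ^ r) := hF.expo _ (M.pow_mem hmG s) r hr (by
        rwa [← pow_mul, mul_comm s])
      obtain ⟨l, hl⟩ := h2
      have hsW : IsScal K (hS.W hF) (m ^ (s * r)) := ⟨l, fun y => Subtype.ext (by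
        show ((m : G) ^ (s * r)) • (y : V) = l • (y : V)
        rw [pow_mul]; exact hl y.1)⟩
      obtain ⟨e, -, he⟩ := Nat.exists_mul_mod_eq_one_of_coprime (k := r) (n := s)
        (((Nat.coprime_primes hr hS.prime).mpr hrs).symm) hr.one_lt
      have hdecomp : (m ^ (s * r)) ^ e = m ^ r * (m ^ (r * r)) ^ (s * e / r) := by
        rw [← pow_mul, ← pow_mul, ← pow_add]
        congr 1
        have := Nat.mod_add_div (s * e) r
        rw [he] at this
        calc s * r * e = r * (s * e) := by ring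
          _ = r * (1 + r * (s * e / r)) := by rw [this]
          _ = r + r * r * (s * e / r) := by ring
      have h3 := (hsW.pow e).mul
        ((show IsScal K (hS.W hF) (m ^ (r * r)) from ⟨k, hk⟩).pow (s * e / r)).inv
      rwa [hdecomp, mul_inv_cancel_right] at h3

/-- Conjugates of `d` by the stabilizer of its fixed space act as powers of `d`. -/
theorem conj_dpow {g : G} (hg : g ∈ A) (hgS : g ∈ fixStab V d) :
    ∃ j < s, j ≠ 0 ∧ ∀ x : V, g • d • x = d ^ j • g • x := by
  obtain ⟨j, hj, hjm⟩ := hS.eq_dpow hF (hF.norm g hg d hS.d_mem) fun y hy => by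
    have h := ((fixStab V d).inv_mem hgS y).mpr hy
    rw [mul_smul, mul_smul, h, smul_inv_smul]
  refine ⟨j, hj, ?_, fun x => by rw [← hjm, mul_smul, mul_smul, inv_smul_smul]⟩
  rintro rfl
  apply hS.zeta_ne
  obtain ⟨x, hx0, hx⟩ := hS.fix
  have hd : ∀ y : V, d • y = y := fun y => by
    have h := hjm (g • y)
    rw [pow_zero, one_smul, mul_smul, mul_smul, inv_smul_smul] at h
    exact MulAction.injective g h
  have h := hS.comm x
  rw [hx, hd] at h
  have hne' : X • x ≠ 0 := by rwa [ne_eq, smul_eq_zero_iff_eq]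
  have h' : (ζ - 1) • (X • x) = 0 := by rw [sub_smul, one_smul, ← h, sub_self]
  exact sub_eq_zero.mp ((smul_eq_zero.mp h').resolve_right hne')

/-- Where the elements of `A` send the eigenspaces. -/
theorem eigen_conj {g : G} (hg : g ∈ A) (hgS : g ∈ fixStab V d) :
    ∃ i < s, i ≠ 0 ∧ ∀ (l : ℕ) (y : V), d • y = ζ ^ l • y → d • g • y = ζ ^ (i * l) • g • y := by
  haveI : NeZero s := ⟨hS.prime.ne_zero⟩
  obtain ⟨σ, hσ⟩ := hF.semi g
  obtain ⟨j, hj, hj0, hjg⟩ := hS.conj_dpow hF hg hgS
  obtain ⟨t, ht, htζ⟩ := hS.primitive.eq_pow_of_pow_eq_one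
    (show σ ζ ^ s = 1 by rw [← map_pow, hS.zeta_pow, map_one])
  have ht0 : t ≠ 0 := by
    rintro rfl
    rw [pow_zero, ← map_one σ] at htζ
    exact hS.zeta_ne (σ.injective htζ.symm)
  obtain ⟨e, -, he⟩ := Nat.exists_mul_mod_eq_one_of_coprime (k := s) (n := j)
    ((hS.prime.coprime_iff_not_dvd.mpr fun hd =>
      absurd (Nat.le_of_dvd (Nat.pos_of_ne_zero hj0) hd) (by omega)).symm) hS.prime.one_lt
  refine ⟨(t * e) % s, Nat.mod_lt _ hS.prime.pos, ?_, fun l y hy => ?_⟩
  · intro h
    rcases hS.prime.dvd_mul.mp (Nat.dvd_of_mod_eq_zero h) with h | h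
    · exact ht0 (Nat.eq_zero_of_dvd_of_lt h ht)
    · rw [Nat.mul_mod, Nat.mod_eq_zero_of_dvd h, mul_zero, Nat.zero_mod] at he
      exact zero_ne_one he
  have hpow : ∀ (n : ℕ) (x : V), g • d ^ n • x = (d ^ j) ^ n • g • x := by
    intro n
    induction n with
    | zero => intro x; simp
    | succ n ih => intro x; rw [pow_succ, mul_smul, ih, hjg, ← mul_smul (α := G), ← pow_succ]
  have h : g • d ^ e • y = d • g • y := by
    rw [hpow, ← pow_mul, ← Nat.mod_add_div (j * e) s, he, pow_add, pow_one, pow_mul, mul_smul]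
    congr 1
    exact (stabilizer G (g • y)).pow_mem (show d ^ s ∈ stabilizer G (g • y) from hS.d_pow _) _
  rw [← h, hS.dpow_eigen hF hy, hσ, map_pow, map_pow, ← htζ, ← pow_mul, ← pow_mul]
  congr 1
  rw [hS.zeta_pow_mod, hS.zeta_pow_mod (t * e % s * l), Nat.mod_mul_mod]
  congr 2
  ring

/-- Eigenvalues of images under `M`. -/
theorem eigen_smul {m : G} (hm : m ∈ M) {i : ℕ} (hi : (X ^ i)⁻¹ * m ∈ fixStab V d) {l : ℕ} {y : V}
    (hy : d • y = ζ ^ l • y) : d • m • y = ζ ^ (i + l) • m • y := by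
  have hm1 : (X ^ i)⁻¹ * m ∈ M := M.mul_mem (M.inv_mem (M.pow_mem hS.X_mem i)) hm
  conv_lhs => rw [show m = X ^ i * ((X ^ i)⁻¹ * m) by rw [mul_inv_cancel_left]]
  rw [mul_smul, hS.comm_pow hF, hS.comm_of_fixStab hF hm1 hi, hy, hF.lin _ hm1, hS.Xlin hF, smul_smul,
    ← pow_add, ← mul_smul (α := G), mul_inv_cancel_left]

/-- Pairs from triples of the fixed space, for involutions. -/
theorem qq_of_tt (hs : s = 2) {c : ℕ}
    (h : TT (hS.W hF) c (M.subgroupOf (fixStab V d)) (A.subgroupOf (fixStab V d))) : QQ V c M A := by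
  subst hs
  haveI := hS.W_nontrivial hF
  obtain ⟨v, u, b, hfree, hstab, hineq⟩ := h
  have hζ : ζ * ζ = 1 := by rw [← sq, hS.zeta_pow]
  have hζ0 := hS.zeta_ne_zero
  have hv0 : ∀ i, (v i : V) ≠ 0 := fun i e =>
    (hS.frame_fix hF).ne_zero_of_free hζ0 hS.zeta_ne (hfree i).1 (Subtype.ext e)
  have hb0 : ∀ i, (b i : V) ≠ 0 := fun i e =>
    (hS.frame_fix hF).ne_zero_of_free hζ0 hS.zeta_ne (hfree i).2.1 (Subtype.ext e)
  let w : Fin c → V := fun i => (u i : V) + X • (b i : V)
  have hXb : ∀ i, d • X • (b i : V) = ζ ^ 1 • X • (b i : V) := fun i => by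
    rw [pow_one, hS.comm, show d • (b i : V) = b i from (b i).2]
  have hu' : ∀ i, d • (u i : V) = ζ ^ 0 • (u i : V) := fun i => by
    rw [pow_zero, one_smul]; exact (u i).2
  -- comparing components
  have hcmp : ∀ (g : G) (i : Fin c) (z z' : V) (a a' : ℕ), d • g • (u i : V) = ζ ^ a • g • (u i : V) →
      d • g • X • (b i : V) = ζ ^ a' • g • X • (b i : V) → g • w i = z + z' →
      d • z = ζ ^ 0 • z → d • z' = ζ ^ 1 • z' → a % 2 ≠ a' % 2 →
      (a % 2 = 0 → g • (u i : V) = z ∧ g • X • (b i : V) = z') ∧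
      (a % 2 = 1 → g • (u i : V) = z' ∧ g • X • (b i : V) = z) := by
    intro g i z z' a a' ha ha' e hz hz' hne
    have e0 := congrArg (hS.proj 0) e
    have e1 := congrArg (hS.proj 1) e
    simp only [w, smul_add, hS.proj_add, hS.proj_eigen hF ha, hS.proj_eigen hF ha', hS.proj_eigen hF hz,
      hS.proj_eigen hF hz'] at e0 e1
    constructor <;> intro h0
    · have h1 : a' % 2 = 1 := by omega
      simp [h0, h1] at e0 e1
      exact ⟨e0, e1⟩
    · have h1 : a' % 2 = 0 := by omega
      simp [h0, h1] at e0 e1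
      exact ⟨e1, e0⟩
  have hwfree : ∀ i, Free V M (w i) := by
    intro i m hm e x
    obtain ⟨a, ha, haS⟩ := hS.cover hF hm
    have h := hcmp m i (u i) (X • (b i : V)) (a + 0) (a + 1) (hS.eigen_smul hF hm haS (hu' i))
      (hS.eigen_smul hF hm haS (hXb i)) e (hu' i) (hXb i) (by omega)
    interval_cases a
    · obtain ⟨hmu, hmX⟩ := h.1 rfl
      rw [pow_zero, inv_one, one_mul] at haS
      obtain ⟨κ, hκ0, hκ⟩ := hF.comm m hm X hS.X_mem
      obtain ⟨n, hn, hnk⟩ := hF.scal κ hκ0
      have hnS : n ∈ fixStab V d := fun y => by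
        rw [hnk, hS.dlin hF]
        exact (smul_right_injective V hκ0).eq_iff
      have htriv : ∀ y : V, d • y = y → κ • m • y = y := by
        intro y hy
        have h := congrArg Subtype.val ((hfree i).2.1 ⟨n * m, (fixStab V d).mul_mem hnS haS⟩
          (M.mul_mem hn hm) (Subtype.ext (by
            show (n * m) • (b i : V) = b i
            rw [mul_smul, hnk]
            refine MulAction.injective X ?_
            show X • κ • m • (b i : V) = X • (b i : V)
            rw [hF.lin X hS.X_mem, ← hκ]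
            exact hmX)) ⟨y, hy⟩)
        rwa [coe_fix_smul, mul_smul, hnk] at h
      have hκ1 : κ = 1 := by
        have h := htriv _ (u i).2
        rw [hmu] at h
        have h' : (κ - 1) • (u i : V) = 0 := by rw [sub_smul, one_smul, h, sub_self]
        exact sub_eq_zero.mp ((smul_eq_zero.mp h').resolve_right
          fun e0 => (hfree i).2.2.1 (Subtype.ext e0))
      rw [show m • x = (1 : G) • x from ?_, one_smul]
      refine hS.ext_translates hF (fun l hl y hy => ?_) x
      interval_cases l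
      · rw [pow_zero, one_smul, one_smul]; simpa [hκ1] using htriv y hy
      · rw [pow_one, one_smul, hκ, hκ1, one_smul]
        congr 1
        simpa [hκ1] using htriv y hy
    · obtain ⟨hmu, -⟩ := h.2 rfl
      exfalso
      rw [pow_one] at haS
      refine (hfree i).2.2.2 ((⟨_, haS⟩ : fixStab V d)⁻¹)
        (M.inv_mem (M.mul_mem (M.inv_mem hS.X_mem) hm)) (Subtype.ext ?_)
      show (X⁻¹ * m)⁻¹ • (b i : V) = u i
      rw [inv_smul_eq_iff, mul_smul, hmu, inv_smul_smul]
  have hv' : ∀ i, d • (v i : V) = ζ ^ 0 • (v i : V) := fun i => by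
    rw [pow_zero, one_smul]; exact (v i).2
  refine ⟨w, fun i => (v i : V), fun i => ⟨hwfree i, hv0 i, fun m hm e => ?_⟩,
    fun i g hg e1 e2 => ?_, fun i j g hg e1 e2 => ?_⟩
  · obtain ⟨a, ha, haS⟩ := hS.cover hF hm
    have h := hcmp m i (v i) 0 (a + 0) (a + 1) (hS.eigen_smul hF hm haS (hu' i))
      (hS.eigen_smul hF hm haS (hXb i)) (by rw [add_zero]; exact e) (hv' i)
      (by rw [smul_zero, smul_zero]) (by omega)
    interval_cases a
    · have h0 := (h.1 rfl).2
      rw [smul_eq_zero_iff_eq, smul_eq_zero_iff_eq] at h0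
      exact hb0 i h0
    · have h0 := (h.2 rfl).1
      rw [smul_eq_zero_iff_eq] at h0
      exact (hfree i).2.2.1 (Subtype.ext h0)
  all_goals
    have hgS : g ∈ fixStab V d := hS.mem_fixStab_of_free hF hg (hv0 i) (v i).2
      (by rw [e2]; exact (v _).2) fun m hm hmS hmx y hy => congrArg Subtype.val
        ((hfree _).1 ⟨m, hmS⟩ hm (Subtype.ext (show m • (v _ : V) = v _ by rw [e2] at hmx; exact hmx))
          ⟨y, hy⟩)
    obtain ⟨t, ht, ht0, hgt⟩ := hS.eigen_conj hF hg hgS
    have ht1 : t = 1 := by omega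
    subst ht1
    have hgX : g * X * g⁻¹ ∈ M := hF.norm g hg X hS.X_mem
    have hm1M : X⁻¹ * (g * X * g⁻¹) ∈ M := M.mul_mem (M.inv_mem hS.X_mem) hgX
  · obtain ⟨hu, hX⟩ := (hcmp g i (u i) (X • (b i : V)) (1 * 0) (1 * 1) (hgt 0 _ (hu' i))
      (hgt 1 _ (hXb i)) e1 (hu' i) (hXb i) (by omega)).1 rfl
    have hmg : (X⁻¹ * (g * X * g⁻¹)) • g • (b i : V) = b i := by
      rw [mul_smul, mul_smul, mul_smul, inv_smul_smul, hX, inv_smul_smul]
    have hm1S : X⁻¹ * (g * X * g⁻¹) ∈ fixStab V d :=
      hS.mem_fixStab_of hF hm1M (by rw [ne_eq, smul_eq_zero_iff_eq]; exact hb0 i)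
        ((hgS _).mpr (b i).2) (by rw [hmg]; exact (b i).2)
    have htriv : ∀ y : V, d • y = y → g • y = y := fun y hy =>
      congrArg Subtype.val (hstab i ⟨g, hgS⟩ hg (Subtype.ext e2) (Subtype.ext hu)
        ⟨(⟨_, hm1S⟩ : fixStab V d)⁻¹, M.inv_mem hm1M, Subtype.ext (by
          show (X⁻¹ * (g * X * g⁻¹))⁻¹ • (b i : V) = g • (b i : V)
          rw [inv_smul_eq_iff, hmg])⟩ ⟨y, hy⟩)
    have hm1triv : ∀ y : V, d • y = y → (X⁻¹ * (g * X * g⁻¹)) • y = y := fun y hy =>
      congrArg Subtype.val ((hfree i).2.1 ⟨_, hm1S⟩ hm1M (Subtype.ext (by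
        show (X⁻¹ * (g * X * g⁻¹)) • (b i : V) = b i
        conv_lhs => rw [← htriv _ (b i).2]
        exact hmg)) ⟨y, hy⟩)
    intro x
    rw [show g • x = (1 : G) • x from ?_, one_smul]
    refine hS.ext_translates hF (fun l hl y hy => ?_) x
    interval_cases l
    · rw [pow_zero, one_smul, one_smul]; exact htriv y hy
    · rw [pow_one, one_smul]
      calc g • X • y = X • (X⁻¹ * (g * X * g⁻¹)) • g • y := by
            rw [mul_smul, mul_smul, mul_smul, inv_smul_smul, smul_inv_smul]
        _ = X • y := by rw [htriv y hy, hm1triv y hy]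
  · obtain ⟨hu, hX⟩ := (hcmp g i (u j) (X • (b j : V)) (1 * 0) (1 * 1) (hgt 0 _ (hu' i))
      (hgt 1 _ (hXb i)) e1 (hu' j) (hXb j) (by omega)).1 rfl
    have hmg : (X⁻¹ * (g * X * g⁻¹)) • g • (b i : V) = b j := by
      rw [mul_smul, mul_smul, mul_smul, inv_smul_smul, hX, inv_smul_smul]
    have hm1S : X⁻¹ * (g * X * g⁻¹) ∈ fixStab V d :=
      hS.mem_fixStab_of hF hm1M (by rw [ne_eq, smul_eq_zero_iff_eq]; exact hb0 i)
        ((hgS _).mpr (b i).2) (by rw [hmg]; exact (b j).2)
    exact hineq i j ⟨g, hgS⟩ hg (Subtype.ext e2) (Subtype.ext hu)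
      ⟨(⟨_, hm1S⟩ : fixStab V d)⁻¹, M.inv_mem hm1M, Subtype.ext (by
        show (X⁻¹ * (g * X * g⁻¹))⁻¹ • (b j : V) = g • (b i : V)
        rw [inv_smul_eq_iff, hmg])⟩

omit hF in
/-- A coefficient for elements of order three. -/
theorem exists_theta {p : ℕ} [Fact p.Prime] [CharP K p] (hp : p ≠ 2) :
    ∃ θ : K, θ ≠ 0 ∧ (s ≠ 3 → θ = 1) ∧ (s = 3 → θ ^ 3 * ξ ≠ 1) := by
  by_cases h1 : ξ = 1
  swap
  · exact ⟨1, one_ne_zero, fun _ => rfl, fun _ => by rwa [one_pow, one_mul]⟩
  by_cases hs : s = 3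
  swap
  · exact ⟨1, one_ne_zero, fun _ => rfl, fun h => absurd h hs⟩
  subst h1
  have hp3 : p ≠ 3 := by
    intro e
    apply hS.natCast_ne_zero
    rw [hs, ← e, CharP.cast_eq_zero]
  have h2 : (2 : K) ≠ 0 := by
    intro e
    apply hp
    have := (CharP.cast_eq_zero_iff K p 2).mp (by exact_mod_cast e)
    exact (Nat.prime_dvd_prime_iff_eq Fact.out Nat.prime_two).mp this
  by_cases h8 : (2 : K) ^ 3 = 1
  swap
  · exact ⟨2, h2, fun h => absurd hs h, fun _ => by rwa [mul_one]⟩
  have hp7 : p = 7 := by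
    have := (CharP.cast_eq_zero_iff K p 7).mp (by push_cast; linear_combination h8)
    exact (Nat.prime_dvd_prime_iff_eq Fact.out (by norm_num)).mp this
  refine ⟨3, fun e => ?_, fun h => absurd hs h, fun _ e => ?_⟩
  · have := (CharP.cast_eq_zero_iff K p 3).mp (by exact_mod_cast e)
    exact hp3 ((Nat.prime_dvd_prime_iff_eq Fact.out Nat.prime_three).mp this)
  · have := (CharP.cast_eq_zero_iff K p 26).mp (by push_cast; linear_combination e)
    rw [hp7] at this
    norm_num at this

/-- Pairs from pairs of the fixed space, for elements of odd order. -/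
theorem qq_of_ww (hs : 3 ≤ s) {p : ℕ} [Fact p.Prime] [CharP K p] (hp : p ≠ 2) {c : ℕ}
    (h : WW (hS.W hF) c (M.subgroupOf (fixStab V d)) (A.subgroupOf (fixStab V d))) : QQ V c M A := by
  haveI := hS.W_nontrivial hF
  obtain ⟨θ, hθ0, hθ5, hθ3⟩ := hS.exists_theta (ξ := ξ) hp
  obtain ⟨v, u, hfree, hstab, hineq⟩ := h
  have hv0 : ∀ i, (v i : V) ≠ 0 := fun i e =>
    (hS.frame_fix hF).ne_zero_of_free hS.zeta_ne_zero hS.zeta_ne (hfree i) (Subtype.ext e)
  have hXne : ∀ (l : ℕ) (i : Fin c), X ^ l • (v i : V) ≠ 0 := fun l i => by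
    rw [ne_eq, smul_eq_zero_iff_eq]; exact hv0 i
  let w : Fin c → V := fun i => (u i : V) + X ^ 1 • (v i : V) + θ • X ^ 2 • (v i : V)
  have hu' : ∀ i, d • (u i : V) = ζ ^ 0 • (u i : V) := fun i => by
    rw [pow_zero, one_smul]; exact (u i).2
  have hv' : ∀ i, d • (v i : V) = (v i : V) := fun i => (v i).2
  -- the components of an image of `w`
  have hprojw : ∀ (i : Fin c) (k : ℕ), k < s → hS.proj k (w i) = (if k = 0 then (u i : V) else 0) +
      (if k = 1 then X ^ 1 • (v i : V) else 0) + if k = 2 then θ • X ^ 2 • (v i : V) else 0 := by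
    intro i k hk
    simp only [w, hS.proj_add, hS.proj_smul hF, hS.proj_eigen hF (hu' i),
      hS.proj_translate hF (hv' i) (by omega : 1 < s) hk,
      hS.proj_translate hF (hv' i) (by omega : 2 < s) hk, Nat.zero_mod, Nat.mod_eq_of_lt hk]
    simp only [eq_comm (a := k), smul_ite, smul_zero]
  have hproj : ∀ (g : G) (i : Fin c) (σθ : K) (k a b e : ℕ), g • θ • X ^ 2 • (v i : V) = σθ • g • X ^ 2 • (v i : V) →
      d • g • (u i : V) = ζ ^ a • g • (u i : V) →
      d • g • X ^ 1 • (v i : V) = ζ ^ b • g • X ^ 1 • (v i : V) →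
      d • g • X ^ 2 • (v i : V) = ζ ^ e • g • X ^ 2 • (v i : V) →
      hS.proj k (g • w i) = (if a % s = k % s then g • (u i : V) else 0) +
      (if b % s = k % s then g • X ^ 1 • (v i : V) else 0) +
        if e % s = k % s then σθ • g • X ^ 2 • (v i : V) else 0 := by
    intro g i σθ k a b e hθ ha hb he
    simp only [w, smul_add, hθ, hS.proj_add, hS.proj_smul hF, hS.proj_eigen hF ha, hS.proj_eigen hF hb,
      hS.proj_eigen hF he, smul_ite, smul_zero]
  have hM : ∀ (m : G), m ∈ M → ∀ (a : ℕ), (X ^ a)⁻¹ * m ∈ fixStab V d → ∀ (i : Fin c) (k : ℕ),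
      hS.proj k (m • w i) = (if a % s = k % s then m • (u i : V) else 0) +
      (if (a + 1) % s = k % s then m • X ^ 1 • (v i : V) else 0) +
        if (a + 2) % s = k % s then θ • m • X ^ 2 • (v i : V) else 0 :=
    fun m hm a ha i k => hproj m i θ k _ _ _ (hF.lin m hm θ _)
      (by have := hS.eigen_smul hF hm ha (hu' i); rwa [add_zero] at this)
      (hS.eigen_smul hF hm ha (hS.eigen_translate hF (hv' i) 1))
      (hS.eigen_smul hF hm ha (hS.eigen_translate hF (hv' i) 2))
  have hwfree : ∀ i, Free V M (w i) := by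
    intro i m hm e x
    obtain ⟨a, ha, haS⟩ := hS.cover hF hm
    obtain ⟨κ, hκ0, hκ⟩ := hF.comm m hm X hS.X_mem
    have hκp := comm_pow_right hF hS.X_mem hκ
    have heq : ∀ k, k < s → (if a % s = k % s then m • (u i : V) else 0) +
        (if (a + 1) % s = k % s then m • X ^ 1 • (v i : V) else 0) +
          (if (a + 2) % s = k % s then θ • m • X ^ 2 • (v i : V) else 0) =
        (if k = 0 then (u i : V) else 0) +
      (if k = 1 then X ^ 1 • (v i : V) else 0) + if k = 2 then θ • X ^ 2 • (v i : V) else 0 :=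
      fun k hk => by rw [← hprojw i k hk, ← hM m hm a haS i k, e]
    rcases Nat.eq_zero_or_pos a with rfl | hapos
    · have h1 := heq 1 (by omega)
      have h2 := heq 2 (by omega)
      simp [Nat.mod_eq_of_lt (show 1 < s by omega), Nat.mod_eq_of_lt (show 2 < s by omega)] at h1 h2
      rw [pow_zero, inv_one, one_mul] at haS
      obtain ⟨n, hn, hnk⟩ := hF.scal κ hκ0
      have hnS : n ∈ fixStab V d := fun y => by
        rw [hnk, hS.dlin hF]
        exact (smul_right_injective V hκ0).eq_iff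
      have e1 : κ • m • (v i : V) = v i := by
        refine MulAction.injective X ?_
        show X • κ • m • (v i : V) = X • (v i : V)
        rw [hF.lin X hS.X_mem, ← hκ]; exact h1
      have htriv : ∀ y : V, d • y = y → κ • m • y = y := fun y hy => by
        have h := congrArg Subtype.val (hfree i ⟨n * m, (fixStab V d).mul_mem hnS haS⟩
          (M.mul_mem hn hm) (Subtype.ext (by
            show (n * m) • (v i : V) = v i
            rw [mul_smul, hnk, e1])) ⟨y, hy⟩)
        rwa [coe_fix_smul, mul_smul, hnk] at h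
      have hκ1 : κ = 1 := by
        have h2' : X ^ 2 • (κ • κ • m • (v i : V)) = X ^ 2 • (v i : V) := by
          rw [smul_smul, hS.Xlin hF, ← sq, ← hκp]
          exact smul_right_injective V hθ0 h2
        have h3 := MulAction.injective (X ^ 2) h2'
        rw [e1] at h3
        have h' : (κ - 1) • (v i : V) = 0 := by rw [sub_smul, one_smul, h3, sub_self]
        exact sub_eq_zero.mp ((smul_eq_zero.mp h').resolve_right (hv0 i))
      rw [show m • x = (1 : G) • x from ?_, one_smul]
      refine hS.ext_translates hF (fun l hl y hy => ?_) x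
      rw [one_smul, hκp, hκ1, one_pow, one_smul]
      congr 1
      simpa [hκ1] using htriv y hy
    · exfalso
      by_cases hs3 : s = 3
      swap
      · have hs5 : 5 ≤ s := by
          rcases (show s = 4 ∨ 5 ≤ s by omega) with h | h
          · have := hS.prime; rw [h] at this; norm_num at this
          · exact h
        have hne : θ • m • X ^ 2 • (v i : V) ≠ 0 :=
          smul_ne_zero hθ0 (by rw [ne_eq, smul_eq_zero_iff_eq]; exact hXne 2 i)
        rcases (show a = 1 ∨ a = 2 ∨ 3 ≤ a by omega) with rfl | rfl | h3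
        · have h := heq 3 (by omega)
          simp [Nat.mod_eq_of_lt (show 1 < s by omega), Nat.mod_eq_of_lt (show 2 < s by omega),
            Nat.mod_eq_of_lt (show 3 < s by omega), Nat.mod_eq_of_lt (show 1 + 2 < s by omega)] at h
          exact hne (by simpa using h)
        · have h := heq 4 (by omega)
          simp [Nat.mod_eq_of_lt (show 2 < s by omega), Nat.mod_eq_of_lt (show 3 < s by omega),
            Nat.mod_eq_of_lt (show 4 < s by omega)] at h
          exact hne (by simpa using h)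
        · have h := heq 2 (by omega)
          have e0 : a % s ≠ 2 % s := by
            rw [Nat.mod_eq_of_lt ha, Nat.mod_eq_of_lt (show 2 < s by omega)]; omega
          have e1 : (a + 1) % s ≠ 2 % s := by
            rw [Nat.mod_eq_of_lt (show 2 < s by omega)]
            rcases (show a + 1 < s ∨ a + 1 = s by omega) with h' | h'
            · rw [Nat.mod_eq_of_lt h']; omega
            · rw [h', Nat.mod_self]; omega
          have e2 : (a + 2) % s ≠ 2 % s := by
            rw [Nat.mod_eq_of_lt (show 2 < s by omega)]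
            rcases (show a + 2 < s ∨ a + 2 = s ∨ a + 2 = s + 1 by omega) with h' | h' | h'
            · rw [Nat.mod_eq_of_lt h']; omega
            · rw [h', Nat.mod_self]; omega
            · rw [h', Nat.add_mod_left, Nat.mod_eq_of_lt (show 1 < s by omega)]; omega
          simp [e0, e1, e2] at h
          exact smul_ne_zero hθ0 (hXne 2 i) h.symm
      subst hs3
      apply hθ3 rfl
      have hκ3 : κ ^ 3 = 1 := by
        have h := hκp 3 (v i : V)
        rw [hS.X_pow, hF.lin m hm, hS.X_pow, smul_smul] at h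
        have hξ : ξ ≠ 0 := by
          rintro rfl
          have h0 := hS.X_pow (v i : V)
          rw [zero_smul, smul_eq_zero_iff_eq] at h0
          exact hv0 i h0
        have hne : m • (v i : V) ≠ 0 := by rw [ne_eq, smul_eq_zero_iff_eq]; exact hv0 i
        have h' : (κ ^ 3 * ξ - ξ) • (m • (v i : V)) = 0 := by rw [sub_smul, ← h, sub_self]
        exact mul_right_cancel₀ hξ
          ((sub_eq_zero.mp ((smul_eq_zero.mp h').resolve_right hne)).trans (one_mul ξ).symm)
      have hXl : ∀ (l l' : ℕ) (y : V), X ^ l • X ^ l' • y = X ^ (l + l') • y := fun l l' y => by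
        rw [← mul_smul (α := G), ← pow_add]
      interval_cases a
      · -- shift by one
        have h0 := heq 0 (by omega)
        have h1 := heq 1 (by omega)
        have h2 := heq 2 (by omega)
        simp at h0 h1 h2
        have hmv : m • (v i : V) = (κ⁻¹ * θ) • X ^ 1 • (v i : V) := by
          have h : κ • X ^ 1 • m • (v i : V) = θ • X ^ 2 • (v i : V) := by
            rw [pow_one, ← hκ]; exact h2
          refine MulAction.injective (X ^ 1) (smul_right_injective V hκ0 ?_)
          show κ • X ^ 1 • m • (v i : V) = κ • X ^ 1 • (κ⁻¹ * θ) • X ^ 1 • (v i : V)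
          rw [h, hS.Xlin hF, hXl, smul_smul, ← mul_assoc, mul_inv_cancel₀ hκ0, one_mul]
        have hu : (u i : V) = (θ ^ 2 * κ * ξ) • (v i : V) := by
          rw [← h0, hκp, hmv, hS.Xlin hF, hXl, show 2 + 1 = 3 from rfl, hS.X_pow, smul_smul, smul_smul,
            smul_smul]
          congr 1
          field_simp
        rw [hu, hF.lin m hm, hmv, smul_smul, pow_one] at h1
        have h' : (θ ^ 2 * κ * ξ * (κ⁻¹ * θ) - 1) • (X • (v i : V)) = 0 := by
          rw [sub_smul, one_smul, h1, sub_self]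
        have hc := sub_eq_zero.mp ((smul_eq_zero.mp h').resolve_right (by simpa using hXne 1 i))
        field_simp at hc
        linear_combination hc
      · -- shift by two
        have h0 := heq 0 (by omega)
        have h1 := heq 1 (by omega)
        have h2 := heq 2 (by omega)
        simp at h0 h1 h2
        have hξ : ξ ≠ 0 := by
          rintro rfl
          have h0 := hS.X_pow (v i : V)
          rw [zero_smul, smul_eq_zero_iff_eq] at h0
          exact hv0 i h0
        have hmv : m • (v i : V) = (θ * κ ^ 2 * ξ)⁻¹ • X ^ 2 • (v i : V) := by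
          have h : (θ * κ ^ 2) • X ^ 2 • m • (v i : V) = X ^ 1 • (v i : V) := by
            rw [mul_smul θ, ← hκp, pow_one]; exact h1
          refine MulAction.injective (X ^ 2) (smul_right_injective V (mul_ne_zero hθ0 (pow_ne_zero 2 hκ0)) ?_)
          show (θ * κ ^ 2) • X ^ 2 • m • (v i : V) =
            (θ * κ ^ 2) • X ^ 2 • (θ * κ ^ 2 * ξ)⁻¹ • X ^ 2 • (v i : V)
          rw [h, hS.Xlin hF, hXl, show X ^ (2 + 2) = X ^ 3 * X ^ 1 by rw [← pow_add], mul_smul (α := G),
            hS.X_pow, smul_smul, smul_smul,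
            show θ * κ ^ 2 * (θ * κ ^ 2 * ξ)⁻¹ * ξ = 1 by field_simp, one_smul]
        have hu : (u i : V) = (κ * ((θ * κ ^ 2 * ξ)⁻¹ * ξ)) • (v i : V) := by
          have hX1 : ∀ y : V, X • y = X ^ 1 • y := fun y => by rw [pow_one]
          rw [← h0, hκ, hmv, hX1, hS.Xlin hF, hXl, show 1 + 2 = 3 from rfl,
            hS.X_pow, smul_smul, smul_smul, mul_assoc]
        rw [hu, hF.lin m hm, hmv, smul_smul] at h2
        have h' := sub_eq_zero.mpr h2
        rw [← sub_smul] at h'
        have hc := sub_eq_zero.mp ((smul_eq_zero.mp h').resolve_right (hXne 2 i))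
        field_simp at hc
        linear_combination -hc - θ ^ 3 * ξ * hκ3
  refine ⟨w, fun i => (v i : V), fun i => ⟨hwfree i, hv0 i, fun m hm e => ?_⟩,
    fun i g hg e1 e2 => ?_, fun i j g hg e1 e2 => ?_⟩
  · obtain ⟨a, ha, haS⟩ := hS.cover hF hm
    have hv0' : d • (v i : V) = ζ ^ 0 • (v i : V) := by rw [pow_zero, one_smul]; exact hv' i
    have h : ∀ k, k < s → (if a % s = k % s then m • (u i : V) else 0) +
        (if (a + 1) % s = k % s then m • X ^ 1 • (v i : V) else 0) +
          (if (a + 2) % s = k % s then θ • m • X ^ 2 • (v i : V) else 0) =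
        if 0 % s = k % s then (v i : V) else 0 := fun k hk => by
      rw [← hM m hm a haS i k, e, hS.proj_eigen hF hv0']
    have hne1 : m • X ^ 1 • (v i : V) ≠ 0 := by rw [ne_eq, smul_eq_zero_iff_eq]; exact hXne 1 i
    have hne2 : θ • m • X ^ 2 • (v i : V) ≠ 0 :=
      smul_ne_zero hθ0 (by rw [ne_eq, smul_eq_zero_iff_eq]; exact hXne 2 i)
    have hk : ∀ l, l ≤ 2 → ∀ l', l' ≤ 2 → l ≠ l' → (a + l) % s ≠ (a + l') % s := by
      intro l hl l' hl' hne he
      have h' : (l : ℕ) ≡ l' [MOD s] := Nat.ModEq.add_left_cancel' a he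
      rw [Nat.ModEq, Nat.mod_eq_of_lt (by omega : l < s), Nat.mod_eq_of_lt (by omega : l' < s)] at h'
      exact hne h'
    by_cases hb : (a + 1) % s = 0
    · have h' := h ((a + 2) % s) (Nat.mod_lt _ hS.prime.pos)
      have e0 : a % s ≠ (a + 2) % s := by simpa using hk 0 (by omega) 2 le_rfl (by omega)
      have e1 : (a + 1) % s ≠ (a + 2) % s := hk 1 (by omega) 2 le_rfl (by omega)
      have e3 : 0 ≠ (a + 2) % s := fun he => e1 (hb.trans he)
      simp only [Nat.mod_mod, Nat.zero_mod, if_neg e0, if_neg e1, if_neg e3, if_true, zero_add] at h'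
      exact hne2 h'
    · have h' := h ((a + 1) % s) (Nat.mod_lt _ hS.prime.pos)
      have e0 : a % s ≠ (a + 1) % s := by simpa using hk 0 (by omega) 1 (by omega) (by omega)
      have e2 : (a + 2) % s ≠ (a + 1) % s := hk 2 le_rfl 1 (by omega) (by omega)
      have e3 : 0 ≠ (a + 1) % s := fun he => hb he.symm
      simp only [Nat.mod_mod, Nat.zero_mod, if_neg e0, if_neg e2, if_neg e3, if_true, zero_add,
        add_zero] at h'
      exact hne1 h'
  all_goals
    have hgS : g ∈ fixStab V d := hS.mem_fixStab_of_free hF hg (hv0 i) (v i).2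
      (by rw [e2]; exact (v _).2) fun m hm hmS hmx y hy => congrArg Subtype.val
        (hfree _ ⟨m, hmS⟩ hm (Subtype.ext (show m • (v _ : V) = v _ by rw [e2] at hmx; exact hmx))
          ⟨y, hy⟩)
    obtain ⟨t, ht, ht0, hgt⟩ := hS.eigen_conj hF hg hgS
    obtain ⟨σ, hσ⟩ := hF.semi g
    have hgproj : ∀ k, hS.proj k (g • w i) = (if 0 % s = k % s then g • (u i : V) else 0) +
        (if t % s = k % s then g • X ^ 1 • (v i : V) else 0) +
          if (t * 2) % s = k % s then σ θ • g • X ^ 2 • (v i : V) else 0 := fun k =>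
      hproj g i (σ θ) k _ _ _ (hσ θ _)
        (by have := hgt 0 _ (hu' i); rwa [mul_zero] at this)
        (by have := hgt 1 _ (hS.eigen_translate hF (hv' i) 1); rwa [mul_one] at this)
        (hgt 2 _ (hS.eigen_translate hF (hv' i) 2))
    have ht2 : (t * 2) % s ≠ 0 := fun h => by
      rcases hS.prime.dvd_mul.mp (Nat.dvd_of_mod_eq_zero h) with h | h
      · exact ht0 (Nat.eq_zero_of_dvd_of_lt h ht)
      · exact absurd (Nat.le_of_dvd two_pos h) (by omega)
  swap
  · -- inequivalence
    have h := hgproj 0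
    rw [e1, hprojw j 0 hS.prime.pos] at h
    simp [Nat.mod_eq_of_lt ht, ht0, ht2] at h
    exact hineq i j ⟨g, hgS⟩ hg (Subtype.ext e2) (Subtype.ext h.symm)
  have hgu : g • (u i : V) = u i := by
    have h := hgproj 0
    rw [e1, hprojw i 0 hS.prime.pos] at h
    simp [Nat.mod_eq_of_lt ht, ht0, ht2] at h
    exact h.symm
  have htriv : ∀ y : V, d • y = y → g • y = y := fun y hy =>
    congrArg Subtype.val (hstab i ⟨g, hgS⟩ hg (Subtype.ext e2) (Subtype.ext hgu) ⟨y, hy⟩)
  have hσid : ∀ k : K, σ k = k := fun k => by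
    have h := hσ k (v i : V)
    rw [htriv _ (hv' i), htriv _ (by rw [hS.dlin hF, hv' i])] at h
    have h' : (σ k - k) • (v i : V) = 0 := by rw [sub_smul, ← h, sub_self]
    exact sub_eq_zero.mp ((smul_eq_zero.mp h').resolve_right (hv0 i))
  obtain ⟨m, hm⟩ : ∃ m, m = g * X * g⁻¹ := ⟨_, rfl⟩
  have hmM : m ∈ M := hm ▸ hF.norm g hg X hS.X_mem
  have hgX : ∀ (l : ℕ) (y : V), g • X ^ l • y = m ^ l • g • y := fun l y => by
    rw [hm, conj_pow, mul_smul, mul_smul, inv_smul_smul]
  obtain ⟨κ, hκ0, hκ⟩ := hF.comm m hmM X hS.X_mem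
  have hκp := comm_pow_right hF hS.X_mem hκ
  have hg1 : g • X ^ 1 • (v i : V) = m • (v i : V) := by rw [hgX, pow_one, htriv _ (hv' i)]
  have hg2 : g • X ^ 2 • (v i : V) = m • m • (v i : V) := by
    rw [hgX, sq, mul_smul, htriv _ (hv' i)]
  have hcase : t = 1 ∨ (s = 3 ∧ t = 2) := by
    rcases (show t = 1 ∨ (s = 3 ∧ t = 2) ∨ t = 2 ∧ 4 ≤ s ∨ 3 ≤ t by omega) with h | h | h | h
    · exact Or.inl h
    · exact Or.inr h
    · exfalso
      obtain ⟨rfl, hs4⟩ := h
      have hs5 : 5 ≤ s := by
        rcases (show s = 4 ∨ 5 ≤ s by omega) with h | h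
        · have := hS.prime; rw [h] at this; norm_num at this
        · exact h
      have h := hgproj 4
      rw [e1, hprojw i 4 (by omega)] at h
      simp [Nat.mod_eq_of_lt (show 2 < s by omega), Nat.mod_eq_of_lt (show 4 < s by omega), hσid] at h
      exact (show θ • g • X ^ 2 • (v i : V) ≠ 0 from
        smul_ne_zero hθ0 (by rw [ne_eq, smul_eq_zero_iff_eq]; exact hXne 2 i)) (by simpa using h.symm)
    · exfalso
      have h := hgproj t
      rw [e1, hprojw i t ht, Nat.zero_mod, Nat.mod_eq_of_lt ht] at h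
      have : (t * 2) % s ≠ t := fun he => by
        rcases (show t * 2 < s ∨ s ≤ t * 2 by omega) with h' | h'
        · rw [Nat.mod_eq_of_lt h'] at he; omega
        · rw [Nat.mod_eq_sub_mod h', Nat.mod_eq_of_lt (by omega)] at he; omega
      simp [show t ≠ 0 by omega, show t ≠ 1 by omega, show t ≠ 2 by omega, show 0 ≠ t by omega, this] at h
      exact hXne 1 i (by simpa [smul_eq_zero_iff_eq] using h.symm)
  rcases hcase with rfl | ⟨rfl, rfl⟩
  · have h1 := hgproj 1
    have h2 := hgproj 2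
    rw [e1, hprojw i 1 (by omega)] at h1
    rw [e1, hprojw i 2 (by omega)] at h2
    simp [Nat.mod_eq_of_lt (show 1 < s by omega), Nat.mod_eq_of_lt (show 2 < s by omega)] at h1 h2
    rw [pow_one] at hg1
    rw [hg1] at h1
    rw [hσid, hg2] at h2
    have h2' := smul_right_injective V hθ0 h2
    have hm1M : X⁻¹ * m ∈ M := M.mul_mem (M.inv_mem hS.X_mem) hmM
    have hfixv : (X⁻¹ * m) • (v i : V) = v i := by rw [mul_smul, ← h1, inv_smul_smul]
    have hm1S : X⁻¹ * m ∈ fixStab V d :=
      hS.mem_fixStab_of hF hm1M (hv0 i) (hv' i) (by rw [hfixv]; exact hv' i)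
    have hW : ∀ y : V, d • y = y → m • y = X • y := fun y hy => by
      have h := congrArg Subtype.val (hfree i ⟨_, hm1S⟩ hm1M (Subtype.ext hfixv) ⟨y, hy⟩)
      change (X⁻¹ * m) • y = y at h
      rwa [mul_smul, inv_smul_eq_iff] at h
    have hκ1 : κ = 1 := by
      rw [← h1, hκ, ← h1, sq, mul_smul] at h2'
      have h' : (κ - 1) • (X • X • (v i : V)) = 0 := by rw [sub_smul, one_smul, ← h2', sub_self]
      exact sub_eq_zero.mp ((smul_eq_zero.mp h').resolve_right (by
        rw [smul_eq_zero_iff_eq, smul_eq_zero_iff_eq]; exact hv0 i))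
    intro x
    rw [show g • x = (1 : G) • x from ?_, one_smul]
    refine hS.ext_translates hF (fun l hl y hy => ?_) x
    rw [one_smul, hgX, htriv y hy]
    clear hl
    induction l with
    | zero => simp
    | succ l ih =>
      rw [pow_succ', mul_smul, ih, hκp, hκ1, one_pow, one_smul, hW y hy, pow_succ, mul_smul]
  · exfalso
    apply hθ3 rfl
    have h1 := hgproj 1
    have h2 := hgproj 2
    rw [e1, hprojw i 1 (by omega)] at h1
    rw [e1, hprojw i 2 (by omega)] at h2
    simp [hσid] at h1 h2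
    rw [pow_one] at hg1
    rw [hg1] at h2
    have hXl : ∀ (l l' : ℕ) (y : V), X ^ l • X ^ l' • y = X ^ (l + l') • y := fun l l' y => by
      rw [← mul_smul (α := G), ← pow_add]
    have hmm : m • m • (v i : V) = (θ ^ 2 * κ ^ 2 * ξ) • X ^ 1 • (v i : V) := by
      rw [← h2, hF.lin m hmM, hκp, ← h2, hS.Xlin hF, hXl,
        show X ^ (2 + 2) = X ^ 1 * X ^ 3 by rw [← pow_add], mul_smul (α := G), hS.X_pow, hS.Xlin hF,
        smul_smul, smul_smul, smul_smul]
      congr 1
      ring
    have hm3 : m • m • m • (v i : V) = (θ ^ 3 * κ ^ 3 * ξ ^ 2) • (v i : V) := by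
      rw [hmm, hF.lin m hmM, hκp, ← h2, hS.Xlin hF, hXl, show 1 + 2 = 3 from rfl, hS.X_pow, smul_smul,
        smul_smul, smul_smul]
      congr 1
      ring
    rw [hg2, hmm, smul_smul, pow_one] at h1
    have hc1 : θ * (θ ^ 2 * κ ^ 2 * ξ) = 1 := by
      have h' : (θ * (θ ^ 2 * κ ^ 2 * ξ) - 1) • (X • (v i : V)) = 0 := by
        rw [sub_smul, one_smul, ← h1, sub_self]
      exact sub_eq_zero.mp ((smul_eq_zero.mp h').resolve_right (by simpa using hXne 1 i))
    have h3 := hgX 3 (v i : V)
    rw [hS.X_pow, hσ, hσid, htriv _ (hv' i), pow_succ, pow_succ, pow_one, mul_smul, mul_smul, hm3] at h3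
    have hc2 : ξ = θ ^ 3 * κ ^ 3 * ξ ^ 2 := by
      have h' := sub_eq_zero.mpr h3
      rw [← sub_smul] at h'
      exact sub_eq_zero.mp ((smul_eq_zero.mp h').resolve_right (hv0 i))
    have hξ : ξ ≠ 0 := by
      rintro rfl
      have h0 := hS.X_pow (v i : V)
      rw [zero_smul, smul_eq_zero_iff_eq] at h0
      exact hv0 i h0
    have hκ1 : κ = 1 := mul_right_cancel₀ hξ (by linear_combination -hc2 - κ * ξ * hc1)
    subst hκ1
    linear_combination hc1

end IsSplit

end Cfsg.Agent.GStructB.CoprimeBase
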