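import Cfsg.Agent.GStructB.CoprimeBase.Cert
import Cfsg.Agent.GStructB.CoprimeBase.Normal

/-!
# Several pairs from one, by a map of prime order normalising `M`

The powers of a map of order `q` prime to the group move a pair with trivial stabilizer to
inequivalent pairs.
-/

set_option autoImplicit false
set_option linter.style.haveILetI false
set_option linter.unusedSectionVars false

open MulAction

namespace Cfsg.Agent.GStructB.CoprimeBase

universe u v w

/-- A map given by rows, with the images of the generators. -/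
structure TauData where
  /-- the rows -/
  R : Rows
  /-- the images of the generators -/
  zs : List ℕ

/-- The check: the map normalises the words and has order `q`. -/
def TauData.check (T : TauData) (q n : ℕ) (gs : List Rows) : Bool :=
  decide (IsRows n T.R) &&
    (List.range gs.length).all (fun b => decide (T.zs.getD b 0 < nWords q gs) &&
      (List.range n).all fun i => rowApp q T.R (rowApp q (gs.getD b []) (unitL n i)) ==
        wApp q gs (T.zs.getD b 0) (rowApp q T.R (unitL n i))) &&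
    ((List.range n).all fun i => (rowApp q T.R)^[q] (unitL n i) == unitL n i) &&
    ((List.range q).all fun d => d == 0 ||
      (List.range n).any fun i => (rowApp q T.R)^[d] (unitL n i) != unitL n i)

variable {K : Type u} [Field K] {G : Type v} [Group G] {V : Type w} [AddCommGroup V] [Module K V]
  [DistribMulAction G V] {M A : Subgroup G} {q n : ℕ} {gs : List Rows} {γ : ℕ → G} {e : ℕ → V}

/-- Maps agreeing on a basis of lists agree. -/
theorem Model.ext_units [CharP K q] (hM : Model K V M q n gs γ e) {f g : V →+ V}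
    (h : ∀ i < n, f (ev K n e (unitL n i)) = g (ev K n e (unitL n i))) (x : V) : f x = g x := by
  obtain ⟨l, -, rfl⟩ := hM.span x
  rw [ev, map_sum, map_sum]
  refine Finset.sum_congr rfl fun i hi => ?_
  have h' := h i (Finset.mem_range.mp hi)
  rw [ev_unitL n e (Finset.mem_range.mp hi)] at h'
  rw [map_natCast_smul f K K, map_natCast_smul g K K, h']

theorem ev_rowApp_lin {R : Rows} (hq : (q : K) = 0) (hR : IsRows n R) {x y z : List ℕ}
    (h : ∀ j < n, ((z.getD j 0 : ℕ) : K) = (x.getD j 0 : ℕ) + (y.getD j 0 : ℕ)) :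
    ev K n e (rowApp q R z) = ev K n e (rowApp q R x) + ev K n e (rowApp q R y) := by
  rw [ev, ev, ev, ← Finset.sum_add_distrib]
  refine Finset.sum_congr rfl fun i hi => ?_
  rw [← add_smul]
  congr 1
  rw [getD_rowApp hq, getD_rowApp hq, getD_rowApp hq, ← List.sum_map_add]
  refine congrArg List.sum (List.map_congr_left fun p hp => ?_)
  have hp2 : p.2 < n := by
    rw [List.getD_eq_getElem?_getD,
      List.getElem?_eq_getElem (by rw [hR.1]; exact Finset.mem_range.mp hi : i < R.length)] at hp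
    exact hR.2 _ (List.getElem_mem _) p hp
  rw [h p.2 hp2, mul_add]

/-- The map of a row list. -/
theorem Model.exists_rowHom [CharP K q] (hM : Model K V M q n gs γ e) {R : Rows} (hR : IsRows n R) :
    ∃ τ : AddMonoid.End V, ∀ l, IsVec q n l → τ (ev K n e l) = ev K n e (rowApp q R l) := by
  choose co hco1 hco2 using hM.span
  have hadd : ∀ x y : V, ev K n e (rowApp q R (co (x + y))) =
      ev K n e (rowApp q R (co x)) + ev K n e (rowApp q R (co y)) := by
    intro x y
    refine ev_rowApp_lin hM.q_zero hR fun j hj => ?_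
    have hz : co (x + y) = (List.range n).map fun j => ((co x).getD j 0 + (co y).getD j 0) % q := by
      refine hM.inj _ _ (hco1 _) ⟨by simp, fun a ha => ?_⟩ ?_
      · obtain ⟨j, -, rfl⟩ := List.mem_map.mp ha
        exact Nat.mod_lt _ hM.q_pos
      · rw [hco2]
        conv_lhs => rw [← hco2 x, ← hco2 y]
        rw [ev, ev, ev, ← Finset.sum_add_distrib]
        refine Finset.sum_congr rfl fun j hj => ?_
        rw [getD_map_range n j _ (Finset.mem_range.mp hj), cast_mod hM.q_zero, Nat.cast_add, add_smul]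
    rw [hz, getD_map_range n j _ hj, cast_mod hM.q_zero, Nat.cast_add]
  refine ⟨AddMonoidHom.mk' (fun x => ev K n e (rowApp q R (co x))) hadd, fun l hl => ?_⟩
  show ev K n e (rowApp q R (co (ev K n e l))) = _
  rw [hM.inj _ _ (hco1 _) hl (hco2 _)]

/-- A checked map. -/
theorem TauData.exists_map [Finite K] [CharP K q] (T : TauData) (hq : q.Prime) (hK : Nat.card K = q)
    (hF : Frame K V M A) (hM : Model K V M q n gs γ e) (h : T.check q n gs = true) :
    ∃ τ : AddMonoid.End V, (∀ l, IsVec q n l → τ (ev K n e l) = ev K n e (rowApp q T.R l)) ∧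
      Normalises M τ ∧ τ ^ q = 1 ∧ ∀ d, τ ^ d = 1 → q ∣ d := by
  simp only [TauData.check, Bool.and_eq_true, decide_eq_true_eq, List.all_eq_true, List.mem_range,
    beq_iff_eq, Bool.or_eq_true, List.any_eq_true, bne_iff_ne] at h
  obtain ⟨⟨⟨hR, hgen⟩, hpow⟩, hord⟩ := h
  obtain ⟨τ, hτ⟩ := hM.exists_rowHom hR
  have hit : ∀ (d : ℕ) (l : List ℕ), IsVec q n l →
      IsVec q n ((rowApp q T.R)^[d] l) ∧ (τ ^ d) (ev K n e l) = ev K n e ((rowApp q T.R)^[d] l) := by
    intro d
    induction d with
    | zero => exact fun l hl => ⟨hl, by simp⟩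
    | succ d ih =>
      intro l hl
      obtain ⟨h1, h2⟩ := ih l hl
      rw [Function.iterate_succ_apply', pow_succ']
      exact ⟨isVec_rowApp hM.q_pos hR _, by rw [AddMonoid.End.coe_mul, Function.comp_apply, h2, hτ _ h1]⟩
  refine ⟨τ, hτ, fun m hm => ?_, ?_, fun d hd => ?_⟩
  · let S : Subgroup G :=
      { carrier := {m | ∃ m' ∈ M, ∀ x : V, τ (m • x) = m' • τ x}
        one_mem' := ⟨1, M.one_mem, fun x => by rw [one_smul, one_smul]⟩
        mul_mem' := fun {a b} ⟨a', ha', ha⟩ ⟨b', hb', hb⟩ =>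
          ⟨a' * b', M.mul_mem ha' hb', fun x => by rw [mul_smul, mul_smul, ha, hb]⟩
        inv_mem' := fun {a} ⟨a', ha', ha⟩ => ⟨a'⁻¹, M.inv_mem ha', fun x => by
          rw [eq_inv_smul_iff, ← ha, smul_inv_smul]⟩ }
    have hγ : ∀ b < gs.length, γ b ∈ S := by
      intro b hb
      obtain ⟨hz, hrow⟩ := hgen b hb
      obtain ⟨m', hm', hml⟩ := hM.word_mem hF (hM.scalar_ne_zero hz)
      refine ⟨m', hm', fun x => ?_⟩
      refine hM.ext_units (f := AddMonoidHom.comp τ (DistribMulAction.toAddMonoidHom V (γ b)))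
        (g := (DistribMulAction.toAddMonoidHom V m').comp τ) (fun i hi => ?_) x
      show τ (γ b • ev K n e (unitL n i)) = m' • τ (ev K n e (unitL n i))
      have hu := isVec_unitL hM.q_two n i
      rw [hM.gen_ev hF hb, hτ _ (isVec_rowApp hM.q_pos (hM.rows _ (by
          rw [List.getD_eq_getElem?_getD, List.getElem?_eq_getElem hb]; exact List.getElem_mem hb)) _),
        hτ _ hu, hml _ (isVec_rowApp hM.q_pos hR _), hrow i hi]
    obtain ⟨m', ⟨m'', hm'', hm''x⟩, hmx⟩ := hM.exists_in hF S hγ (fun w hw ⟨k, hk⟩ => ⟨w, hw, fun x => by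
      obtain ⟨a, -, rfl⟩ := exists_natCast hq hK k
      rw [hk, hk, map_natCast_smul (τ : V →+ V) K K]⟩) hm
    exact ⟨m'', hm'', fun x => by rw [hmx]; exact hm''x x⟩
  · refine DFunLike.ext _ _ fun x => hM.ext_units (f := (τ ^ q : AddMonoid.End V)) (g := AddMonoidHom.id V)
      (fun i hi => ?_) x
    obtain ⟨-, h2⟩ := hit q (unitL n i) (isVec_unitL hM.q_two n i)
    exact h2.trans (congrArg (ev K n e) (hpow i hi))
  · have hq1 : τ ^ q = 1 := DFunLike.ext _ _ fun x => hM.ext_units (f := (τ ^ q : AddMonoid.End V))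
      (g := AddMonoidHom.id V) (fun i hi => by
        obtain ⟨-, h2⟩ := hit q (unitL n i) (isVec_unitL hM.q_two n i)
        exact h2.trans (congrArg (ev K n e) (hpow i hi))) x
    rw [← Nat.mod_add_div d q, pow_add, pow_mul, hq1, one_pow, mul_one] at hd
    by_contra hnd
    rcases hord (d % q) (Nat.mod_lt _ hM.q_pos) with h0 | ⟨i, hi, hne⟩
    · exact hnd (Nat.dvd_of_mod_eq_zero h0)
    · obtain ⟨h1, h2⟩ := hit (d % q) (unitL n i) (isVec_unitL hM.q_two n i)
      rw [hd] at h2
      exact hne (hM.inj _ _ h1 (isVec_unitL hM.q_two n i) h2.symm)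

/-- The orbit of a pair under a map of prime order prime to the group. -/
theorem pairs_of_map [Finite G] {p : ℕ} (hp : p.Prime) (hcop : (Nat.card A).Coprime p) (hF : Frame K V M A)
    {v u : V} (hfix : ∀ g : V →+ V, Normalises M g → g v = v → g u = u → ∀ x, g x = x)
    {τ : AddMonoid.End V} (hτ : Normalises M τ) (hτp : τ ^ p = 1) (hord : ∀ d, τ ^ d = 1 → p ∣ d)
    {i j : ℕ} (hi : i < p) (hj : j < p) {a : G} (ha : a ∈ A) (hv : a • (τ ^ i) v = (τ ^ j) v)
    (hu : a • (τ ^ i) u = (τ ^ j) u) : i = j ∧ ∀ x : V, a • x = x := by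
  have hpow : ∀ d, Normalises M (τ ^ d : AddMonoid.End V) := by
    intro d
    induction d with
    | zero => exact fun m hm => ⟨m, hm, fun x => rfl⟩
    | succ d ih => rw [pow_succ']; exact hτ.comp ih
  have hcancel : ∀ x : V, (τ ^ (p - j)) ((τ ^ j) x) = x := fun x => by
    rw [← Function.comp_apply (f := ⇑(τ ^ (p - j))), ← AddMonoid.End.coe_mul, ← pow_add,
      Nat.sub_add_cancel hj.le, hτp]
    rfl
  have hcancel' : ∀ x : V, (τ ^ j) ((τ ^ (p - j)) x) = x := fun x => by
    rw [← Function.comp_apply (f := ⇑(τ ^ j)), ← AddMonoid.End.coe_mul, ← pow_add,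
      Nat.add_sub_cancel' hj.le, hτp]
    rfl
  have hid := hfix ((τ ^ (p - j) : AddMonoid.End V).comp
      ((DistribMulAction.toAddMonoidHom V a).comp (τ ^ i : AddMonoid.End V)))
    ((hpow _).comp ((Normalises.ofMem hF ha).comp (hpow i)))
    (by show (τ ^ (p - j)) (a • (τ ^ i) v) = v; rw [hv, hcancel])
    (by show (τ ^ (p - j)) (a • (τ ^ i) u) = u; rw [hu, hcancel])
  have hax : ∀ x : V, a • x = (τ ^ (j + (p - i))) x := fun x => by
    have h := congrArg (fun y => (τ ^ j) y) (hid ((τ ^ (p - i)) x))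
    change (τ ^ j) ((τ ^ (p - j)) (a • (τ ^ i) ((τ ^ (p - i)) x))) = _ at h
    rw [hcancel', ← Function.comp_apply (f := ⇑(τ ^ i)), ← AddMonoid.End.coe_mul, ← pow_add,
      Nat.add_sub_cancel' hi.le, hτp, AddMonoid.End.coe_one, id_eq] at h
    rw [h, pow_add]
    rfl
  have haxk : ∀ (k : ℕ) (x : V), a ^ k • x = (τ ^ ((j + (p - i)) * k)) x := by
    intro k
    induction k with
    | zero => intro x; simp
    | succ k ih =>
      intro x
      rw [pow_succ', mul_smul, ih, hax, Nat.mul_succ, add_comm ((j + (p - i)) * k),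
        pow_add τ (j + (p - i))]
      rfl
  have hd : τ ^ ((j + (p - i)) * orderOf a) = 1 := DFunLike.ext _ _ fun x => by
    rw [← haxk, pow_orderOf_eq_one, one_smul]
    rfl
  have hdvd : p ∣ j + (p - i) := by
    rcases hp.dvd_mul.mp (hord _ hd) with h | h
    · exact h
    · exfalso
      have h1 : p ∣ Nat.card A := h.trans (by
        rw [← Subgroup.orderOf_mk a ha]
        exact orderOf_dvd_natCard _)
      exact hp.ne_one (Nat.dvd_one.mp (hcop ▸ Nat.dvd_gcd h1 dvd_rfl))
  obtain ⟨k, hk⟩ := hdvd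
  have hij : i = j := by
    rcases Nat.lt_or_ge k 2 with h | h
    · interval_cases k <;> omega
    · have : p * 2 ≤ p * k := Nat.mul_le_mul_left p h
      omega
  refine ⟨hij, fun x => ?_⟩
  rw [hax, ← hij, Nat.add_sub_cancel' hi.le, hτp]
  rfl

/-- The images of a free vector are free. -/
theorem free_map {p : ℕ} {τ : AddMonoid.End V} (hτ : Normalises M τ) (hτp : τ ^ p = 1) {v : V}
    (hv : Free V M v) {i : ℕ} (hi : i ≤ p) :
    Free V M ((τ ^ i) v) ∧ ∀ u : V, (∀ m ∈ M, m • v ≠ u) → ∀ m ∈ M, m • (τ ^ i) v ≠ (τ ^ i) u := by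
  have hpow : ∀ d, Normalises M (τ ^ d : AddMonoid.End V) := by
    intro d
    induction d with
    | zero => exact fun m hm => ⟨m, hm, fun x => rfl⟩
    | succ d ih => rw [pow_succ']; exact hτ.comp ih
  have hcancel : ∀ x : V, (τ ^ (p - i)) ((τ ^ i) x) = x := fun x => by
    rw [← Function.comp_apply (f := ⇑(τ ^ (p - i))), ← AddMonoid.End.coe_mul, ← pow_add,
      Nat.sub_add_cancel hi, hτp]
    rfl
  have hcancel' : ∀ x : V, (τ ^ i) ((τ ^ (p - i)) x) = x := fun x => by
    rw [← Function.comp_apply (f := ⇑(τ ^ i)), ← AddMonoid.End.coe_mul, ← pow_add,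
      Nat.add_sub_cancel' hi, hτp]
    rfl
  refine ⟨fun m hm e x => ?_, fun u hu m hm e => ?_⟩
  · obtain ⟨m', hm', h'⟩ := hpow (p - i) m hm
    have e' : m' • v = v := (congrArg (m' • ·) (hcancel v).symm).trans
      ((h' _).symm.trans ((congrArg (⇑(τ ^ (p - i))) e).trans (hcancel v)))
    exact (hcancel' (m • x)).symm.trans
      ((congrArg (⇑(τ ^ i)) ((h' x).trans (hv m' hm' e' _))).trans (hcancel' x))
  · obtain ⟨m', hm', h'⟩ := hpow (p - i) m hm
    exact hu m' hm' ((congrArg (m' • ·) (hcancel v).symm).trans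
      ((h' _).symm.trans ((congrArg (⇑(τ ^ (p - i))) e).trans (hcancel u))))

end Cfsg.Agent.GStructB.CoprimeBase
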