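import Cfsg.Agent.GStructB.CoprimeBase.Except

/-!
# The quasi-primitive step
-/

set_option autoImplicit false
set_option linter.style.haveILetI false
set_option linter.unusedSectionVars false

open MulAction

namespace Cfsg.Agent.GStructB.CoprimeBase

universe u

theorem prime_eq_of_card {K : Type u} [Field K] [Finite K] {p q : ℕ} [Fact p.Prime] [CharP K p]
    (hq : q.Prime) (hK : Nat.card K = q) : p = q := by
  haveI := Fintype.ofFinite K
  refine (Nat.prime_dvd_prime_iff_eq Fact.out hq).mp ?_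
  rw [← hK, Nat.card_eq_fintype_card (α := K)]
  exact (CharP.cast_eq_zero_iff K p _).mp (FiniteField.cast_card_eq_zero K)

variable {K : Type u} [Field K] [Finite K] {A : Type u} [Group A] [Finite A] {V : Type u} [AddCommGroup V]
  [Finite V] [Module K V] [DistribMulAction A V] [FaithfulSMul A V] [Nontrivial V] {M : Subgroup A}

/-- Tuples for the image give pairs for the group. -/
theorem Quasi.good_of_qq (hQ : Quasi K V M) {c : ℕ} (h2 : (2 : K) ≠ 0)
    (h : QQ V c hQ.bigM hQ.toSemi.range) : Good c A V := by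
  obtain ⟨v, u, h1, hst, hneq⟩ := h
  refine ⟨fun i => (v i, u i), fun i => ?_, fun i a ha x => ?_, fun i j a ha => ?_⟩
  · exact hQ.frame.ne_zero_of_free (k := (-1 : K)) (neg_ne_zero.mpr one_ne_zero)
      (fun h => h2 (by linear_combination -h)) (h1 i).1
  · rw [← hQ.toSemi_smul]
    exact hst i _ ⟨a, rfl⟩ (by rw [hQ.toSemi_smul]; exact congrArg Prod.fst ha)
      (by rw [hQ.toSemi_smul]; exact congrArg Prod.snd ha) x
  · exact hneq i j _ ⟨a, rfl⟩ (by rw [hQ.toSemi_smul]; exact congrArg Prod.fst ha)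
      (by rw [hQ.toSemi_smul]; exact congrArg Prod.snd ha)

/-- The quasi-primitive step. -/
theorem good_quasi {p : ℕ} [Fact p.Prime] (hp : p ≠ 2) (hs : Group.IsSolvable A)
    (hcop : (Nat.card A).Coprime p) (hexp : ∀ x : V, p • x = 0)
    (ih : ∀ m < Nat.card V, MainOK.{u} p m) (hQ : Quasi K V M) : Good (cnum p) A V := by
  obtain ⟨x₀, hx₀⟩ := exists_ne (0 : V)
  haveI : CharP K p := by
    refine (CharP.charP_iff_prime_eq_zero (Fact.out : p.Prime)).mpr ?_
    have h := hexp x₀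
    rw [← Nat.cast_smul_eq_nsmul K, smul_eq_zero] at h
    exact h.resolve_right hx₀
  haveI : Module.Finite K V := Module.Finite.of_finite
  haveI : Finite (AddMonoid.End V) :=
    Finite.of_injective (fun f : AddMonoid.End V => (f : V → V)) DFunLike.coe_injective
  have h2 : (2 : K) ≠ 0 := two_ne_zero_of_char hp
  have hc : cnum p ≤ 5 := by rcases cnum_cases p with h | h <;> omega
  have hc3 : p = 3 → cnum p ≤ 3 := fun h => by simp [cnum, h]
  rcases (show Module.finrank K V = 1 ∨ 2 ≤ Module.finrank K V by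
    have : 0 < Module.finrank K V := Module.finrank_pos
    omega) with h1 | hdim
  · exact good_dim_one hp (fun a => by
      obtain ⟨σ, hσ⟩ := hQ.semi a
      exact ⟨σ.toRingHom, hσ⟩) h1
  by_cases hsmall : Module.finrank K V = 2 ∧ (Nat.card K = 3 ∨ Nat.card K = 5)
  · obtain ⟨hn, h3 | h5⟩ := hsmall
    · have hp3 := prime_eq_of_card (p := p) Nat.prime_three h3
      exact good_dim_two (h3.trans hp3.symm) (Or.inl hp3) hcop hn
    · have hp5 := prime_eq_of_card (p := p) (by norm_num) h5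
      exact good_dim_two (h5.trans hp5.symm) (Or.inr hp5) hcop hn
  have h7 : ∀ z ∈ hQ.bigM, ¬ IsScal K V z → Module.finrank K V = 2 → 7 ≤ Nat.card K := fun z _ _ hn =>
    seven_le hp (fun h => hsmall ⟨hn, Or.inl h⟩) fun h => hsmall ⟨hn, Or.inr h⟩
  have hF := hQ.frame
  haveI := hs
  have hs' : Group.IsSolvable hQ.toSemi.range :=
    Group.isSolvable_of_surjective hQ.toSemi.rangeRestrict_surjective
  have hcop' : (Nat.card hQ.toSemi.range).Coprime p :=
    hcop.coprime_dvd_left (Subgroup.card_range_dvd hQ.toSemi)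
  by_cases hsr : Semireg V hQ.bigM
  · refine hQ.good_of_qq h2 ?_
    by_cases hcase : (∀ z ∈ hQ.bigM, IsScal K V z) ∨ Module.finrank K V ≠ 2
    · exact qq_semireg_cent hp hc hF hsr hdim hcase hQ.hcent
    · push Not at hcase
      obtain ⟨⟨z, hz, hns⟩, hn⟩ := hcase
      obtain ⟨⟨y, hy⟩, -⟩ := hsr.four hF h2 hz hns
      exact qq_dim_two hp hc hc3 hF hy hn (h7 z hz hns hn) hcop'
  obtain ⟨x₁, hx₁, z, hz, hzx, hzne⟩ : ∃ x₁ : V, x₁ ≠ 0 ∧
      ∃ z ∈ hQ.bigM, z • x₁ = x₁ ∧ ∃ x : V, z • x ≠ x := by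
    unfold Semireg Free at hsr
    push Not at hsr
    exact hsr
  obtain ⟨s, d, X, ζ, ξ, hS⟩ := exists_split hF hz hx₁ hzx hzne
  have hb3 : BaseThree.{u} := baseThree
  have hb5 : BaseFive.{u} := baseFive
  rcases node_split hp hF hs' hcop' hexp hQ.sqCond h7 hS ih
      (fun G' _ _ V' _ _ _ _ M' A' _ hF' hs'' hcop'' hexp' hmain' h1 h2' h3' =>
        node hp hb3 hb5 _ G' V' M' A' rfl hF' hs'' hcop'' hexp' hmain' h1 h2' h3') with h | ⟨hs2, -, hexW⟩
  · exact hQ.good_of_qq h2 h
  have hn := hS.finrank_two hF hs2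
  rcases hexW with ⟨h3, h | h⟩ | ⟨h5, h⟩
  · have h4 : Exc4 K V hQ.bigM :=
      ⟨by have := h.1; omega, s, d, X, ζ, ξ, hS, hS.dlin hF, h⟩
    have hp3 := prime_eq_of_card (p := p) Nat.prime_three h3
    subst hp3
    rcases model_four hF h3 h4 with ⟨γ, e, hM⟩ | ⟨γ, e, hM⟩
    · obtain ⟨f, hf0, hf⟩ := pairs_four_minus hF h3 hcop' hM
      refine ⟨f, hf0, fun i a ha x => ?_, fun i j a ha => ?_⟩
      · rw [← hQ.toSemi_smul]
        exact (hf i i _ ⟨a, rfl⟩ (by rw [hQ.toSemi_smul]; exact congrArg Prod.fst ha)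
          (by rw [hQ.toSemi_smul]; exact congrArg Prod.snd ha)).2 x
      · exact (hf i j _ ⟨a, rfl⟩ (by rw [hQ.toSemi_smul]; exact congrArg Prod.fst ha)
          (by rw [hQ.toSemi_smul]; exact congrArg Prod.snd ha)).1
    · exact (hQ.not_plus_four h3 hs hcop hM).elim
  · have hp3 := prime_eq_of_card (p := p) Nat.prime_three h3
    subst hp3
    have h8 : Module.finrank K V = 8 := by have := h.1; omega
    obtain ⟨v, u, b, hv, -⟩ := hb3 K (semiUnits K V) V hQ.bigM hQ.toSemi.range hF h3 hcop' h8 s d X ζ ξ hS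
      (hS.dlin hF) h
    show Good 3 A V
    rcases model_eight hF h3 h8 hS h with ⟨γ, e, hM⟩ | ⟨γ, e, hM⟩
    · exact hQ.good_eight h3 hs hcop h8 hM (by decide) (hv 0).1
    · exact hQ.good_eight h3 hs hcop h8 hM (by decide) (hv 0).1
  · have hp5 := prime_eq_of_card (p := p) (show Nat.Prime 5 by norm_num) h5
    subst hp5
    exact hQ.good_of_qq h2 (hb5 K (semiUnits K V) V hQ.bigM hQ.toSemi.range hF h5 hcop' hQ.sqCond
      (by have := h.1; omega) s d X ζ ξ hS (hS.dlin hF) h)

end Cfsg.Agent.GStructB.CoprimeBase
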