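import Cfsg.Agent.GStructB.CoprimeBase.Quasi
import Cfsg.Agent.GStructB.CoprimeBase.Node

/-!
# The frame of the quasi-primitive setting

Inside the semilinear units, the class two subgroup times the scalars and the image of the group form
a frame.
-/

set_option autoImplicit false
set_option linter.style.haveILetI false
set_option linter.unusedSectionVars false

open MulAction

namespace Cfsg.Agent.GStructB.CoprimeBase

universe u

variable (K : Type u) [Field K] (V : Type u) [AddCommGroup V] [Module K V]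

/-- The semilinear units. -/
def semiUnits : Subgroup (AddMonoid.End V)ˣ where
  carrier := {g | ∃ σ : K ≃+* K, ∀ (k : K) (x : V), g • k • x = σ k • g • x}
  one_mem' := ⟨RingEquiv.refl K, fun k x => by simp⟩
  mul_mem' := by
    rintro g h ⟨σ, hσ⟩ ⟨τ, hτ⟩
    exact ⟨τ.trans σ, fun k x => by rw [mul_smul, hτ, hσ, mul_smul, RingEquiv.trans_apply]⟩
  inv_mem' := by
    rintro g ⟨σ, hσ⟩
    exact ⟨σ.symm, fun k x => by rw [inv_smul_eq_iff, hσ, RingEquiv.apply_symm_apply, smul_inv_smul]⟩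

variable {K V}

theorem semiUnits_ext {g h : semiUnits K V} (e : ∀ x : V, g • x = h • x) : g = h :=
  Subtype.ext (Units.ext (AddMonoidHom.ext e))

/-- A scalar as a semilinear unit. -/
def scalUnit (k : Kˣ) : semiUnits K V :=
  ⟨{ val := DistribMulAction.toAddMonoidEnd K V (k : K)
     inv := DistribMulAction.toAddMonoidEnd K V ((k⁻¹ : Kˣ) : K)
     val_inv := by rw [← map_mul, Units.mul_inv, map_one]
     inv_val := by rw [← map_mul, Units.inv_mul, map_one] },
    RingEquiv.refl K, fun l x => show (k : K) • l • x = l • (k : K) • x from smul_comm _ _ _⟩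

theorem scalUnit_smul (k : Kˣ) (x : V) : scalUnit (V := V) k • x = (k : K) • x := rfl

variable {A : Type u} [Group A] [DistribMulAction A V] {M : Subgroup A}

namespace Quasi

variable (hQ : Quasi K V M)
include hQ

/-- The map into the semilinear units. -/
def toSemi : A →* semiUnits K V :=
  ((DistribMulAction.toAddMonoidEnd A V).toHomUnits).codRestrict (semiUnits K V) fun g => hQ.semi g

theorem toSemi_smul (g : A) (x : V) : hQ.toSemi g • x = g • x := rfl

/-- The class two subgroup times the scalars. -/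
def bigM : Subgroup (semiUnits K V) where
  carrier := {g | ∃ m ∈ M, ∃ k : Kˣ, ∀ x : V, g • x = (k : K) • m • x}
  one_mem' := ⟨1, M.one_mem, 1, fun x => by simp⟩
  mul_mem' := by
    rintro g h ⟨m, hm, k, hg⟩ ⟨m', hm', k', hh⟩
    refine ⟨m * m', M.mul_mem hm hm', k * k', fun x => ?_⟩
    rw [mul_smul, hh, hg, hQ.lin m hm, smul_smul, Units.val_mul, mul_smul m m']
  inv_mem' := by
    rintro g ⟨m, hm, k, hg⟩
    refine ⟨m⁻¹, M.inv_mem hm, k⁻¹, fun x => ?_⟩
    rw [inv_smul_eq_iff, hg, hQ.lin m hm, smul_inv_smul, smul_smul, ← Units.val_mul, mul_inv_cancel,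
      Units.val_one, one_smul]

theorem mem_bigM {g : semiUnits K V} :
    g ∈ hQ.bigM ↔ ∃ m ∈ M, ∃ k : Kˣ, ∀ x : V, g • x = (k : K) • m • x := Iff.rfl

theorem toSemi_mem {m : A} (hm : m ∈ M) : hQ.toSemi m ∈ hQ.bigM :=
  ⟨m, hm, 1, fun x => by rw [Units.val_one, one_smul, hQ.toSemi_smul]⟩

theorem pow_bigM {g : semiUnits K V} {m : A} (hm : m ∈ M) {k : Kˣ} (h : ∀ x : V, g • x = (k : K) • m • x) :
    ∀ (j : ℕ) (x : V), g ^ j • x = (k : K) ^ j • m ^ j • x := by
  intro j
  induction j with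
  | zero => intro x; simp
  | succ j ih =>
    intro x
    rw [pow_succ, mul_smul, h, ih, hQ.lin _ (M.pow_mem hm j), smul_smul, ← pow_succ, ← mul_smul (α := A),
      ← pow_succ]

/-- Powers of prime order of scalars. -/
theorem expo [Nontrivial V] [FaithfulSMul A V] {m : A} (hm : m ∈ M) {s : ℕ}
    (h : IsScal K V (m ^ (s * s))) : IsScal K V (m ^ s) := by
  haveI := hQ.normal
  let S : Set A := {z | z ∈ M ∧ ∃ y ∈ M, IsScal K V (y ^ (s * s)) ∧ z = y ^ s}
  have hSM : Subgroup.closure S ≤ M := (Subgroup.closure_le M).mpr fun z hz => hz.1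
  have hcomm : ∀ z ∈ S, ∀ z' ∈ S, z * z' = z' * z := by
    rintro _ ⟨-, y, hy, ⟨a, ha⟩, rfl⟩ _ ⟨-, y', hy', -, rfl⟩
    obtain ⟨c, hc0, hc⟩ := hQ.comm y hy y' hy'
    have hl : ∀ (i : ℕ) (x : V), y • y' ^ i • x = c ^ i • y' ^ i • y • x := by
      intro i
      induction i with
      | zero => intro x; simp
      | succ i ih => intro x; rw [pow_succ, mul_smul, ih, hc, hQ.lin _ (M.pow_mem hy' i), smul_smul,
          ← pow_succ, ← mul_smul (α := A), ← pow_succ]
    have hll : ∀ (j i : ℕ) (x : V), y ^ j • y' ^ i • x = c ^ (j * i) • y' ^ i • y ^ j • x := by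
      intro j
      induction j with
      | zero => intro i x; simp
      | succ j ih =>
        intro i x
        rw [pow_succ, mul_smul, hl, hQ.lin _ (M.pow_mem hy j), ih, smul_smul, ← pow_add, mul_smul (y ^ j),
          Nat.succ_mul, add_comm]
    obtain ⟨x₀, hx₀⟩ := exists_ne (0 : V)
    have hcs : c ^ (s * s) = 1 := by
      have h1 := hll (s * s) 1 x₀
      rw [pow_one, mul_one, ha, ha, hQ.lin y' hy', smul_smul] at h1
      have hne : y' • x₀ ≠ 0 := by rwa [ne_eq, smul_eq_zero_iff_eq]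
      have ha0 : a ≠ 0 := by
        rintro rfl
        have h' := ha x₀
        rw [zero_smul, smul_eq_zero_iff_eq] at h'
        exact hx₀ h'
      have h2 : (c ^ (s * s) * a - a) • (y' • x₀) = 0 := by rw [sub_smul, ← h1, sub_self]
      exact mul_right_cancel₀ ha0 ((sub_eq_zero.mp ((smul_eq_zero.mp h2).resolve_right hne)).trans (one_mul a).symm)
    refine eq_of_smul_eq_smul fun x : V => ?_
    rw [mul_smul, mul_smul, hll s s x, hcs, one_smul]
  have hab : ∀ z ∈ Subgroup.closure S, ∀ z' ∈ Subgroup.closure S, z * z' = z' * z := by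
    have hle : Subgroup.closure S ≤ Subgroup.centralizer (Subgroup.closure S : Set A) := by
      rw [Subgroup.closure_le]
      intro z hz
      rw [SetLike.mem_coe, Subgroup.mem_centralizer_iff]
      intro w hw
      have : Subgroup.closure S ≤ Subgroup.centralizer {z} := by
        rw [Subgroup.closure_le]
        intro z' hz'
        rw [SetLike.mem_coe, Subgroup.mem_centralizer_iff]
        rintro _ rfl
        exact hcomm _ hz _ hz'
      exact (Subgroup.mem_centralizer_iff.mp (this hw) z rfl).symm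
    exact fun z hz z' hz' => (Subgroup.mem_centralizer_iff.mp (hle hz) z' hz').symm
  have hn : (Subgroup.closure S).Normal := by
    refine ⟨fun z hz g => ?_⟩
    induction hz using Subgroup.closure_induction with
    | mem z hz =>
      obtain ⟨hzM, y, hy, ⟨a, ha⟩, rfl⟩ := hz
      refine Subgroup.subset_closure ⟨hQ.normal.conj_mem _ hzM g, g * y * g⁻¹, hQ.normal.conj_mem _ hy g,
        ?_, by rw [conj_pow]⟩
      obtain ⟨σ, hσ⟩ := hQ.semi g
      exact ⟨σ a, fun x => by rw [conj_pow, mul_smul, mul_smul, ha, hσ, smul_inv_smul]⟩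
    | one => simp
    | mul a b _ _ iha ihb => rw [show g * (a * b) * g⁻¹ = g * a * g⁻¹ * (g * b * g⁻¹) by group]; exact mul_mem iha ihb
    | inv a _ iha => rw [show g * a⁻¹ * g⁻¹ = (g * a * g⁻¹)⁻¹ by group]; exact inv_mem iha
  exact hQ.iso _ hn hSM hab _ (Subgroup.subset_closure ⟨M.pow_mem hm s, m, hm, h, rfl⟩)

/-- The frame. -/
theorem frame [Nontrivial V] [FaithfulSMul A V] : Frame K V hQ.bigM hQ.toSemi.range where
  semi g := by
    obtain ⟨σ, hσ⟩ := g.2
    exact ⟨σ.toRingHom, hσ⟩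
  lin := by
    rintro g ⟨m, hm, k, hg⟩ l x
    rw [hg, hg, hQ.lin m hm, smul_comm]
  scal k hk := ⟨scalUnit (Units.mk0 k hk), ⟨1, M.one_mem, Units.mk0 k hk,
    fun x => by rw [scalUnit_smul, one_smul]⟩, fun x => scalUnit_smul (Units.mk0 k hk) x⟩
  comm := by
    rintro g ⟨m, hm, k, hg⟩ h ⟨m', hm', k', hh⟩
    obtain ⟨c, hc0, hc⟩ := hQ.comm m hm m' hm'
    refine ⟨c, hc0, fun z => ?_⟩
    rw [hh z, hg ((k' : K) • m' • z), hg z, hh ((k : K) • m • z), hQ.lin m hm, hQ.lin m' hm', hc]
    simp only [← mul_smul (α := K)]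
    congr 1
    ring
  centre := by
    rintro g ⟨m, hm, k, hg⟩ hcen
    obtain ⟨-, l, hl⟩ := hQ.cent m (hQ.lin m hm) fun y hy x => by
      have h := hcen _ (hQ.toSemi_mem hy) x
      rw [hg, hQ.toSemi_smul, hg, hQ.toSemi_smul, hQ.lin y hy] at h
      exact smul_right_injective V (Units.ne_zero k) h
    exact ⟨(k : K) * l, fun x => by rw [hg, hl, smul_smul]⟩
  expo := by
    rintro g ⟨m, hm, k, hg⟩ s - ⟨a, ha⟩
    obtain ⟨b, hb⟩ := hQ.expo hm (s := s) ⟨((k : K) ^ (s * s))⁻¹ * a, fun x => by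
      rw [mul_smul, ← ha, hQ.pow_bigM hm hg, smul_smul, inv_mul_cancel₀ (pow_ne_zero _ (Units.ne_zero k)),
        one_smul]⟩
    exact ⟨(k : K) ^ s * b, fun x => by rw [hQ.pow_bigM hm hg, hb, smul_smul]⟩
  norm := by
    rintro _ ⟨a, rfl⟩ g ⟨m, hm, k, hg⟩
    obtain ⟨σ, hσ⟩ := hQ.semi a
    refine ⟨a * m * a⁻¹, hQ.normal.conj_mem m hm a, Units.map σ.toRingHom.toMonoidHom k, fun x => ?_⟩
    rw [mul_smul, mul_smul, hg, hQ.toSemi_smul, ← map_inv, hQ.toSemi_smul, hσ, mul_smul, mul_smul]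
    rfl

/-- A linear element times an element of `M` centralizing `M` is scalar. -/
theorem hcent [Nontrivial V] [FaithfulSMul A V] : ∀ a ∈ hQ.toSemi.range,
    (∀ (k : K) (x : V), a • k • x = k • a • x) → ∀ w ∈ hQ.bigM,
      (∀ z ∈ hQ.bigM, ∀ x : V, (a * w) • z • x = z • (a * w) • x) → IsScal K V (a * w) := by
  rintro _ ⟨a, rfl⟩ hlin w ⟨m, hm, k, hw⟩ hcomm
  have hla : ∀ (l : K) (x : V), a • l • x = l • a • x := fun l x => by
    rw [← hQ.toSemi_smul, hlin, hQ.toSemi_smul]
  have haw : ∀ x : V, (hQ.toSemi a * w) • x = (k : K) • (a * m) • x := fun x => by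
    rw [mul_smul, hw, hQ.toSemi_smul, hla, mul_smul]
  obtain ⟨-, l, hl⟩ := hQ.cent (a * m) (fun l x => by rw [mul_smul, mul_smul, hQ.lin m hm, hla])
    fun y hy x => by
      have h := hcomm _ (hQ.toSemi_mem hy) x
      rw [haw, haw, hQ.toSemi_smul, hQ.toSemi_smul, hQ.lin y hy] at h
      exact smul_right_injective V (Units.ne_zero k) h
  exact ⟨(k : K) * l, fun x => by rw [haw, hl, smul_smul]⟩

end Quasi

end Cfsg.Agent.GStructB.CoprimeBase
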